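import Cfsg.Statements.S0146
import Mathlib
import Cfsg.Agent.Lead.IndFun

set_option autoImplicit false
open Cfsg

namespace Cfsg.Agent.S0146

open scoped ComplexConjugate

/-- Frobenius reciprocity for the induction map on functions: pairing the induced function with a class function of the big group equals pairing the original function with the restriction. -/
theorem result {G : Type*} [Group G] [Fintype G] (H : Subgroup G) [Fintype H] (θ : H → ℂ) (χ : G → ℂ) (hχ : Cfsg.IsClassFunction G χ) : Cfsg.classInner (Cfsg.indFun H θ) χ = Cfsg.classInner θ (fun h : H => χ h) := by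
  classical
  unfold Cfsg.classInner Cfsg.indFun
  have hG : (Nat.card G : ℂ) ≠ 0 := Lead.natCard_ne_zero_complex G
  have hH : (Nat.card H : ℂ) ≠ 0 := Lead.natCard_ne_zero_complex H
  have key : ∀ x : G, ∑ g : G, Cfsg.extendByZero H θ (x⁻¹ * g * x) * conj (χ g)
      = ∑ h : H, θ h * conj (χ h) := by
    intro x
    rw [← Lead.sum_extendByZero_mul H θ (fun g => conj (χ g))]
    rw [← Lead.sum_conj_reindex x (fun g => Cfsg.extendByZero H θ g * conj (χ g))]
    refine Finset.sum_congr rfl (fun g _ => ?_)
    have : χ (x⁻¹ * g * x) = χ g := by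
      have := hχ g x⁻¹
      simpa using this
    simp only [this]
  have h1 : ∑ g : G, ((Nat.card H : ℂ)⁻¹ * ∑ x : G, Cfsg.extendByZero H θ (x⁻¹ * g * x)) * conj (χ g)
      = (Nat.card H : ℂ)⁻¹ * ∑ x : G, ∑ g : G, Cfsg.extendByZero H θ (x⁻¹ * g * x) * conj (χ g) := by
    rw [Finset.sum_comm, Finset.mul_sum]
    refine Finset.sum_congr rfl (fun g _ => ?_)
    rw [mul_assoc, Finset.sum_mul]
  rw [h1]
  simp only [key]
  rw [Finset.sum_const, Finset.card_univ, nsmul_eq_mul, ← Nat.card_eq_fintype_card]
  field_simp


end Cfsg.Agent.S0146
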