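import Cfsg.Statements.S0148
import Mathlib
import Cfsg.Agent.Lead.CharCore5
import Cfsg.Agent.Lead.IndFun2
import Cfsg.Agent.S0146

set_option autoImplicit false
open Cfsg

namespace Cfsg.Agent.S0148

/-- Inducing a character of a subgroup yields a character of the whole group. -/
theorem result {G : Type*} [Group G] [Fintype G] (H : Subgroup G) (θ : H → ℂ) (hθ : Cfsg.IsCharacter H θ) : Cfsg.IsCharacter G (Cfsg.indFun H θ) := by
  classical
  have : Fintype H := Fintype.ofFinite H
  have : Finite (Cfsg.IrrCharacter G) := Lead.finite_irrCharacter G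
  have : Fintype (Cfsg.IrrCharacter G) := Fintype.ofFinite _
  have hcf := Lead.indFun_isClassFunction H θ
  have h1 := Lead.classFunction_eq_finsum (Cfsg.indFun H θ) hcf
  rw [finsum_eq_sum_of_fintype] at h1
  rw [h1]
  apply Lead.isCharacter_sum
  intro χ _
  have h2 : Cfsg.classInner (Cfsg.indFun H θ) (χ : G → ℂ)
      = Cfsg.classInner θ (fun h : H => (χ : G → ℂ) h) :=
    Cfsg.Agent.S0146.result H θ _ (Lead.isClassFunction_irr χ)
  obtain ⟨k, hk⟩ := Lead.classInner_isCharacter_nat hθ
    (Lead.isCharacter_res H (Lead.isCharacter_of_isIrrCharacter χ.2))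
  rw [h2, hk]
  exact Lead.isCharacter_nsmul k (Lead.isCharacter_of_isIrrCharacter χ.2)


end Cfsg.Agent.S0148
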