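import Cfsg.Statements.S0193
import Mathlib
import Cfsg.Agent.Lead.CharConj
import Cfsg.Agent.S0146

set_option autoImplicit false
open Cfsg

namespace Cfsg.Agent.S0193

/-- Let H be a normal subgroup of a finite group G and θ an irreducible character of H. Then |H| times the inner product of the induced function of θ with itself equals the number of g in G with θ(g h g⁻¹) = θ(h) for all h in H; in particular the induced character is irreducible when only elements of H stabilise θ. -/
theorem result {G : Type*} [Group G] [Fintype G] (H : Subgroup G) [hN : H.Normal] (θ : H → ℂ) (hθ : Cfsg.IsIrrCharacter H θ) : (Nat.card H : ℂ) * Cfsg.classInner (Cfsg.indFun H θ) (Cfsg.indFun H θ) = (Nat.card {g : G // ∀ h : H, θ ⟨g * h * g⁻¹, hN.conj_mem h h.2 g⟩ = θ h} : ℂ) := by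
  classical
  have : Fintype H := Fintype.ofFinite H
  have hH : (Nat.card H : ℂ) ≠ 0 := Lead.natCard_ne_zero_complex H
  have h1 : Cfsg.classInner (Cfsg.indFun H θ) (Cfsg.indFun H θ)
      = Cfsg.classInner θ (fun h : H => Cfsg.indFun H θ h) :=
    Cfsg.Agent.S0146.result H θ _ (Lead.indFun_isClassFunction H θ)
  rw [h1, Lead.indFun_res_normal H θ, Lead.classInner_smul_right, Lead.classInner_sum_right]
  have h2 : ∀ g : G, Cfsg.classInner θ (Lead.conjFun H θ g)
      = if θ = Lead.conjFun H θ g then 1 else 0 := by
    intro g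
    have h3 := Lead.classInner_irr (⟨θ, hθ⟩ : Cfsg.IrrCharacter H)
      ⟨Lead.conjFun H θ g, Lead.isIrrCharacter_conjFun H hθ g⟩
    rw [h3]
    simp only [Subtype.mk.injEq]
  simp only [h2]
  rw [Finset.sum_boole, map_inv₀ (starRingEnd ℂ), Complex.conj_natCast]
  rw [← mul_assoc, mul_inv_cancel₀ hH, one_mul]
  congr 1
  rw [← Fintype.card_subtype, ← Nat.card_eq_fintype_card]
  exact Nat.card_congr (Equiv.subtypeEquivRight (fun g =>
    ⟨fun h' h => (congrFun h' h).symm, fun h' => funext (fun h => (h' h).symm)⟩))


end Cfsg.Agent.S0193
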