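import Cfsg.Statements.S0147
import Mathlib
import Cfsg.Agent.Lead.IndFun

set_option autoImplicit false
open Cfsg

namespace Cfsg.Agent.S0147

/-- Transitivity of induction: inducing from H to K and then from K to G is the same as inducing from H to G. -/
theorem result {G : Type*} [Group G] [Fintype G] (H K : Subgroup G) [Fintype K] (hHK : H ≤ K) (θ : H → ℂ) : Cfsg.indFun K (Cfsg.indFun (H.subgroupOf K) (fun x => θ ⟨(x : K), Subgroup.mem_subgroupOf.mp x.2⟩)) = Cfsg.indFun H θ := by
  classical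
  funext g
  have hK : (Nat.card K : ℂ) ≠ 0 := Lead.natCard_ne_zero_complex K
  have hcard : Nat.card (H.subgroupOf K) = Nat.card H :=
    Nat.card_congr (Subgroup.subgroupOfEquivOfLe hHK).toEquiv
  have key1 : ∀ w : G, Cfsg.extendByZero K (Cfsg.indFun (H.subgroupOf K)
        (fun x => θ ⟨(x : K), Subgroup.mem_subgroupOf.mp x.2⟩)) w
      = (Nat.card H : ℂ)⁻¹ * ∑ y : K, Cfsg.extendByZero H θ ((y : G)⁻¹ * w * y) := by
    intro w
    by_cases hw : w ∈ K
    · rw [Lead.extendByZero_mem K _ hw]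
      unfold Cfsg.indFun
      rw [hcard]
      congr 1
      refine Finset.sum_congr rfl (fun y _ => ?_)
      by_cases h : (y : G)⁻¹ * w * y ∈ H
      · have hm : (y⁻¹ * ⟨w, hw⟩ * y : K) ∈ H.subgroupOf K :=
          Subgroup.mem_subgroupOf.mpr (by simpa using h)
        rw [Lead.extendByZero_mem H θ h, Lead.extendByZero_mem _ _ hm]
        rfl
      · have hm : (y⁻¹ * ⟨w, hw⟩ * y : K) ∉ H.subgroupOf K := by
          intro h'
          exact h (by simpa using Subgroup.mem_subgroupOf.mp h')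
        rw [Lead.extendByZero_not_mem H θ h, Lead.extendByZero_not_mem _ _ hm]
    · rw [Lead.extendByZero_not_mem K _ hw]
      symm
      rw [mul_eq_zero]; right
      refine Finset.sum_eq_zero (fun y _ => ?_)
      apply Lead.extendByZero_not_mem
      intro h
      apply hw
      have h2 := hHK h
      have := K.mul_mem (K.mul_mem y.2 h2) (K.inv_mem y.2)
      simpa [mul_assoc] using this
  show (Nat.card K : ℂ)⁻¹ * ∑ x : G, Cfsg.extendByZero K _ (x⁻¹ * g * x)
    = (Nat.card H : ℂ)⁻¹ * ∑ x : G, Cfsg.extendByZero H θ (x⁻¹ * g * x)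
  simp only [key1]
  rw [← Finset.mul_sum, Finset.sum_comm]
  have key2 : ∀ y : K, ∑ x : G, Cfsg.extendByZero H θ ((y:G)⁻¹ * (x⁻¹ * g * x) * y)
      = ∑ x : G, Cfsg.extendByZero H θ (x⁻¹ * g * x) := by
    intro y
    refine Fintype.sum_equiv (Equiv.mulRight (y : G)) _ _ (fun x => ?_)
    simp [mul_assoc]
  simp only [key2]
  rw [Finset.sum_const, Finset.card_univ, nsmul_eq_mul, ← Nat.card_eq_fintype_card]
  field_simp


end Cfsg.Agent.S0147
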