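import Mathlib
import Cfsg.Agent.Helper2.DetChar
import Cfsg.Agent.Helper2.CharN6
import Cfsg.Agent.Helper2.LinExt
import Cfsg.Statements.S0862

set_option autoImplicit false
open Cfsg

namespace Cfsg.Agent.S0862

/-- Let N be a normal subgroup of the finite group G and ϑ an irreducible character of N of degree d coprime to the index of N, which is the restriction of some irreducible character of G. Let μ be a character of G of degree 1 whose restriction to N is the determinantal character of ϑ. Then there is exactly one irreducible character χ of G restricting to ϑ whose determinantal character is μ. -/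
theorem result {G : Type*} [Group G] [Finite G] (N : Subgroup G) [N.Normal] (ϑ : N → ℂ) (hϑ : Cfsg.IsIrrCharacter N ϑ) (d : ℕ) (hd : ϑ 1 = d) (hcop : Nat.Coprime N.index d) (hext : ∃ η : G → ℂ, Cfsg.IsIrrCharacter G η ∧ (∀ n : N, η n = ϑ n)) (μ : G → ℂ) (hμ : Cfsg.IsCharacter G μ ∧ μ 1 = 1) (hμN : ∀ n : N, μ n = Cfsg.detChar ϑ n) : ∃! χ : G → ℂ, Cfsg.IsIrrCharacter G χ ∧ (∀ n : N, χ n = ϑ n) ∧ Cfsg.detChar χ = μ := by
  classical
  haveI : Fintype G := Fintype.ofFinite G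
  have hNn : N.Normal := inferInstance
  obtain ⟨η, hη, hηN⟩ := hext
  obtain ⟨n, ρ, hi, rfl⟩ := hη
  have hn : n = d := by
    have h1 := hηN 1
    rw [hd] at h1
    have h2 : ρ.character ((1 : N) : G) = (n : ℂ) := by
      rw [Subgroup.coe_one, Representation.char_one, Module.finrank_fin_fun]
    rw [h2] at h1
    exact_mod_cast h1
  subst hn
  let ρN : Representation ℂ N (Fin n → ℂ) := MonoidHom.comp ρ N.subtype
  have hρNchar : ρN.character = ϑ := by
    funext x
    exact hηN x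
  have hiN : ρN.IsIrreducible :=
    Cfsg.Agent.Helper2.DetChar.isIrreducible_of_character_irr ρN (by rw [hρNchar]; exact hϑ)
  have hdetϑ : ∀ x : N, detChar ϑ x = LinearMap.det (ρ x) := by
    intro x
    rw [← hρNchar, Cfsg.Agent.Helper2.DetChar.detChar_eq_of_irr ρN hiN]
    rfl
  let δ : G →* ℂˣ :=
    ((LinearMap.det : ((Fin n → ℂ) →ₗ[ℂ] (Fin n → ℂ)) →* ℂ).comp ρ).toHomUnits
  have hδ : ∀ g, ((δ g : ℂˣ) : ℂ) = LinearMap.det (ρ g) := fun g => rfl
  let μh : G →* ℂˣ := Cfsg.Agent.Helper2.LinExt.toUnitsHom μ hμ.1 hμ.2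
  have hμh : ∀ g, ((μh g : ℂˣ) : ℂ) = μ g := fun g => rfl
  let ν : G →* ℂˣ := μh / δ
  have hνdef : ∀ g, ν g = μh g / δ g := fun g => rfl
  have hνN : ∀ x : N, ν x = 1 := by
    intro x
    rw [hνdef, div_eq_one]
    apply Units.ext
    rw [hμh, hδ, hμN, hdetϑ]
  have hm0 : N.index ≠ 0 := Subgroup.index_ne_zero_of_finite
  have htrivm : ∀ (f : G →* ℂˣ), (∀ x : N, f x = 1) → ∀ g, f g ^ N.index = 1 := by
    intro f hf g
    rw [← map_pow]
    exact hf ⟨g ^ N.index, Subgroup.pow_index_mem N g⟩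
  have hνm := htrivm ν hνN
  obtain ⟨c, hc⟩ : ∃ c : ℕ, ∀ g, (ν g ^ c) ^ n = ν g := by
    by_cases hm1 : N.index = 1
    · refine ⟨0, fun g => ?_⟩
      have h1 := hνm g
      rw [hm1, pow_one] at h1
      rw [h1]
      simp
    · have hm1' : 1 < N.index := by omega
      obtain ⟨c, _, hc⟩ := Nat.exists_mul_mod_eq_one_of_coprime hcop.symm hm1'
      refine ⟨c, fun g => ?_⟩
      rw [← pow_mul, mul_comm c n]
      have h1 : n * c = N.index * (n * c / N.index) + 1 := by
        have h2 := Nat.div_add_mod (n * c) N.index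
        omega
      rw [h1, pow_succ, pow_mul, hνm g, one_pow, one_mul]
  let β : G →* ℂˣ := ν ^ c
  have hβ : ∀ g, β g ^ n = ν g := fun g => hc g
  have hβN : ∀ x : N, β x = 1 := by
    intro x
    show ν x ^ c = 1
    rw [hνN, one_pow]
  have hβm := htrivm β hβN
  set χ : G → ℂ := (fun g => ((β g : ℂˣ) : ℂ)) * ρ.character with hχ
  have hχirr : IsIrrCharacter G χ := by
    rw [hχ, ← Cfsg.Agent.Helper2.DetChar.twist_character]
    exact ⟨n, Cfsg.Agent.Helper2.DetChar.twist ρ β,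
      Cfsg.Agent.Helper2.DetChar.twist_isIrreducible ρ β hi, rfl⟩
  have hχN : ∀ x : N, χ x = ϑ x := by
    intro x
    rw [hχ, Pi.mul_apply, hβN x, hηN x]
    simp
  have hχdet : detChar χ = μ := by
    rw [hχ, Cfsg.Agent.Helper2.DetChar.detChar_twist ρ hi β]
    funext g
    rw [← Units.val_pow_eq_pow_val, hβ g, ← hδ g, ← Units.val_mul, hνdef, div_mul_cancel, hμh]
  refine ⟨χ, ⟨hχirr, hχN, hχdet⟩, ?_⟩
  rintro χ' ⟨hχ'irr, hχ'N, hχ'det⟩
  haveI : Fintype N := Fintype.ofFinite N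
  have hρc : IsCharacter G ρ.character := ⟨n, ρ, rfl⟩
  have hϑ1 : ϑ 1 ≠ 0 := by
    obtain ⟨k, hk0, hk⟩ := Cfsg.Agent.Lead.isIrrCharacter_one_eq_nat hϑ
    rw [hk]
    exact_mod_cast hk0.ne'
  have hρ1 : ρ.character 1 ≠ 0 := by
    have h1 := hηN 1
    rw [Subgroup.coe_one] at h1
    rw [h1]
    exact hϑ1
  have hρNeq : (fun x : N => ρ.character x) = ϑ := funext hηN
  have hρNirr : IsIrrCharacter N (fun x : N => ρ.character x) := by
    rw [hρNeq]
    exact hϑ
  have hne : classInner (fun x : N => χ' x) (fun x : N => ρ.character x) ≠ 0 := by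
    have h1 : (fun x : N => χ' x) = ϑ := funext hχ'N
    rw [h1, hρNeq, Cfsg.Agent.Lead.classInner_self_of_isIrrCharacter hϑ]
    exact one_ne_zero
  obtain ⟨β', hβ'irr, hβ'N, hχ'eq⟩ :=
    Cfsg.Agent.Helper2.CharN.gallagher_ext N ρ.character hρc hρ1 hρNirr χ' hχ'irr hne
  have hβ'1 : β' 1 = 1 := by
    have h1 := hχ'N 1
    rw [hχ'eq, Pi.mul_apply, Subgroup.coe_one] at h1
    have h2 := hηN 1
    rw [Subgroup.coe_one] at h2
    rw [h2] at h1
    exact mul_right_cancel₀ hϑ1 (h1.trans (one_mul _).symm)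
  let β'h : G →* ℂˣ := Cfsg.Agent.Helper2.LinExt.toUnitsHom β'
    (Cfsg.Agent.Lead.isCharacter_of_isIrrCharacter hβ'irr) hβ'1
  have hβ'h : ∀ g, ((β'h g : ℂˣ) : ℂ) = β' g := fun g => rfl
  have hχ'eq2 : χ' = (fun g => ((β'h g : ℂˣ) : ℂ)) * ρ.character := hχ'eq
  have hdet' : ∀ g, β'h g ^ n = ν g := by
    intro g
    have h1 := congrFun hχ'det g
    rw [hχ'eq2, Cfsg.Agent.Helper2.DetChar.detChar_twist ρ hi β'h] at h1
    rw [hνdef, eq_div_iff_mul_eq']
    apply Units.ext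
    rw [Units.val_mul, Units.val_pow_eq_pow_val, hδ, hμh]
    exact h1
  have hβ'N1 : ∀ x : N, β'h x = 1 := by
    intro x
    apply Units.ext
    rw [hβ'h]
    have h1 := hβ'N x 1
    rw [mul_one] at h1
    rw [h1, hβ'1]
    rfl
  have hβ'm := htrivm β'h hβ'N1
  have heq : ∀ g, β'h g = β g := by
    intro g
    have h1 : (β'h g / β g) ^ n = 1 := by rw [div_pow, hdet' g, hβ g, div_self']
    have h2 : (β'h g / β g) ^ N.index = 1 := by rw [div_pow, hβ'm, hβm, div_one]
    have h3 : (β'h g / β g) ^ (Nat.gcd N.index n) = 1 := pow_gcd_eq_one.mpr ⟨h2, h1⟩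
    rw [Nat.Coprime.gcd_eq_one hcop, pow_one] at h3
    exact div_eq_one.mp h3
  rw [hχ'eq2, hχ]
  funext g
  rw [Pi.mul_apply, Pi.mul_apply, heq g]


end Cfsg.Agent.S0862
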