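import Cfsg.Statements.S0154
import Mathlib
import Cfsg.Agent.Lead.CharLin2
import Cfsg.Agent.Lead.CharCore6
import Cfsg.Agent.S0133

set_option autoImplicit false
open Cfsg

namespace Cfsg.Agent.S0154

/-- A finite group has exactly as many irreducible complex characters of degree 1 as the index of its commutator subgroup. -/
theorem result {G : Type*} [Group G] [Finite G] : Nat.card {χ : Cfsg.IrrCharacter G // (χ : G → ℂ) 1 = 1} = (commutator G).index := by
  classical
  have hA : ∀ a b : Abelianization G, a * b = b * a := mul_comm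
  have hcardA : Nat.card (Cfsg.IrrCharacter (Abelianization G)) = (commutator G).index := by
    rw [Cfsg.Agent.S0133.result]
    exact (Nat.card_congr (ConjClasses.mkEquiv (α := Abelianization G))).symm
  rw [← hcardA]
  symm
  have hsurj : Function.Surjective (Abelianization.of : G →* Abelianization G) :=
    fun a => QuotientGroup.mk_surjective a
  have hker : ∀ x y : G, Abelianization.of x = Abelianization.of y → x⁻¹ * y ∈ commutator G := by
    intro x y hxy
    rw [← Abelianization.ker_of, MonoidHom.mem_ker, map_mul, map_inv, hxy, inv_mul_cancel]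
  let Φ : Cfsg.IrrCharacter (Abelianization G) → {χ : Cfsg.IrrCharacter G // (χ : G → ℂ) 1 = 1} :=
    fun ψ => ⟨⟨(ψ : Abelianization G → ℂ) ∘ (Abelianization.of : G →* Abelianization G),
      Lead.isIrrCharacter_of_one
        (Lead.isCharacter_comp Abelianization.of (Lead.isCharacter_of_isIrrCharacter ψ.2))
        (by
          simp only [Function.comp_apply, map_one]
          exact Lead.irrCharacter_one_of_comm hA ψ)⟩, by
          simp only [Function.comp_apply, map_one]
          exact Lead.irrCharacter_one_of_comm hA ψ⟩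
  apply Nat.card_congr (Equiv.ofBijective Φ ⟨?_, ?_⟩)
  · intro ψ₁ ψ₂ h
    apply Subtype.ext
    funext a
    obtain ⟨x, rfl⟩ := hsurj a
    have h2 := congrArg
      (fun χ : {χ : Cfsg.IrrCharacter G // (χ : G → ℂ) 1 = 1} => (χ.1 : G → ℂ) x) h
    exact h2
  · rintro ⟨χ, hχ1⟩
    have hchar := Lead.isCharacter_of_isIrrCharacter χ.2
    have hmul := Lead.isCharacter_linear_mul hchar hχ1
    have hconst : ∀ x y : G, Abelianization.of x = Abelianization.of y →
        (χ : G → ℂ) x = (χ : G → ℂ) y :=
      fun x y hxy => Lead.linear_eq_of_commutator hchar hχ1 x y (hker x y hxy)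
    let ψ : Abelianization G → ℂ := fun a => (χ : G → ℂ) (hsurj a).choose
    have hψπ : ∀ x, ψ (Abelianization.of x) = (χ : G → ℂ) x :=
      fun x => hconst _ _ (hsurj (Abelianization.of x)).choose_spec
    have hψmul : ∀ a b, ψ (a * b) = ψ a * ψ b := by
      intro a b
      obtain ⟨x, rfl⟩ := hsurj a
      obtain ⟨y, rfl⟩ := hsurj b
      rw [← map_mul, hψπ, hψπ, hψπ, hmul]
    have hψ1 : ψ 1 = 1 := by
      rw [← map_one (Abelianization.of : G →* Abelianization G), hψπ, hχ1]
    have hψirr : Cfsg.IsIrrCharacter (Abelianization G) ψ :=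
      Lead.isIrrCharacter_of_one (Lead.isCharacter_of_mul ψ hψ1 hψmul) hψ1
    refine ⟨⟨ψ, hψirr⟩, ?_⟩
    apply Subtype.ext
    apply Subtype.ext
    funext x
    exact hψπ x


end Cfsg.Agent.S0154
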