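import Mathlib
import Cfsg.Agent.Helper2.LinExt
import Cfsg.Statements.S0864

set_option autoImplicit false
open Cfsg

namespace Cfsg.Agent.S0864

/-- Let N be a normal subgroup of the finite group G and λ a character of N of degree 1 invariant under conjugation by G. Suppose that for every prime p dividing the order of λ (in the group of functions under pointwise multiplication) there is a subgroup H containing N, of index prime to p and with the index of N in H a power of p, together with a character of H of degree 1 restricting to λ. Then λ is the restriction of a character of G of degree 1. -/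
theorem result {G : Type*} [Group G] [Finite G] (N : Subgroup G) [hN : N.Normal] (lam : N → ℂ) (hlam : Cfsg.IsCharacter N lam ∧ lam 1 = 1) (hinv : ∀ (g : G) (n : N), lam ⟨g * n * g⁻¹, hN.conj_mem (n : G) n.2 g⟩ = lam n) (hsyl : ∀ p : ℕ, p.Prime → p ∣ orderOf lam → ∃ (H : Subgroup G) (hNH : N ≤ H) (ν : H → ℂ), Nat.Coprime H.index p ∧ (∃ k : ℕ, N.relIndex H = p ^ k) ∧ Cfsg.IsCharacter H ν ∧ ν 1 = 1 ∧ ∀ n : N, ν ⟨(n : G), hNH n.2⟩ = lam n) : ∃ μ : G → ℂ, Cfsg.IsCharacter G μ ∧ μ 1 = 1 ∧ ∀ n : N, μ n = lam n := by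
  classical
  obtain ⟨hlamc, hlam1⟩ := hlam
  set ϕ := Cfsg.Agent.Helper2.LinExt.toUnitsHom lam hlamc hlam1 with hϕ
  have hϕv : ∀ n : N, ((ϕ n : ℂˣ) : ℂ) = lam n := fun n => rfl
  have hϕinv : ∀ (g : G) (n : N), ϕ ⟨g * n * g⁻¹, hN.conj_mem (n : G) n.2 g⟩ = ϕ n := by
    intro g n
    apply Units.ext
    exact hinv g n
  set o := orderOf lam with ho
  have hlamcard : lam ^ Nat.card N = 1 := by
    funext n
    rw [Pi.pow_apply, Pi.one_apply, ← hϕv, ← Units.val_pow_eq_pow_val, ← map_pow,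
      pow_card_eq_one', map_one, Units.val_one]
  have ho_pos : 0 < o := by
    have h1 : o ∣ Nat.card N := orderOf_dvd_of_pow_eq_one hlamcard
    exact Nat.pos_of_dvd_of_pos h1 Nat.card_pos
  have hϕo : ∀ n : N, ϕ n ^ o = 1 := by
    intro n
    have h2 : lam ^ o = 1 := pow_orderOf_eq_one lam
    have h3 := congrFun h2 n
    rw [Pi.pow_apply, Pi.one_apply] at h3
    apply Units.ext
    rw [Units.val_pow_eq_pow_val, hϕv, h3, Units.val_one]
  let S : AddSubgroup ℤ :=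
    { carrier := {k | ∃ ψ : G →* ℂˣ, ∀ n : N, ψ (n : G) = ϕ n ^ k}
      zero_mem' := ⟨1, fun n => by simp⟩
      add_mem' := by
        rintro a b ⟨ψ₁, h₁⟩ ⟨ψ₂, h₂⟩
        exact ⟨ψ₁ * ψ₂, fun n => by rw [MonoidHom.mul_apply, h₁, h₂, zpow_add]⟩
      neg_mem' := by
        rintro a ⟨ψ₁, h₁⟩
        exact ⟨ψ₁⁻¹, fun n => by rw [MonoidHom.inv_apply, h₁, zpow_neg]⟩ }
  have hSmem : ∀ k : ℤ, k ∈ S ↔ ∃ ψ : G →* ℂˣ, ∀ n : N, ψ (n : G) = ϕ n ^ k :=
    fun k => Iff.rfl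
  have hoS : ((o : ℕ) : ℤ) ∈ S := by
    rw [hSmem]
    exact ⟨1, fun n => by rw [zpow_natCast, hϕo]; rfl⟩
  have hprime : ∀ p : ℕ, p.Prime → p ∣ o → ∃ mp : ℕ, ((mp : ℕ) : ℤ) ∈ S ∧ ¬ p ∣ mp := by
    intro p hp hpo
    obtain ⟨H, hNH, ν, hcop, _, hνc, hν1, hνN⟩ := hsyl p hp hpo
    set νh := Cfsg.Agent.Helper2.LinExt.toUnitsHom ν hνc hν1 with hνh
    have hνϕ : ∀ n : N, νh ⟨(n : G), hNH n.2⟩ = ϕ n := by
      intro n
      apply Units.ext
      exact hνN n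
    refine ⟨H.index, ?_, ?_⟩
    · rw [hSmem]
      refine ⟨MonoidHom.transfer νh, fun n => ?_⟩
      rw [zpow_natCast]
      exact Cfsg.Agent.Helper2.LinExt.transfer_apply_of_invariant' N H hNH ϕ νh hνϕ hϕinv n
    · exact (Nat.Prime.coprime_iff_not_dvd hp).mp hcop.symm
  have hex : ∃ k : ℕ, 0 < k ∧ ((k : ℕ) : ℤ) ∈ S := ⟨o, ho_pos, hoS⟩
  have hk := Nat.find_spec hex
  have hkmin : ∀ j : ℕ, 0 < j → ((j : ℕ) : ℤ) ∈ S → Nat.find hex ≤ j :=
    fun j h1 h2 => Nat.find_min' hex ⟨h1, h2⟩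
  set k := Nat.find hex with hkdef
  have hkdvd : ∀ s : ℕ, ((s : ℕ) : ℤ) ∈ S → k ∣ s := by
    intro s hs
    by_contra hnd
    have h1 : 0 < s % k := Nat.pos_of_ne_zero (fun h => hnd (Nat.dvd_of_mod_eq_zero h))
    have h2 : (((s % k : ℕ) : ℕ) : ℤ) ∈ S := by
      have h3 : (((s % k : ℕ) : ℕ) : ℤ) = (s : ℤ) - ((s / k : ℕ) : ℤ) • (k : ℤ) := by
        have h4 := Nat.div_add_mod s k
        have h5 : (k : ℤ) * ((s / k : ℕ) : ℤ) + ((s % k : ℕ) : ℤ) = (s : ℤ) := by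
          exact_mod_cast h4
        rw [smul_eq_mul]
        linarith
      rw [h3]
      exact S.sub_mem hs (S.zsmul_mem hk.2 _)
    have h4 := hkmin _ h1 h2
    have h5 := Nat.mod_lt s hk.1
    omega
  have hk1 : k = 1 := by
    by_contra hne
    obtain ⟨p, hp, hpk⟩ := Nat.exists_prime_and_dvd hne
    have hpo : p ∣ o := hpk.trans (hkdvd o hoS)
    obtain ⟨mp, hmpS, hpm⟩ := hprime p hp hpo
    exact hpm (hpk.trans (hkdvd mp hmpS))
  have h1S : (1 : ℤ) ∈ S := by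
    have h := hk.2
    rw [hk1] at h
    exact_mod_cast h
  obtain ⟨ψ, hψ⟩ := (hSmem 1).mp h1S
  have hψc := Cfsg.Agent.Helper2.LinExt.isCharacter_of_hom ψ
  refine ⟨fun g => ((ψ g : ℂˣ) : ℂ), hψc.1, hψc.2, fun n => ?_⟩
  show ((ψ (n : G) : ℂˣ) : ℂ) = lam n
  rw [hψ n, zpow_one]
  exact hϕv n


end Cfsg.Agent.S0864
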