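import Mathlib
import Cfsg.Agent.Helper2.CharN4
import Cfsg.Agent.S0193
import Cfsg.Agent.S0148
import Cfsg.Statements.S0854

set_option autoImplicit false
open Cfsg

namespace Cfsg.Agent.S0854

/-- Let H be a normal subgroup of the finite group G, ϑ an irreducible character of H, and T the inertia group of ϑ (the elements g with ϑ(g n g⁻¹) = ϑ(n) for all n in H). If χ is an irreducible character of G whose restriction to H has nonzero inner product with ϑ, then χ is induced from some irreducible character ψ of T, and the restrictions of ψ and of χ to H have the same inner product with ϑ. -/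
theorem result {G : Type*} [Group G] [Fintype G] (H : Subgroup G) [hN : H.Normal] [Fintype H] (ϑ : H → ℂ) (hϑ : Cfsg.IsIrrCharacter H ϑ) (T : Subgroup G) [Fintype T] (hT : ∀ g : G, g ∈ T ↔ ∀ n : H, ϑ ⟨g * n * g⁻¹, hN.conj_mem (n : G) n.2 g⟩ = ϑ n) (hHT : H ≤ T) (χ : G → ℂ) (hχ : Cfsg.IsIrrCharacter G χ) (hcon : Cfsg.classInner (fun n : H => χ n) ϑ ≠ 0) : ∃ ψ : T → ℂ, Cfsg.IsIrrCharacter T ψ ∧ Cfsg.indFun T ψ = χ ∧ Cfsg.classInner (fun n : H => ψ ⟨(n : G), hHT n.2⟩) ϑ = Cfsg.classInner (fun n : H => χ n) ϑ := by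
  classical
  have hχc := Cfsg.Agent.Lead.isCharacter_of_isIrrCharacter hχ
  have hχcf := Cfsg.Agent.Lead.isCharacter_isClassFunction hχc
  let H' : Subgroup T := H.subgroupOf T
  haveI hH'n : H'.Normal := Subgroup.normal_subgroupOf
  haveI : Fintype H' := Fintype.ofFinite _
  let e : H' ≃* H := Subgroup.subgroupOfEquivOfLe hHT
  let ϑ' : H' → ℂ := fun x => ϑ ⟨((x : T) : G), Subgroup.mem_subgroupOf.mp x.2⟩
  have hϑ'e : ϑ' = ϑ ∘ e := rfl
  have hϑ' : Cfsg.IsIrrCharacter H' ϑ' := by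
    rw [hϑ'e]
    exact Cfsg.Agent.Lead.isIrrCharacter_comp_mulEquiv e hϑ
  have hϑ'c := Cfsg.Agent.Lead.isCharacter_of_isIrrCharacter hϑ'
  have hϑ'inv : ∀ (t : T) (n : H'),
      ϑ' ⟨t * n * t⁻¹, hH'n.conj_mem (n : T) n.2 t⟩ = ϑ' n := by
    intro t n
    exact (hT (t : G)).mp t.2 ⟨((n : T) : G), Subgroup.mem_subgroupOf.mp n.2⟩
  have hs := Cfsg.Agent.Helper2.CharN.inner_ind_invariant H' hϑ' hϑ'inv
  have hcardH : Nat.card H' = Nat.card H := Nat.card_congr e.toEquiv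
  have hG : Cfsg.classInner (Cfsg.indFun H ϑ) (Cfsg.indFun H ϑ) = (H'.index : ℂ) := by
    have h := Cfsg.Agent.S0193.result H ϑ hϑ
    have hcard : Nat.card {g : G // ∀ h : H, ϑ ⟨g * h * g⁻¹, hN.conj_mem h h.2 g⟩ = ϑ h}
        = Nat.card T :=
      Nat.card_congr (Equiv.subtypeEquivRight (fun g => (hT g).symm))
    rw [hcard] at h
    have h2 : (Nat.card T : ℂ) = (Nat.card H : ℂ) * (H'.index : ℂ) := by
      rw [← hcardH]
      exact_mod_cast (Subgroup.card_mul_index H').symm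
    rw [h2] at h
    exact mul_left_cancel₀ (Cfsg.Agent.Lead.natCard_ne_zero_complex H) h
  haveI : Finite (Cfsg.IrrCharacter T) := Cfsg.Agent.Lead.finite_irrCharacter T
  haveI : Fintype (Cfsg.IrrCharacter T) := Fintype.ofFinite _
  have hindc : Cfsg.IsCharacter T (Cfsg.indFun H' ϑ') := Cfsg.Agent.S0148.result H' ϑ' hϑ'c
  have hexf : ∀ ψ : Cfsg.IrrCharacter T, ∃ k : ℕ,
      Cfsg.classInner (Cfsg.indFun H' ϑ') (ψ : T → ℂ) = (k : ℂ) :=
    fun ψ => Cfsg.Agent.Lead.classInner_isCharacter_nat hindc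
      (Cfsg.Agent.Lead.isCharacter_of_isIrrCharacter ψ.2)
  choose f hf using hexf
  have hdecT : Cfsg.indFun H' ϑ' = ∑ ψ : Cfsg.IrrCharacter T, (f ψ : ℂ) • (ψ : T → ℂ) := by
    have h1 := Cfsg.Agent.Lead.classFunction_eq_finsum (Cfsg.indFun H' ϑ')
      (Cfsg.Agent.Lead.indFun_isClassFunction H' ϑ')
    rw [finsum_eq_sum_of_fintype] at h1
    refine h1.trans ?_
    exact Finset.sum_congr rfl (fun ψ _ => by rw [hf])
  have hfsum : ∑ ψ : Cfsg.IrrCharacter T, (f ψ) ^ 2 = H'.index := by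
    have h2 : Cfsg.classInner (Cfsg.indFun H' ϑ') (Cfsg.indFun H' ϑ')
        = ∑ ψ : Cfsg.IrrCharacter T, ((f ψ : ℂ)) ^ 2 := by
      conv_lhs => arg 1; rw [hdecT]
      rw [Cfsg.Agent.Lead.classInner_sum_left]
      refine Finset.sum_congr rfl (fun ψ _ => ?_)
      rw [Cfsg.Agent.Lead.classInner_smul_left, ← Cfsg.Agent.Lead.classInner_conj_symm, hf,
        Complex.conj_natCast]
      ring
    rw [h2] at hs
    exact_mod_cast hs
  have hdecG : Cfsg.indFun H ϑ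
      = ∑ ψ : Cfsg.IrrCharacter T, (f ψ : ℂ) • Cfsg.indFun T (ψ : T → ℂ) := by
    have h1 := Cfsg.Agent.S0147.result H T hHT ϑ
    rw [← h1]
    show Cfsg.indFun T (Cfsg.indFun H' ϑ') = _
    rw [hdecT, Cfsg.Agent.Helper2.CharN.indFun_sum_smul]
  have hψGc : ∀ ψ : Cfsg.IrrCharacter T, Cfsg.IsCharacter G (Cfsg.indFun T (ψ : T → ℂ)) :=
    fun ψ => Cfsg.Agent.S0148.result T ψ (Cfsg.Agent.Lead.isCharacter_of_isIrrCharacter ψ.2)
  have hexm : ∀ ψ ψ' : Cfsg.IrrCharacter T, ∃ k : ℕ,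
      Cfsg.classInner (Cfsg.indFun T (ψ : T → ℂ)) (Cfsg.indFun T (ψ' : T → ℂ)) = (k : ℂ) :=
    fun ψ ψ' => Cfsg.Agent.Lead.classInner_isCharacter_nat (hψGc ψ) (hψGc ψ')
  choose m hm using hexm
  have hm1 : ∀ ψ : Cfsg.IrrCharacter T, 1 ≤ m ψ ψ := by
    intro ψ
    have h1 : Cfsg.classInner (Cfsg.indFun T (ψ : T → ℂ)) (Cfsg.indFun T (ψ : T → ℂ)) ≠ 0 := by
      apply Cfsg.Agent.Helper2.CharN.classInner_self_ne_zero
      obtain ⟨d, hd0, hd⟩ := Cfsg.Agent.Lead.isIrrCharacter_one_eq_nat ψ.2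
      rw [Cfsg.Agent.Lead.indFun_one, hd]
      have hidx : T.index ≠ 0 := Subgroup.index_ne_zero_of_finite
      exact mul_ne_zero (by exact_mod_cast hidx) (by exact_mod_cast hd0.ne')
    rw [hm] at h1
    have h2 : m ψ ψ ≠ 0 := by exact_mod_cast h1
    omega
  have hinnerG : ∀ χ' : G → ℂ, Cfsg.classInner (Cfsg.indFun H ϑ) χ'
      = ∑ ψ : Cfsg.IrrCharacter T,
          (f ψ : ℂ) * Cfsg.classInner (Cfsg.indFun T (ψ : T → ℂ)) χ' := by
    intro χ'
    rw [hdecG, Cfsg.Agent.Lead.classInner_sum_left]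
    exact Finset.sum_congr rfl (fun ψ _ => Cfsg.Agent.Lead.classInner_smul_left _ _ _)
  have hmsum : ∑ ψ : Cfsg.IrrCharacter T, ∑ ψ' : Cfsg.IrrCharacter T, f ψ * f ψ' * m ψ ψ'
      = ∑ ψ : Cfsg.IrrCharacter T, (f ψ) ^ 2 := by
    rw [hfsum]
    have h1 := hG
    rw [hinnerG] at h1
    have h2 : ∀ ψ : Cfsg.IrrCharacter T,
        (f ψ : ℂ) * Cfsg.classInner (Cfsg.indFun T (ψ : T → ℂ)) (Cfsg.indFun H ϑ)
          = ∑ ψ' : Cfsg.IrrCharacter T, ((f ψ * f ψ' * m ψ ψ' : ℕ) : ℂ) := by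
      intro ψ
      rw [hdecG, Cfsg.Agent.Lead.classInner_sum_right, Finset.mul_sum]
      refine Finset.sum_congr rfl (fun ψ' _ => ?_)
      rw [Cfsg.Agent.Lead.classInner_smul_right, Complex.conj_natCast, hm]
      push_cast
      ring
    rw [Finset.sum_congr rfl (fun ψ _ => h2 ψ)] at h1
    exact_mod_cast h1
  obtain ⟨hdiag, hoff⟩ := Cfsg.Agent.Helper2.CharN.orthonormal_of_sum_eq f m hm1 hmsum
  have hne : Cfsg.classInner (Cfsg.indFun H ϑ) χ ≠ 0 := by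
    rw [Cfsg.Agent.S0146.result H ϑ χ hχcf, ← Cfsg.Agent.Lead.classInner_conj_symm]
    intro h
    exact hcon ((map_eq_zero (starRingEnd ℂ)).mp h)
  have hne' := hne
  rw [hinnerG] at hne'
  obtain ⟨ψ, _, hψ⟩ := Finset.exists_ne_zero_of_sum_ne_zero hne'
  have h0 : f ψ ≠ 0 := by
    intro h
    apply hψ
    rw [h]
    simp
  have h2 : Cfsg.classInner (Cfsg.indFun T (ψ : T → ℂ)) χ ≠ 0 := by
    intro h
    apply hψ
    rw [h, mul_zero]
  have hirrψ : Cfsg.IsIrrCharacter G (Cfsg.indFun T (ψ : T → ℂ)) := by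
    apply Cfsg.Agent.Lead.isIrrCharacter_of_classInner_eq_one (hψGc ψ)
    rw [hm, hdiag ψ h0]
    simp
  have h3 := Cfsg.Agent.Lead.classInner_irr
    (⟨Cfsg.indFun T (ψ : T → ℂ), hirrψ⟩ : Cfsg.IrrCharacter G) ⟨χ, hχ⟩
  have h4 : (⟨Cfsg.indFun T (ψ : T → ℂ), hirrψ⟩ : Cfsg.IrrCharacter G) = ⟨χ, hχ⟩ := by
    by_contra hcon'
    rw [if_neg hcon'] at h3
    exact h2 h3
  have hψχ : Cfsg.indFun T (ψ : T → ℂ) = χ := congrArg Subtype.val h4
  refine ⟨ψ, ψ.2, hψχ, ?_⟩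
  have hR : Cfsg.classInner (fun n : H => χ n) ϑ = (f ψ : ℂ) := by
    have h5 : Cfsg.classInner (Cfsg.indFun H ϑ) χ = (f ψ : ℂ) := by
      rw [hinnerG, Finset.sum_eq_single ψ]
      · rw [← hψχ, hm, hdiag ψ h0]
        simp
      · intro ψ' _ hψ'
        by_cases h0' : f ψ' = 0
        · rw [h0']
          simp
        · rw [← hψχ, hm, hoff ψ' ψ h0' h0 hψ']
          simp
      · intro h
        exact absurd (Finset.mem_univ _) h
    rw [Cfsg.Agent.S0146.result H ϑ χ hχcf] at h5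
    rw [← Cfsg.Agent.Lead.classInner_conj_symm, h5, Complex.conj_natCast]
  have hL : Cfsg.classInner (fun n : H => (ψ : T → ℂ) ⟨(n : G), hHT n.2⟩) ϑ = (f ψ : ℂ) := by
    have h5 := hf ψ
    rw [Cfsg.Agent.S0146.result H' ϑ' ψ (Cfsg.Agent.Lead.isCharacter_isClassFunction
      (Cfsg.Agent.Lead.isCharacter_of_isIrrCharacter ψ.2))] at h5
    have h6 := Cfsg.Agent.Lead.classInner_comp_mulEquiv e
      (fun n : H => (ψ : T → ℂ) ⟨(n : G), hHT n.2⟩) ϑ
    rw [← h6]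
    have h7 : (fun n : H => (ψ : T → ℂ) ⟨(n : G), hHT n.2⟩) ∘ e
        = fun x : H' => (ψ : T → ℂ) x := by
      funext x
      rfl
    rw [h7, ← hϑ'e, ← Cfsg.Agent.Lead.classInner_conj_symm, h5, Complex.conj_natCast]
  rw [hL, hR]


end Cfsg.Agent.S0854
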