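import Mathlib
import Cfsg.Agent.Helper2.Proj3
import Cfsg.Agent.Helper2.CharN5
import Cfsg.Agent.S0146
import Cfsg.Statements.S0887

set_option autoImplicit false
open Cfsg

namespace Cfsg.Agent.S0887

/-- Let N be a normal subgroup of the finite group G, χ an irreducible character of G and ϑ an irreducible character of N having nonzero inner product with the restriction of χ. If χ 1 = c and ϑ 1 = d as natural numbers, then d divides c and c / d divides the index of N. -/
theorem result {G : Type*} [Group G] [Fintype G] (N : Subgroup G) [N.Normal] [Fintype N] (χ : G → ℂ) (hχ : Cfsg.IsIrrCharacter G χ) (ϑ : N → ℂ) (hϑ : Cfsg.IsIrrCharacter N ϑ) (hcon : Cfsg.classInner (fun n : N => χ n) ϑ ≠ 0) (c d : ℕ) (hc : χ 1 = c) (hd : ϑ 1 = d) : d ∣ c ∧ c / d ∣ N.index := by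
  classical
  have hNn : N.Normal := inferInstance
  have hϑc := Cfsg.Agent.Lead.isCharacter_of_isIrrCharacter hϑ
  have hϑcf := Cfsg.Agent.Lead.isCharacter_isClassFunction hϑc
  have hχc := Cfsg.Agent.Lead.isCharacter_of_isIrrCharacter hχ
  have hχcf := Cfsg.Agent.Lead.isCharacter_isClassFunction hχc
  let T : Subgroup G :=
    { carrier := {g | ∀ n : N, ϑ ⟨g * n * g⁻¹, hNn.conj_mem (n : G) n.2 g⟩ = ϑ n}
      one_mem' := fun n => by
        congr 1
        apply Subtype.ext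
        simp
      mul_mem' := by
        intro a b ha hb n
        have h1 := ha ⟨b * n * b⁻¹, hNn.conj_mem (n : G) n.2 b⟩
        rw [hb n] at h1
        rw [← h1]
        congr 1
        apply Subtype.ext
        simp [mul_assoc]
      inv_mem' := by
        intro a ha n
        have h1 := ha ⟨a⁻¹ * n * a⁻¹⁻¹, hNn.conj_mem (n : G) n.2 a⁻¹⟩
        rw [← h1]
        congr 1
        apply Subtype.ext
        simp [mul_assoc] }
  have hT : ∀ g : G, g ∈ T ↔ ∀ n : N, ϑ ⟨g * n * g⁻¹, hNn.conj_mem (n : G) n.2 g⟩ = ϑ n :=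
    fun g => Iff.rfl
  have hNT : N ≤ T := by
    intro x hx n
    exact hϑcf n ⟨x, hx⟩
  haveI : Fintype T := Fintype.ofFinite T
  haveI : Finite (Cfsg.IrrCharacter T) := Cfsg.Agent.Lead.finite_irrCharacter T
  haveI : Fintype (Cfsg.IrrCharacter T) := Fintype.ofFinite _
  obtain ⟨f, hf1, hf2, hf3, hf4⟩ :=
    Cfsg.Agent.Helper2.CharN.clifford_corr_core N ϑ hϑ T hT hNT
  have h1 : Cfsg.classInner (Cfsg.indFun N ϑ) χ ≠ 0 := by
    rw [Cfsg.Agent.S0146.result N ϑ χ hχcf, ← Cfsg.Agent.Lead.classInner_conj_symm]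
    intro h0
    exact hcon ((map_eq_zero (starRingEnd ℂ)).mp h0)
  rw [hf4 χ] at h1
  obtain ⟨ψ, -, hψne⟩ := Finset.exists_ne_zero_of_sum_ne_zero h1
  have hfψ : f ψ ≠ 0 := by
    intro h0
    apply hψne
    rw [h0]
    simp
  have hψχ : Cfsg.classInner (Cfsg.indFun T (ψ : T → ℂ)) χ ≠ 0 := by
    intro h0
    apply hψne
    rw [h0, mul_zero]
  have hind := hf2 ψ hfψ
  have hχeq : Cfsg.indFun T (ψ : T → ℂ) = χ := by
    by_contra hne
    have h2 := Cfsg.Agent.Lead.classInner_irr (⟨Cfsg.indFun T (ψ : T → ℂ), hind⟩ : Cfsg.IrrCharacter G)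
      ⟨χ, hχ⟩
    rw [if_neg (fun h => hne (congrArg Subtype.val h))] at h2
    exact hψχ h2
  obtain ⟨d₀, Y, hi, rfl⟩ := hϑ
  have hd₀ : d₀ = d := by
    rw [Representation.char_one, Module.finrank_fin_fun] at hd
    exact_mod_cast hd
  subst hd₀
  let N' : Subgroup T := N.subgroupOf T
  haveI hN'n : N'.Normal := Subgroup.normal_subgroupOf
  haveI : Fintype N' := Fintype.ofFinite _
  let e : N' ≃* N := Subgroup.subgroupOfEquivOfLe hNT
  let Y' : Representation ℂ N' (Fin d₀ → ℂ) := Y.comp e.toMonoidHom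
  have hY'char : Y'.character = fun x : N' => Y.character ⟨((x : T) : G), Subgroup.mem_subgroupOf.mp x.2⟩ := rfl
  have hi' : Y'.IsIrreducible := by
    rw [Cfsg.Agent.Lead.isIrreducible_iff] at hi ⊢
    refine ⟨hi.1, fun W hW => hi.2 W (fun g v hv => ?_)⟩
    obtain ⟨h, rfl⟩ := e.surjective g
    exact hW h v hv
  have hinv' : ∀ (t : T) (n : N'),
      Y'.character ⟨t * n * t⁻¹, hN'n.conj_mem (n : T) n.2 t⟩ = Y'.character n := by
    intro t n
    exact (hT (t : G)).mp t.2 ⟨((n : T) : G), Subgroup.mem_subgroupOf.mp n.2⟩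
  have hne' : Cfsg.classInner (fun n : N' => (ψ : T → ℂ) n) Y'.character ≠ 0 := by
    have h2 := hf1 ψ
    rw [Cfsg.Agent.S0146.result N' _ (ψ : T → ℂ)
      (Cfsg.Agent.Lead.isCharacter_isClassFunction
        (Cfsg.Agent.Lead.isCharacter_of_isIrrCharacter ψ.2))] at h2
    rw [hY'char, ← Cfsg.Agent.Lead.classInner_conj_symm]
    intro h0
    have h3 := (map_eq_zero (starRingEnd ℂ)).mp h0
    rw [h3] at h2
    exact hfψ (by exact_mod_cast h2.symm)
  obtain ⟨k, hk1, hk2⟩ :=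
    Cfsg.Agent.Helper2.Proj.degree_ratio_invariant N' Y' hi' hinv' (ψ : T → ℂ) ψ.2 hne'
  have hc' : (c : ℂ) = ((T.index * (k * d₀) : ℕ) : ℂ) := by
    rw [← hc, ← hχeq, Cfsg.Agent.Lead.indFun_one, hk1]
    push_cast
    ring
  have hc'' : c = T.index * (k * d₀) := by exact_mod_cast hc'
  have hd0 : d₀ ≠ 0 := by
    rintro rfl
    haveI : Nontrivial (Fin 0 → ℂ) := ((Cfsg.Agent.Lead.isIrreducible_iff Y).mp hi).1
    exact not_subsingleton (Fin 0 → ℂ) inferInstance
  have hidx : N.relIndex T * T.index = N.index := Subgroup.relIndex_mul_index hNT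
  refine ⟨⟨T.index * k, by rw [hc'']; ring⟩, ?_⟩
  have h5 : c / d₀ = T.index * k := by
    rw [hc'', ← mul_assoc]
    exact Nat.mul_div_cancel _ (Nat.pos_of_ne_zero hd0)
  rw [h5, ← hidx, mul_comm]
  exact Nat.mul_dvd_mul hk2 (dvd_refl _)


end Cfsg.Agent.S0887
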