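import Cfsg.Statements.S0139
import Mathlib
import Cfsg.Agent.Lead.CharEig

set_option autoImplicit false
open Cfsg

namespace Cfsg.Agent.S0139

/-- The kernel of a complex representation of a finite group is the set of elements where the character equals the degree. -/
theorem result {G : Type*} [Group G] [Finite G] {V : Type*} [AddCommGroup V] [Module ℂ V] [FiniteDimensional ℂ V] (ρ : Representation ℂ G V) (g : G) : ρ.character g = (Module.finrank ℂ V : ℂ) ↔ ρ g = LinearMap.id := by
  constructor
  · intro h
    rw [Lead.character_eq_sum_roots ρ g, ← Lead.charpoly_roots_card ρ g] at h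
    have h1 := Lead.multiset_unit_sum_eq_card (fun μ hμ => Lead.charpoly_root_norm ρ g hμ) h
    have h2 := Lead.rep_eq_smul_id_of_roots ρ g 1 h1
    rw [h2, one_smul]
  · intro h
    unfold Representation.character
    rw [h]
    exact LinearMap.trace_id ℂ V


end Cfsg.Agent.S0139
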