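import Cfsg.Statements.S0041
import Mathlib
import Cfsg.Agent.Lead.Fpf

set_option autoImplicit false
open Cfsg

namespace Cfsg.Agent.S0041

open scoped IsMulCommutative

theorem fpf_pq_aux {G : Type*} [Group G] [Finite G] (A V : Subgroup G) [IsMulCommutative V]
    (hV : V ≠ ⊥) (hAV : A ≤ Subgroup.normalizer (V : Set G))
    (hfpf : ∀ a ∈ A, a ≠ 1 → V ⊓ Subgroup.centralizer {a} = ⊥)
    (p q : ℕ) (hp : p.Prime) (hq : q.Prime) (hcard : Nat.card A = p * q) (hle : p ≤ q)
    (hcyc : ¬ IsCyclic A) : False := by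
  classical
  haveI : Fintype A := Fintype.ofFinite A
  haveI : ∀ X : Subgroup A, Fintype X := fun X => Fintype.ofFinite X
  haveI : Fintype (Subgroup A) := Fintype.ofFinite _
  have hcop := Cfsg.Agent.Lead.fpf_coprime A V hAV hfpf
  haveI : Fact p.Prime := ⟨hp⟩
  haveI : Fact q.Prime := ⟨hq⟩
  have hord : ∀ g : A, g ≠ 1 → (orderOf g).Prime := by
    intro g hg
    have hdvd : orderOf g ∣ p * q := hcard ▸ orderOf_dvd_natCard g
    obtain ⟨k, l, hk, hl, hkl⟩ := (Nat.dvd_mul).mp hdvd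
    rcases (Nat.dvd_prime hp).mp hk with h1 | h1 <;> rcases (Nat.dvd_prime hq).mp hl with h2 | h2
    · rw [h1, h2] at hkl
      exact absurd (orderOf_eq_one_iff.mp (by omega)) hg
    · rw [h1, h2, one_mul] at hkl
      rw [← hkl]; exact hq
    · rw [h1, h2, mul_one] at hkl
      rw [← hkl]; exact hp
    · rw [h1, h2] at hkl
      exact absurd (isCyclic_of_orderOf_eq_card g (by rw [← hkl, hcard])) hcyc
  obtain ⟨PP, hmemPP⟩ : ∃ PP : Finset (Subgroup A), ∀ X : Subgroup A, X ∈ PP ↔ (Nat.card X).Prime :=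
    ⟨Finset.univ.filter (fun X => (Nat.card X).Prime), by intro X; simp⟩
  have hpart : ∀ g : A, g ≠ 1 → ∃! X, X ∈ PP ∧ g ∈ X := by
    intro g hg
    refine ⟨Subgroup.zpowers g, ⟨(hmemPP _).mpr (by rw [Nat.card_zpowers]; exact hord g hg),
      Subgroup.mem_zpowers g⟩, ?_⟩
    rintro Y ⟨hY, hgY⟩
    have hle : Subgroup.zpowers g ≤ Y := (Subgroup.zpowers_le).mpr hgY
    have hYp := (hmemPP Y).mp hY
    have hdvd := Subgroup.card_dvd_of_le hle
    rw [Nat.card_zpowers] at hdvd
    have hne1 : orderOf g ≠ 1 := fun h => hg (orderOf_eq_one_iff.mp h)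
    have heq : orderOf g = Nat.card Y := ((Nat.dvd_prime hYp).mp hdvd).resolve_left hne1
    exact (Subgroup.eq_of_le_of_card_ge hle (by rw [Nat.card_zpowers, heq])).symm
  have hAbot : A ≠ ⊥ := by
    intro h
    rw [h, Subgroup.card_bot] at hcard
    have h1 := hp.two_le
    have h2 := hq.two_le
    nlinarith
  have key : ∀ v : V, v ^ PP.card = v := by
    intro v
    have h1 := Cfsg.Agent.Lead.prod_partition (fun g : A => Cfsg.Agent.Lead.cjHom A V hAV g v) PP hpart
    have h2 : ∀ X ∈ PP, ∏ g : X, Cfsg.Agent.Lead.cjHom A V hAV (g : A) v = 1 := by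
      intro X hX
      apply Cfsg.Agent.Lead.fpf_prod_eq_one A V hAV hfpf X _ v
      intro hbot
      have := (hmemPP X).mp hX
      rw [hbot, Subgroup.card_bot] at this
      exact Nat.not_prime_one this
    rw [Finset.prod_congr rfl h2, Finset.prod_const_one, one_mul] at h1
    have h3 : ∏ g : A, Cfsg.Agent.Lead.cjHom A V hAV g v = 1 :=
      Cfsg.Agent.Lead.fpf_prod_univ_eq_one A V hAV hfpf hAbot v
    have h5 : Cfsg.Agent.Lead.cjHom A V hAV 1 v = v := by ext; simp
    rw [h3, h5, one_mul] at h1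
    exact h1.symm
  have hcount : ∑ X ∈ PP, Nat.card X + 1 = p * q + PP.card := by
    have h1 := Cfsg.Agent.Lead.prod_partition (fun _ : A => (2 : ℕ)) PP hpart
    simp only [Finset.prod_const, Finset.card_univ] at h1
    rw [Finset.prod_pow_eq_pow_sum, ← pow_succ, ← pow_add] at h1
    have h2 := Nat.pow_right_injective (le_refl 2) h1
    simp only [← Nat.card_eq_fintype_card] at h2
    rw [hcard] at h2
    exact h2
  obtain ⟨b, hb⟩ := exists_prime_orderOf_dvd_card' q (hcard ▸ dvd_mul_left q p)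
  obtain ⟨Q, hQ⟩ : ∃ Q : Subgroup A, Q = Subgroup.zpowers b := ⟨_, rfl⟩
  have hQcard : Nat.card Q = q := by rw [hQ, Nat.card_zpowers, hb]
  have hQPP : Q ∈ PP := (hmemPP Q).mpr (hQcard ▸ hq)
  have hXcard : ∀ X ∈ PP, X ≠ Q → Nat.card X = p := by
    intro X hX hXQ
    have hXp := (hmemPP X).mp hX
    have hdvd : Nat.card X ∣ p * q := hcard ▸ Subgroup.card_subgroup_dvd_card X
    rcases (Nat.Prime.dvd_mul hXp).mp hdvd with h | h
    · exact (Nat.prime_dvd_prime_iff_eq hXp hp).mp h
    · have hXq : Nat.card X = q := (Nat.prime_dvd_prime_iff_eq hXp hq).mp h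
      have hdisj : X ⊓ Q = ⊥ := by
        by_contra hne
        have h1 : Nat.card ↥(X ⊓ Q) ∣ q := hXq ▸ Subgroup.card_dvd_of_le inf_le_left
        have h2 : Nat.card ↥(X ⊓ Q) ≠ 1 := fun h => hne (Subgroup.card_eq_one.mp h)
        have h3 : Nat.card ↥(X ⊓ Q) = q := ((Nat.dvd_prime hq).mp h1).resolve_left h2
        have e1 : X ⊓ Q = X := Subgroup.eq_of_le_of_card_ge inf_le_left (by rw [h3, hXq])
        have e2 : X ⊓ Q = Q := Subgroup.eq_of_le_of_card_ge inf_le_right (by rw [h3, hQcard])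
        exact hXQ (e1.symm.trans e2)
      have hinj := Subgroup.mul_injective_of_disjoint (disjoint_iff.mpr hdisj)
      have h4 := Nat.card_le_card_of_injective _ hinj
      rw [Nat.card_prod, hXq, hQcard, hcard] at h4
      have h5 : q ≤ p := Nat.le_of_mul_le_mul_right h4 hq.pos
      rw [hXq]; exact le_antisymm h5 hle
  have hsum : ∑ X ∈ PP, Nat.card X = q + (PP.card - 1) * p := by
    rw [← Finset.add_sum_erase PP _ hQPP, hQcard]
    congr 1
    rw [Finset.sum_congr rfl (fun X hX => hXcard X (Finset.mem_of_mem_erase hX)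
      (Finset.ne_of_mem_erase hX)), Finset.sum_const, Finset.card_erase_of_mem hQPP, smul_eq_mul]
  have hn : PP.card = q + 1 := by
    have hpos : 0 < PP.card := Finset.card_pos.mpr ⟨Q, hQPP⟩
    rw [hsum] at hcount
    obtain ⟨m, hm⟩ : ∃ m, PP.card = m + 1 := ⟨PP.card - 1, by omega⟩
    rw [hm] at hcount ⊢
    simp only [Nat.add_sub_cancel] at hcount
    have hp2 := hp.two_le
    obtain ⟨p', hp'⟩ : ∃ p', p = p' + 1 := ⟨p - 1, by omega⟩
    rw [hp'] at hcount
    have h7 : m * p' = q * p' := by nlinarith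
    have hp'0 : 0 < p' := by omega
    have := Nat.eq_of_mul_eq_mul_right hp'0 h7
    omega
  obtain ⟨v, hv1⟩ : ∃ v : V, v ≠ 1 := by
    by_contra hcon
    push Not at hcon
    apply hV
    rw [Subgroup.eq_bot_iff_forall]
    intro x hx
    exact congrArg Subtype.val (hcon ⟨x, hx⟩)
  have h1 := key v
  rw [hn, pow_succ] at h1
  have h2 : v ^ q = 1 := by
    calc v ^ q = v ^ q * v * v⁻¹ := by group
      _ = v * v⁻¹ := by rw [h1]
      _ = 1 := mul_inv_cancel v
  have h3 : orderOf v ∣ q := orderOf_dvd_of_pow_eq_one h2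
  have h4 : orderOf v ∣ Nat.card V := orderOf_dvd_natCard v
  have h5 : q ∣ Nat.card A := hcard ▸ dvd_mul_left q p
  have h6 : orderOf v ∣ 1 := by
    have := Nat.dvd_gcd (h3.trans h5) h4
    rwa [hcop] at this
  exact hv1 (orderOf_eq_one_iff.mp (Nat.dvd_one.mp h6))

/-- A group acting on a nontrivial abelian group so that no nonidentity element has a nonidentity fixed point is cyclic, provided it is abelian or its order is a product of two (possibly equal) primes. -/
theorem result {G : Type*} [Group G] [Finite G] (A V : Subgroup G) [IsMulCommutative V]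
    (hV : V ≠ ⊥) (hAV : A ≤ Subgroup.normalizer (V : Set G)) (hfpf : ∀ a ∈ A, a ≠ 1 → V ⊓ Subgroup.centralizer {a} = ⊥)
    (hA : IsMulCommutative A ∨ ∃ p q : ℕ, p.Prime ∧ q.Prime ∧ Nat.card A = p * q) : IsCyclic A := by
  classical
  have hcop := Cfsg.Agent.Lead.fpf_coprime A V hAV hfpf
  by_contra hcyc
  rcases hA with hA | ⟨p, q, hp, hq, hcard⟩
  · have h1 := Cfsg.Agent.Lead.genCent_eq A hcyc (Nat.card V) V rfl hAV hcop
    have h2 : Cfsg.Agent.Lead.genCent A V ≤ ⊥ := by
      unfold Cfsg.Agent.Lead.genCent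
      exact iSup₂_le fun a ha => (hfpf a ha.1 ha.2).le
    exact hV (eq_bot_iff.mpr (h1.trans h2))
  · rcases le_total p q with hle | hle
    · exact fpf_pq_aux A V hV hAV hfpf p q hp hq hcard hle hcyc
    · exact fpf_pq_aux A V hV hAV hfpf q p hq hp (by rw [hcard, mul_comm]) hle hcyc


end Cfsg.Agent.S0041
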