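import Cfsg.Statements.S1459
import Cfsg.Agent.Lead.PGroupFrattini
import Cfsg.Agent.Lead.CoprimeAbelian
import Cfsg.Agent.Helper3.CN
import Cfsg.Agent.Helper3.Signalizer
import Cfsg.Agent.Helper3.Layer2

set_option autoImplicit false
open Cfsg

namespace Cfsg.Agent.S1459

open scoped commutatorElement

universe u

/-- `A` normalises `⁅A, B⁆`. -/
theorem left_le_normalizer_comm {G : Type u} [Group G] (A B : Subgroup G) :
    A ≤ Subgroup.normalizer ((⁅A, B⁆ : Subgroup G) : Set G) := by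
  apply Helper3.le_normalizer_of_conj_mem
  intro a ha d hd
  have h1 : ⁅A, B⁆ ≤ (⁅A, B⁆ : Subgroup G).comap (MulAut.conj a).toMonoidHom := by
    rw [Subgroup.commutator_le]
    intro x hx y hy
    rw [Subgroup.mem_comap]
    have e : (MulAut.conj a).toMonoidHom ⁅x, y⁆ = ⁅a * x, y⁆ * ⁅a, y⁆⁻¹ := by
      simp only [MulEquiv.toMonoidHom_eq_coe, MonoidHom.coe_coe, MulAut.conj_apply,
        commutatorElement_def]
      group
    rw [e]
    exact Subgroup.mul_mem _ (Subgroup.commutator_mem_commutator (A.mul_mem ha hx) hy)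
      (Subgroup.inv_mem _ (Subgroup.commutator_mem_commutator ha hy))
  have h2 := h1 hd
  rw [Subgroup.mem_comap] at h2
  simpa using h2

theorem comm_normal {G : Type u} [Group G] (H K : Subgroup G) (hsup : H ⊔ K = ⊤) :
    (⁅H, K⁆ : Subgroup G).Normal := by
  rw [← Subgroup.normalizer_eq_top_iff, eq_top_iff, ← hsup]
  refine sup_le (left_le_normalizer_comm H K) ?_
  have h := left_le_normalizer_comm K H
  rwa [Subgroup.commutator_comm K H] at h

theorem eq_bot_of_le_comm_self {Q : Type u} [Group Q] [Group.IsSolvable Q] (S : Subgroup Q)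
    (hS : S ≤ ⁅S, S⁆) : S = ⊥ := by
  have h : ∀ n, S ≤ derivedSeries Q n := by
    intro n
    induction n with
    | zero => rw [derivedSeries_zero]; exact le_top
    | succ n ih =>
      rw [derivedSeries_succ]
      exact hS.trans (Subgroup.commutator_mono ih ih)
  obtain ⟨n, hn⟩ := Group.IsSolvable.solvable (G := Q)
  rw [eq_bot_iff, ← hn]
  exact h n

theorem comm_central {Q : Type u} [Group Q] (z₁ z₂ a b : Q) (h1 : ∀ q, z₁ * q = q * z₁)
    (h2 : ∀ q, z₂ * q = q * z₂) : ⁅z₁ * a, z₂ * b⁆ = ⁅a, b⁆ := by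
  rw [commutatorElement_def, commutatorElement_def]
  have e1 : z₁ * a * (z₂ * b) * (z₁ * a)⁻¹ * (z₂ * b)⁻¹
      = z₁ * (a * (z₂ * b) * a⁻¹) * z₁⁻¹ * b⁻¹ * z₂⁻¹ := by group
  rw [e1, h1 (a * (z₂ * b) * a⁻¹)]
  have e2 : a * (z₂ * b) * a⁻¹ * z₁ * z₁⁻¹ * b⁻¹ * z₂⁻¹
      = a * (z₂ * (b * a⁻¹ * b⁻¹)) * z₂⁻¹ := by group
  rw [e2, h2 (b * a⁻¹ * b⁻¹)]
  group

theorem partA {G : Type u} [Group G] [Finite G] [Group.IsSolvable G] (H K : Subgroup G)
    (hH : H.Normal) (hcop : (Nat.card H).Coprime H.index) (hc : Subgroup.IsComplement' H K)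
    (hHG : H ≤ commutator G) :
    H = ⁅H, K⁆ ∧ H ⊓ Subgroup.centralizer (K : Set G) ≤ ⁅H, H⁆ := by
  classical
  have hsup : H ⊔ K = ⊤ := hc.sup_eq_top
  have hinf : H ⊓ K = ⊥ := hc.isCompl.inf_eq_bot
  have hprod : ∀ g : G, ∃ h ∈ H, ∃ k ∈ K, g = h * k := by
    intro g
    obtain ⟨⟨h, k⟩, hhk⟩ := hc.2 g
    exact ⟨h, h.2, k, k.2, hhk.symm⟩
  haveI hN : (⁅H, K⁆ : Subgroup G).Normal := comm_normal H K hsup
  have hNH : ⁅H, K⁆ ≤ H := Subgroup.commutator_le_left H K
  obtain ⟨R, hRdef⟩ : ∃ R : Subgroup G, R = ⁅H, (⊤ : Subgroup G)⁆ := ⟨_, rfl⟩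
  haveI hRn : R.Normal := by rw [hRdef]; infer_instance
  have hRH : R ≤ H := by rw [hRdef]; exact Subgroup.commutator_le_left H ⊤
  have hcen : ∀ h ∈ H, ∀ q : G ⧸ R,
      (QuotientGroup.mk' R h) * q = q * (QuotientGroup.mk' R h) := by
    intro h hh q
    obtain ⟨g, rfl⟩ := QuotientGroup.mk'_surjective R q
    rw [← map_mul, ← map_mul]
    apply (QuotientGroup.eq).2
    have e : (h * g)⁻¹ * (g * h) = ⁅h⁻¹, g⁻¹⁆⁻¹ := by rw [commutatorElement_def]; group
    rw [e]
    exact R.inv_mem (by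
      rw [hRdef]
      exact Subgroup.commutator_mem_commutator (H.inv_mem hh) (Subgroup.mem_top _))
  have hGR : commutator G ≤ R ⊔ K := by
    rw [commutator_def, Subgroup.commutator_le]
    intro g₁ _ g₂ _
    obtain ⟨h₁, hh₁, k₁, hk₁, rfl⟩ := hprod g₁
    obtain ⟨h₂, hh₂, k₂, hk₂, rfl⟩ := hprod g₂
    have e : QuotientGroup.mk' R ⁅h₁ * k₁, h₂ * k₂⁆ = QuotientGroup.mk' R ⁅k₁, k₂⁆ := by
      rw [map_commutatorElement, map_mul, map_mul,
        comm_central _ _ _ _ (hcen h₁ hh₁) (hcen h₂ hh₂), ← map_commutatorElement]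
    have e2 : (⁅h₁ * k₁, h₂ * k₂⁆)⁻¹ * ⁅k₁, k₂⁆ ∈ R := QuotientGroup.eq.1 e
    have e3 : ⁅h₁ * k₁, h₂ * k₂⁆
        = ⁅k₁, k₂⁆ * ((⁅h₁ * k₁, h₂ * k₂⁆)⁻¹ * ⁅k₁, k₂⁆)⁻¹ := by group
    rw [e3]
    have hkk : ⁅k₁, k₂⁆ ∈ K := by
      rw [commutatorElement_def]
      exact K.mul_mem (K.mul_mem (K.mul_mem hk₁ hk₂) (K.inv_mem hk₁)) (K.inv_mem hk₂)
    exact (R ⊔ K).mul_mem (Subgroup.mem_sup_right hkk)
      ((R ⊔ K).inv_mem (Subgroup.mem_sup_left e2))
  have hHR : H ≤ R := by
    intro h hh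
    have h1 : h ∈ R ⊔ K := hGR (hHG hh)
    obtain ⟨r, hr, k, hk, e⟩ := Helper3.mem_sup_of_le_normalizer_right R K
      (by rw [Subgroup.normalizer_eq_top_iff.2 hRn]; exact le_top) h1
    have hk' : k ∈ H ⊓ K := by
      refine ⟨?_, hk⟩
      have e' : k = r⁻¹ * h := by rw [← e]; group
      rw [e']
      exact H.mul_mem (H.inv_mem (hRH hr)) hh
    rw [hinf, Subgroup.mem_bot] at hk'
    rw [← e, hk', mul_one]
    exact hr
  have hH3 : H ≤ ⁅H, H⁆ ⊔ ⁅H, K⁆ := by
    refine hHR.trans ?_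
    rw [hRdef, Subgroup.commutator_le]
    intro h hh g _
    obtain ⟨h', hh', k, hk, rfl⟩ := hprod g
    have e : ⁅h, h' * k⁆ = ⁅h, h'⁆ * (h' * ⁅h, k⁆ * h'⁻¹) := by
      simp only [commutatorElement_def]
      group
    rw [e]
    exact Subgroup.mul_mem _ (Subgroup.mem_sup_left (Subgroup.commutator_mem_commutator hh hh'))
      (Subgroup.mem_sup_right (hN.conj_mem _ (Subgroup.commutator_mem_commutator hh hk) h'))
  have hHN : H ≤ ⁅H, K⁆ := by
    have h1 : H.map (QuotientGroup.mk' ⁅H, K⁆) = ⊥ := by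
      apply eq_bot_of_le_comm_self
      rw [← Subgroup.map_commutator]
      have h2 : (⁅H, K⁆ : Subgroup G).map (QuotientGroup.mk' ⁅H, K⁆) = ⊥ := by
        rw [Subgroup.map_eq_bot_iff, QuotientGroup.ker_mk']
      calc H.map (QuotientGroup.mk' ⁅H, K⁆)
          ≤ (⁅H, H⁆ ⊔ ⁅H, K⁆).map (QuotientGroup.mk' ⁅H, K⁆) := Subgroup.map_mono hH3
        _ = (⁅H, H⁆ : Subgroup G).map (QuotientGroup.mk' ⁅H, K⁆) := by
            rw [Subgroup.map_sup, h2, sup_bot_eq]
    rw [Subgroup.map_eq_bot_iff, QuotientGroup.ker_mk'] at h1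
    exact h1
  have hHeq : H = ⁅H, K⁆ := le_antisymm hHN hNH
  refine ⟨hHeq, ?_⟩
  haveI hMn : (⁅H, H⁆ : Subgroup G).Normal := inferInstance
  obtain ⟨π, hπ⟩ : ∃ π : G →* G ⧸ (⁅H, H⁆ : Subgroup G), π = QuotientGroup.mk' ⁅H, H⁆ :=
    ⟨_, rfl⟩
  have hπs : Function.Surjective π := by rw [hπ]; exact QuotientGroup.mk'_surjective _
  have hker : π.ker = ⁅H, H⁆ := by rw [hπ]; exact QuotientGroup.ker_mk' _
  haveI hVc : IsMulCommutative (H.map π) := by
    refine ⟨⟨?_⟩⟩
    rintro ⟨_, a, ha, rfl⟩ ⟨_, b, hb, rfl⟩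
    apply Subtype.ext
    show π a * π b = π b * π a
    rw [← map_mul, ← map_mul]
    have h1 : (b * a)⁻¹ * (a * b) ∈ π.ker := by
      rw [hker]
      have e : (b * a)⁻¹ * (a * b) = ⁅a⁻¹, b⁻¹⁆ := by rw [commutatorElement_def]; group
      rw [e]
      exact Subgroup.commutator_mem_commutator (H.inv_mem ha) (H.inv_mem hb)
    rw [MonoidHom.mem_ker, map_mul, map_inv] at h1
    exact (inv_mul_eq_one.1 h1).symm
  have hnorm : K.map π ≤ Subgroup.normalizer ((H.map π : Subgroup _) : Set _) := by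
    haveI hn : (H.map π).Normal := hH.map π hπs
    rw [Subgroup.normalizer_eq_top_iff.2 hn]
    exact le_top
  have hcop' : (Nat.card (K.map π)).Coprime (Nat.card (H.map π)) := by
    have h1 : Nat.card (K.map π) ∣ H.index := by
      have h0 := Subgroup.card_map_dvd K π
      rwa [← hc.symm.index_eq_card] at h0
    have h2 : Nat.card (H.map π) ∣ Nat.card H := Subgroup.card_map_dvd H π
    exact (Nat.Coprime.coprime_dvd_left h2 (Nat.Coprime.coprime_dvd_right h1 hcop)).symm
  have hfix := Lead.fixed_inf_commutator_eq_bot (K.map π) (H.map π) hnorm hcop'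
  have hVA : ⁅H.map π, K.map π⁆ = H.map π := by
    rw [← Subgroup.map_commutator, ← hHeq]
  rw [hVA] at hfix
  intro x hx
  have hx1 : π x ∈ (H.map π ⊓ Subgroup.centralizer ((K.map π : Subgroup _) : Set _))
      ⊓ H.map π := by
    refine ⟨⟨Subgroup.mem_map_of_mem π hx.1, Subgroup.mem_centralizer_iff.2 ?_⟩,
      Subgroup.mem_map_of_mem π hx.1⟩
    rintro _ ⟨k, hk, rfl⟩
    rw [← map_mul, ← map_mul, (Subgroup.mem_centralizer_iff.1 hx.2) k hk]
  rw [hfix, Subgroup.mem_bot] at hx1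
  have hx2 : x ∈ π.ker := hx1
  rwa [hker] at hx2

theorem pgroup_derived {Q : Type u} [Group Q] [Finite Q] (p : ℕ) [Fact p.Prime]
    (hQ : IsPGroup p Q) (hidx : (commutator Q).index = p) : commutator Q = ⊥ := by
  have hp := (Fact.out : p.Prime)
  have hne : commutator Q ≠ ⊤ := by
    intro h
    rw [h, Subgroup.index_top] at hidx
    exact hp.one_lt.ne hidx
  obtain ⟨x, hx⟩ : ∃ x : Q, x ∉ commutator Q := by
    by_contra hcon
    push Not at hcon
    exact hne (eq_top_iff.2 fun y _ => hcon y)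
  have hL : Subgroup.zpowers x ⊔ commutator Q = ⊤ := by
    have h1 : commutator Q ≤ Subgroup.zpowers x ⊔ commutator Q := le_sup_right
    have h2 := Subgroup.relIndex_mul_index h1
    rw [hidx] at h2
    have h3 : (Subgroup.zpowers x ⊔ commutator Q).index ∣ p := Dvd.intro_left _ h2
    rcases (Nat.dvd_prime hp).1 h3 with h4 | h4
    · exact Subgroup.index_eq_one.1 h4
    · exfalso
      rw [h4] at h2
      have h5 : (commutator Q).relIndex (Subgroup.zpowers x ⊔ commutator Q) = 1 := by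
        have hpos := hp.pos
        nlinarith
      rw [Subgroup.relIndex_eq_one] at h5
      exact hx (h5 (Subgroup.mem_sup_left (Subgroup.mem_zpowers x)))
  have hF : Subgroup.zpowers x ⊔ frattini Q = ⊤ := by
    rw [eq_top_iff, ← hL]
    exact sup_le_sup_left (Lead.commutator_le_frattini_of_isPGroup p hQ) _
  have hz : Subgroup.zpowers x = ⊤ := frattini_nongenerating hF
  rw [commutator_def, Subgroup.commutator_eq_bot_iff_le_centralizer]
  intro a _
  rw [Subgroup.mem_centralizer_iff]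
  intro b _
  have ha : a ∈ Subgroup.zpowers x := by rw [hz]; trivial
  have hb : b ∈ Subgroup.zpowers x := by rw [hz]; trivial
  obtain ⟨i, rfl⟩ := ha
  obtain ⟨j, rfl⟩ := hb
  exact (Commute.zpow_zpow_self x j i).eq

theorem hall_compl_normal {G : Type u} [Group G] [Finite G] (N : Subgroup G) [hNn : N.Normal]
    (hnil : Group.IsNilpotent ↥N) (p : ℕ) [Fact p.Prime] :
    ∃ Q₁ : Subgroup G, Q₁.Normal ∧ Q₁ ≤ N ∧ (Nat.card Q₁).Coprime p ∧
      ∃ k : ℕ, Nat.card N = p ^ k * Nat.card Q₁ := by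
  classical
  have hp := (Fact.out : p.Prime)
  obtain ⟨P₀⟩ : Nonempty (Sylow p ↥N) := inferInstance
  haveI hPn : (P₀ : Subgroup ↥N).Normal :=
    Sylow.normal_of_normalizerCondition Group.normalizerCondition_of_isNilpotent P₀
  obtain ⟨C, hC⟩ := Subgroup.exists_right_complement'_of_coprime
    (N := (P₀ : Subgroup ↥N)) P₀.card_coprime_index
  obtain ⟨k, hk⟩ := IsPGroup.iff_card.1 P₀.2
  have hcard : Nat.card N = p ^ k * Nat.card C := by
    rw [← hk]
    exact hC.card_mul_card.symm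
  have hCcop : (Nat.card C).Coprime p := by
    have h1 : (P₀ : Subgroup ↥N).index = Nat.card C := hC.symm.index_eq_card
    rw [← h1]
    exact ((Nat.Prime.coprime_iff_not_dvd hp).2 P₀.not_dvd_index).symm
  -- elements of `P₀` commute with elements of `C`
  have hcomm : ∀ a ∈ (P₀ : Subgroup ↥N), ∀ b ∈ C, a * b = b * a := by
    intro a ha b hb
    obtain ⟨i, hi⟩ := (IsPGroup.iff_orderOf.1 P₀.2) ⟨a, ha⟩
    rw [Subgroup.orderOf_mk] at hi
    have hmem : b ∈ Subgroup.centralizer ({a} : Set ↥N) := by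
      apply Helper3.mem_of_prime_pow_powers
      rintro j ⟨q, hq, c, hc⟩
      rw [Subgroup.mem_centralizer_iff]
      intro h hh
      rw [Set.mem_singleton_iff] at hh
      subst hh
      by_cases hqp : q = p
      · subst hqp
        have h2 : orderOf (b ^ j) ∣ Nat.card C := by
          have h3 := orderOf_dvd_natCard (⟨b ^ j, C.zpow_mem hb j⟩ : C)
          rwa [Subgroup.orderOf_mk] at h3
        have h4 : orderOf (b ^ j) = 1 := by
          have h5 : orderOf (b ^ j) ∣ q ^ c := by rw [hc]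
          exact Nat.eq_one_of_dvd_coprimes (Nat.Coprime.pow_right c hCcop) h2 h5
        rw [orderOf_eq_one_iff] at h4
        rw [h4, mul_one, one_mul]
      · haveI : Fact q.Prime := ⟨hq⟩
        exact (Helper4.commute_of_isNilpotent_of_prime_powers hnil (p := p) (q := q)
          (fun h => hqp h.symm) h (b ^ j) ⟨i, hi⟩ ⟨c, hc⟩).eq
    exact ((Subgroup.mem_centralizer_iff.1 hmem) a rfl)
  -- characterisation of `C`
  have hchar : ∀ x : ↥N, x ^ Nat.card C = 1 → x ∈ C := by
    intro x hx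
    obtain ⟨⟨a, b⟩, hab⟩ := hC.2 x
    have hab' : (a : ↥N) * (b : ↥N) = x := hab
    have hcm : Commute (a : ↥N) (b : ↥N) := hcomm a a.2 b b.2
    have hb1 : (b : ↥N) ^ Nat.card C = 1 := by
      have h1 : b ^ Nat.card C = 1 := pow_card_eq_one'
      exact_mod_cast congrArg Subtype.val h1
    rw [← hab', hcm.mul_pow, hb1, mul_one] at hx
    obtain ⟨i, hi⟩ := (IsPGroup.iff_orderOf.1 P₀.2) a
    rw [← Subgroup.orderOf_coe] at hi
    have h2 : orderOf (a : ↥N) ∣ Nat.card C := orderOf_dvd_of_pow_eq_one hx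
    have h3 : orderOf (a : ↥N) = 1 := by
      have h5 : orderOf (a : ↥N) ∣ p ^ i := by rw [hi]
      exact Nat.eq_one_of_dvd_coprimes (Nat.Coprime.pow_right i hCcop) h2 h5
    rw [orderOf_eq_one_iff] at h3
    rw [← hab', h3, one_mul]
    exact b.2
  refine ⟨C.map N.subtype, ⟨?_⟩, Subgroup.map_subtype_le _, ?_, k, ?_⟩
  · rintro _ ⟨c, hc, rfl⟩ g
    have hmemN : g * (N.subtype c) * g⁻¹ ∈ N := hNn.conj_mem _ c.2 g
    refine ⟨⟨g * (N.subtype c) * g⁻¹, hmemN⟩, ?_, rfl⟩
    apply hchar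
    apply Subtype.ext
    have h1 : (⟨c, hc⟩ : C) ^ Nat.card C = 1 := pow_card_eq_one'
    have h2 : c ^ Nat.card C = 1 := by
      have h0 := congrArg Subtype.val h1
      rw [SubmonoidClass.coe_pow] at h0
      exact h0
    have h3 : (c : G) ^ Nat.card C = 1 := by
      have h0 := congrArg Subtype.val h2
      rw [SubmonoidClass.coe_pow] at h0
      exact h0
    show (g * (N.subtype c) * g⁻¹) ^ Nat.card C = 1
    rw [conj_pow]
    show g * (c : G) ^ Nat.card C * g⁻¹ = 1
    rw [h3]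
    group
  · rw [Subgroup.card_map_of_injective N.subtype_injective]
    exact hCcop
  · rw [Subgroup.card_map_of_injective N.subtype_injective]
    exact hcard

theorem partB_coprime {G : Type u} [Group G] [Finite G]
    (hnil : Group.IsNilpotent ↥(commutator G)) (hidx : (commutator G).index.Prime) :
    (Nat.card ↥(commutator G)).Coprime (commutator G).index := by
  classical
  obtain ⟨p, hp⟩ : ∃ p, p = (commutator G).index := ⟨_, rfl⟩
  rw [← hp] at hidx ⊢
  haveI : Fact p.Prime := ⟨hidx⟩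
  obtain ⟨Q₁, hQn, hQN, hQcop, k, hk⟩ := hall_compl_normal (commutator G) hnil p
  have hcardG : Nat.card G = p ^ (k + 1) * Nat.card Q₁ := by
    rw [← Subgroup.card_mul_index (commutator G), hk, ← hp]
    ring
  have hQ : IsPGroup p (G ⧸ Q₁) := by
    apply IsPGroup.of_card (n := k + 1)
    have h1 := Subgroup.card_eq_card_quotient_mul_card_subgroup Q₁
    rw [hcardG] at h1
    exact (Nat.eq_of_mul_eq_mul_right Nat.card_pos h1).symm
  have hmap : (commutator G).map (QuotientGroup.mk' Q₁) = commutator (G ⧸ Q₁) := by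
    rw [commutator_def, commutator_def, Subgroup.map_commutator, ← MonoidHom.range_eq_map,
      MonoidHom.range_eq_top.2 (QuotientGroup.mk'_surjective Q₁)]
  have hidx' : (commutator (G ⧸ Q₁)).index = p := by
    rw [← hmap, Subgroup.index_map, QuotientGroup.ker_mk', sup_eq_left.2 hQN,
      MonoidHom.range_eq_top.2 (QuotientGroup.mk'_surjective Q₁), Subgroup.index_top, mul_one,
      ← hp]
  have hbot := pgroup_derived p hQ hidx'
  rw [← hmap, Subgroup.map_eq_bot_iff, QuotientGroup.ker_mk'] at hbot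
  have hdvd : Nat.card (commutator G) ∣ Nat.card Q₁ := Subgroup.card_dvd_of_le hbot
  exact Nat.Coprime.coprime_dvd_left hdvd hQcop

/-- Let G be a finite solvable group. (a) If H is a normal subgroup of order coprime to its index, K is a complement to H, and H ≤ G', then H = [H, K] and H ∩ C_G(K) ≤ [H, H]. (b) If G' is nilpotent and has prime index in G, then the order of G' is coprime to its index and G' = [G, K] (the subgroup generated by commutators of elements of G with elements of K) for every complement K of G'. -/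
theorem result {G : Type*} [Group G] [Finite G] [Group.IsSolvable G] :
    (∀ (H K : Subgroup G), H.Normal → (Nat.card H).Coprime H.index → Subgroup.IsComplement' H K → H ≤ commutator G →
        H = ⁅H, K⁆ ∧ H ⊓ Subgroup.centralizer (K : Set G) ≤ ⁅H, H⁆) ∧
      (Group.IsNilpotent ↥(commutator G) → (commutator G).index.Prime →
        (Nat.card ↥(commutator G)).Coprime (commutator G).index ∧
        ∀ K : Subgroup G, Subgroup.IsComplement' (commutator G) K → commutator G = ⁅(⊤ : Subgroup G), K⁆) := by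
  refine ⟨fun H K hH hcop hc hHG => partA H K hH hcop hc hHG, fun hnil hidx => ?_⟩
  have hcop := partB_coprime hnil hidx
  refine ⟨hcop, fun K hK => ?_⟩
  have h1 := (partA (commutator G) K inferInstance hcop hK le_rfl).1
  apply le_antisymm
  · exact h1.le.trans (Subgroup.commutator_mono le_top le_rfl)
  · rw [commutator_def]
    exact Subgroup.commutator_mono le_rfl le_top

end Cfsg.Agent.S1459
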