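import Cfsg.Prelude.Def_LocalStructure
import Cfsg.Agent.Helper5.ZL
import Cfsg.Agent.Helper5.PClosed

namespace Cfsg.Agent.S2821

open Cfsg.Agent.Helper5 in
/-- Let H be a finite group, p a prime, T a Sylow p-subgroup and L a subgroup of characteristic p containing T; let Y_L be the largest p-reduced normal subgroup of L (the join of the normal elementary abelian p-subgroups V of L with O_p(L/C_L(V)) = 1). Then T₀ := C_T(Y_L) is a Sylow p-subgroup of C_H(Y_L); moreover O_p(L) ≤ T₀ ≤ C_L(Y_L) and Ω₁(Z(T)) ≤ Z_L ≤ Y_L ≤ Ω₁(Z(O_p(L))), where Z_L is generated by the Ω₁(Z(S)) over the Sylow p-subgroups S of L. -/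
theorem result {H : Type*} [Group H] [Finite H] {p : ℕ} [Fact p.Prime] (T : Sylow p H) (L : Subgroup H) (hTL : (T : Subgroup H) ≤ L) (hL : Subgroup.centralizer (Cfsg.pCore p ↥L : Set ↥L) ≤ Cfsg.pCore p ↥L) (T₀ : Subgroup H) (hT₀ : T₀ = (T : Subgroup H) ⊓ Subgroup.centralizer (((Cfsg.largestPReducedOf p L) : Subgroup H) : Set H)) : (∃ P : Sylow p ↥(Subgroup.centralizer (((Cfsg.largestPReducedOf p L) : Subgroup H) : Set H)), (P : Subgroup ↥(Subgroup.centralizer (((Cfsg.largestPReducedOf p L) : Subgroup H) : Set H))) = T₀.subgroupOf (Subgroup.centralizer (((Cfsg.largestPReducedOf p L) : Subgroup H) : Set H))) ∧ (Cfsg.pCoreOf p L) ≤ T₀ ∧ T₀ ≤ L ⊓ Subgroup.centralizer (((Cfsg.largestPReducedOf p L) : Subgroup H) : Set H) ∧ (Cfsg.omegaOne p ((T : Subgroup H) ⊓ Subgroup.centralizer (((T : Subgroup H) : Subgroup H) : Set H))) ≤ Cfsg.sylowCenterClosure p L ∧ Cfsg.sylowCenterClosure p L ≤ (Cfsg.largestPReducedOf p L) ∧ (Cfsg.largestPReducedOf p L) ≤ (Cfsg.omegaOne p ((Cfsg.pCoreOf p L) ⊓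 Subgroup.centralizer (((Cfsg.pCoreOf p L) : Subgroup H) : Set H))) := by
  subst hT₀
  have hYe := largestPReducedOf_isElementaryAbelian p L
  have hYL : Cfsg.largestPReducedOf p L ≤ L := largestPReducedOf_le p L
  have hLY := le_normalizer_largestPReducedOf p L
  have hYp : IsPGroup p (Cfsg.largestPReducedOf p L) := isPGroup_of_isElementaryAbelian _ hYe
  have hWdef : Cfsg.pCoreOf p L = (Cfsg.pCore p ↥L).map L.subtype := rfl
  have hWp : IsPGroup p (Cfsg.pCoreOf p L) := pCoreMap_isPGroup L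
  have hWL : Cfsg.pCoreOf p L ≤ L := pCoreMap_le p L
  have hLW : L ≤ Subgroup.normalizer ((Cfsg.pCoreOf p L : Subgroup H) : Set H) :=
    le_normalizer_pCoreMap p L
  have hYW : Cfsg.largestPReducedOf p L ≤ Cfsg.pCoreOf p L := le_pCoreMap L _ hYL hLY hYp
  have hWT : Cfsg.pCoreOf p L ≤ (T : Subgroup H) := by
    have hsup : IsPGroup p (Cfsg.pCoreOf p L ⊔ (T : Subgroup H) : Subgroup H) :=
      IsPGroup.to_sup_of_normal_left' hWp T.2 (hTL.trans hLW)
    have h1 := T.3 hsup le_sup_right
    rw [← h1]; exact le_sup_left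
  have hWC : Cfsg.pCoreOf p L ≤ Subgroup.centralizer ((Cfsg.largestPReducedOf p L : Subgroup H) : Set H) := by
    apply isPReducedNormal_subgroupOf_spec (p := p) L (Cfsg.largestPReducedOf p L) hYL
      (by rw [largestPReducedOf_subgroupOf]; exact isPReducedNormal_sSup p) _ hWL hLW
    intro d hd
    obtain ⟨j, hj⟩ := hWp ⟨d, hd⟩
    refine ⟨j, ?_⟩
    have h1 : d ^ p ^ j = 1 := by simpa using congrArg Subtype.val hj
    rw [h1]; exact Subgroup.one_mem _
  have hNC := normalizer_le_normalizer_centralizer (Cfsg.largestPReducedOf p L)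
  refine ⟨?_, le_inf hWT hWC, inf_le_inf hTL le_rfl, ?_, sylowCenterClosure_le_largestPReducedOf L hL, ?_⟩
  · -- Sylow
    have hTp : IsPGroup p (((T : Subgroup H) ⊓ Subgroup.centralizer
        (((Cfsg.largestPReducedOf p L) : Subgroup H) : Set H)).subgroupOf
        (Subgroup.centralizer (((Cfsg.largestPReducedOf p L) : Subgroup H) : Set H))) :=
      (T.2.to_le inf_le_left).comap_subtype
    refine ⟨⟨_, hTp, ?_⟩, rfl⟩
    intro Q hQ hle
    have hinj : Function.Injective (Subgroup.centralizer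
        (((Cfsg.largestPReducedOf p L) : Subgroup H) : Set H)).subtype := Subtype.val_injective
    have hQ'C : Q.map (Subgroup.centralizer
        (((Cfsg.largestPReducedOf p L) : Subgroup H) : Set H)).subtype ≤ Subgroup.centralizer
        (((Cfsg.largestPReducedOf p L) : Subgroup H) : Set H) := by
      rintro _ ⟨x, -, rfl⟩; exact x.2
    have hTK : (T : Subgroup H) ≤ Subgroup.normalizer
        ((Cfsg.largestPReducedOf p L : Subgroup H) : Set H) := hTL.trans hLY
    obtain ⟨k, hk, hQk⟩ := exists_conj_le_sylow_in_subgroup T _ hTK _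
      (hQ'C.trans (Subgroup.centralizer_le_normalizer _)) (hQ.map _)
    have hkC := (mem_normalizer_iff_conj_eq _ k).1 (hNC hk)
    have h1 : Q.map (Subgroup.centralizer
        (((Cfsg.largestPReducedOf p L) : Subgroup H) : Set H)).subtype ≤
        ((T : Subgroup H) ⊓ Subgroup.centralizer
          (((Cfsg.largestPReducedOf p L) : Subgroup H) : Set H)).map (MulAut.conj k).toMonoidHom := by
      rw [Subgroup.map_inf _ _ _ (MulAut.conj k).injective, hkC]
      exact le_inf hQk hQ'C
    have h2 : (T : Subgroup H) ⊓ Subgroup.centralizer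
        (((Cfsg.largestPReducedOf p L) : Subgroup H) : Set H) ≤ Q.map (Subgroup.centralizer
        (((Cfsg.largestPReducedOf p L) : Subgroup H) : Set H)).subtype := by
      intro x hx
      exact ⟨⟨x, (Subgroup.mem_inf.1 hx).2⟩, hle (Subgroup.mem_subgroupOf.2 hx), rfl⟩
    have h3 : Nat.card (Q.map (Subgroup.centralizer
        (((Cfsg.largestPReducedOf p L) : Subgroup H) : Set H)).subtype) ≤
        Nat.card ((T : Subgroup H) ⊓ Subgroup.centralizer
          (((Cfsg.largestPReducedOf p L) : Subgroup H) : Set H) : Subgroup H) := by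
      have h5 := Subgroup.card_le_of_le h1
      rwa [card_conj] at h5
    have h4 := Subgroup.eq_of_le_of_card_ge h2 h3
    rw [← Subgroup.comap_map_eq_self_of_injective hinj Q, ← h4]
    rfl
  · unfold Cfsg.sylowCenterClosure
    refine le_trans ?_ (le_iSup _ (T.subtype hTL))
    rw [Sylow.coe_subtype, Subgroup.subgroupOf_map_subtype, inf_eq_left.2 hTL]
  · intro y hy
    apply mem_omegaOne_center _ y (hYW hy) _ (hYe.2 y hy)
    intro a ha
    exact (Subgroup.mem_centralizer_iff.1 (hWC ha) y hy).symm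

end Cfsg.Agent.S2821
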