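import Cfsg.Prelude.Def_LocalStructure
import Cfsg.Agent.Helper5.PRed2
import Cfsg.Agent.Helper5.PClosed

namespace Cfsg.Agent.S2822

open Cfsg.Agent.Helper5 in
/-- Let H be a finite group, p a prime, T a Sylow p-subgroup, and L, M subgroups of characteristic p containing T, with largest p-reduced normal subgroups Y_L, Y_M. If L·C_H(Y_M) = M·C_H(Y_M), then Y_M ≤ Y_L. -/
theorem result {H : Type*} [Group H] [Finite H] {p : ℕ} [Fact p.Prime] (T : Sylow p H) (L M : Subgroup H) (hTL : (T : Subgroup H) ≤ L) (hTM : (T : Subgroup H) ≤ M) (hL : Subgroup.centralizer (Cfsg.pCore p ↥L : Set ↥L) ≤ Cfsg.pCore p ↥L) (hM : Subgroup.centralizer (Cfsg.pCore p ↥M : Set ↥M) ≤ Cfsg.pCore p ↥M) : L ⊔ Subgroup.centralizer (((Cfsg.largestPReducedOf p M) : Subgroup H) : Set H) = M ⊔ Subgroup.centralizer (((Cfsg.largestPReducedOf p M) : Subgroup H) : Set H) → (Cfsg.largestPReducedOf p M) ≤ (Cfsg.largestPReducedOf p L) := by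
  intro heq
  have hYe := largestPReducedOf_isElementaryAbelian p M
  have hYM : Cfsg.largestPReducedOf p M ≤ M := largestPReducedOf_le p M
  have hMY := le_normalizer_largestPReducedOf p M
  have hYp : IsPGroup p (Cfsg.largestPReducedOf p M) := isPGroup_of_isElementaryAbelian _ hYe
  have hYW : Cfsg.largestPReducedOf p M ≤ (Cfsg.pCore p ↥M).map M.subtype :=
    le_pCoreMap M _ hYM hMY hYp
  have hWT : (Cfsg.pCore p ↥M).map M.subtype ≤ (T : Subgroup H) := by
    have hsup : IsPGroup p ((Cfsg.pCore p ↥M).map M.subtype ⊔ (T : Subgroup H) : Subgroup H) :=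
      IsPGroup.to_sup_of_normal_left' (pCoreMap_isPGroup M) T.2
        (hTM.trans (le_normalizer_pCoreMap p M))
    have h1 := T.3 hsup le_sup_right
    rw [← h1]; exact le_sup_left
  have hYL : Cfsg.largestPReducedOf p M ≤ L := (hYW.trans hWT).trans hTL
  have hMC : M ⊔ Subgroup.centralizer (((Cfsg.largestPReducedOf p M) : Subgroup H) : Set H) ≤
      Subgroup.normalizer ((Cfsg.largestPReducedOf p M : Subgroup H) : Set H) :=
    sup_le hMY (Subgroup.centralizer_le_normalizer _)
  have hLN : L ≤ Subgroup.normalizer ((Cfsg.largestPReducedOf p M : Subgroup H) : Set H) := by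
    refine le_trans ?_ hMC
    rw [← heq]; exact le_sup_left
  have hNC := normalizer_le_normalizer_centralizer (Cfsg.largestPReducedOf p M)
  have hMprop := isPReducedNormal_subgroupOf_spec (p := p) M (Cfsg.largestPReducedOf p M) hYM
    (by rw [largestPReducedOf_subgroupOf]; exact isPReducedNormal_sSup p)
  apply le_largestPReducedOf L _ hYL
  apply isPReducedNormal_subgroupOf L _ hYL hLN hYe
  intro D hDL hLD hDp
  have hDC : D ≤ Subgroup.normalizer ((Subgroup.centralizer
      (((Cfsg.largestPReducedOf p M) : Subgroup H) : Set H) : Subgroup H) : Set H) :=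
    hDL.trans (hLN.trans hNC)
  have hE : (D ⊔ Subgroup.centralizer (((Cfsg.largestPReducedOf p M) : Subgroup H) : Set H)) ⊓ M ≤
      Subgroup.centralizer (((Cfsg.largestPReducedOf p M) : Subgroup H) : Set H) := by
    apply hMprop _ inf_le_right
    · apply le_normalizer_inf _ _ _ _ Subgroup.le_normalizer
      have h1 : L ⊔ Subgroup.centralizer (((Cfsg.largestPReducedOf p M) : Subgroup H) : Set H) ≤
          Subgroup.normalizer ((D ⊔ Subgroup.centralizer
            (((Cfsg.largestPReducedOf p M) : Subgroup H) : Set H) : Subgroup H) : Set H) :=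
        sup_le (le_normalizer_sup _ _ _ hLD (hLN.trans hNC))
          (le_sup_right.trans Subgroup.le_normalizer)
      rw [heq] at h1
      exact le_sup_left.trans h1
    · intro e he
      obtain ⟨heDC, -⟩ := Subgroup.mem_inf.1 he
      rw [← SetLike.mem_coe, Subgroup.coe_mul_of_left_le_normalizer_right _ _ hDC] at heDC
      obtain ⟨d, hd, c, hc, rfl⟩ := Set.mem_mul.1 heDC
      obtain ⟨j, hj⟩ := hDp d hd
      refine ⟨j, ?_⟩
      have key : ∀ n : ℕ, ∃ c' ∈ Subgroup.centralizer
          (((Cfsg.largestPReducedOf p M) : Subgroup H) : Set H), (d * c) ^ n = d ^ n * c' := by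
        intro n
        induction n with
        | zero => exact ⟨1, Subgroup.one_mem _, by simp⟩
        | succ n ih =>
          obtain ⟨c', hc', h⟩ := ih
          refine ⟨d⁻¹ * c' * d * c, ?_, ?_⟩
          · have h2 := (Subgroup.mem_normalizer_iff.1 (Subgroup.inv_mem _ (hDC hd)) c').1 hc'
            rw [inv_inv] at h2
            exact Subgroup.mul_mem _ h2 hc
          · rw [pow_succ, h, pow_succ]; group
      obtain ⟨c', hc', h⟩ := key (p ^ j)
      rw [h]; exact Subgroup.mul_mem _ hj hc'
  intro d hd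
  have hd1 : d ∈ M ⊔ Subgroup.centralizer (((Cfsg.largestPReducedOf p M) : Subgroup H) : Set H) := by
    rw [← heq]; exact le_sup_left (b := Subgroup.centralizer
      (((Cfsg.largestPReducedOf p M) : Subgroup H) : Set H)) (hDL hd)
  rw [← SetLike.mem_coe, Subgroup.coe_mul_of_left_le_normalizer_right _ _ (hMY.trans hNC)] at hd1
  obtain ⟨m, hm, c, hc, rfl⟩ := Set.mem_mul.1 hd1
  have hmE : m ∈ (D ⊔ Subgroup.centralizer
      (((Cfsg.largestPReducedOf p M) : Subgroup H) : Set H)) ⊓ M := by
    refine Subgroup.mem_inf.2 ⟨?_, hm⟩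
    have e : m = (m * c) * c⁻¹ := by group
    rw [e]
    exact Subgroup.mul_mem _ (le_sup_left (b := Subgroup.centralizer
      (((Cfsg.largestPReducedOf p M) : Subgroup H) : Set H)) hd)
      (le_sup_right (a := D) (Subgroup.inv_mem _ hc))
  exact Subgroup.mul_mem _ (hE hmE) hc

end Cfsg.Agent.S2822
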