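import Cfsg.Statements.S2813
import Cfsg.Agent.Helper5.Basic

set_option autoImplicit false
open Cfsg

namespace Cfsg.Agent.S2813

open Cfsg.Agent.Helper5
open scoped commutatorElement

/-- Let K be a subgroup of the finite group H with O_p(K) = 1 and Y a p-subgroup of N_H(K) with [K, Y, Y] = 1. Then [K, Y] = 1. -/
theorem result {H : Type*} [Group H] [Finite H] {p : ℕ} [Fact p.Prime] (K : Subgroup H) (hO : Cfsg.pCore p ↥K = ⊥) (Y : Subgroup H) (hY : IsPGroup p ↥Y) (hYK : Y ≤ Subgroup.normalizer (K : Set H)) (hq : ⁅⁅K, Y⁆, Y⁆ = ⊥) : ⁅K, Y⁆ = ⊥ := by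
  set W : Subgroup H := ⁅K, Y⁆ with hW
  -- (1) W ≤ K
  have hWK : W ≤ K := by
    rw [hW, Subgroup.commutator_le]
    intro k hk y hy
    have h1 : y * k⁻¹ * y⁻¹ ∈ K := (hYK hy k⁻¹).1 (K.inv_mem hk)
    have : ⁅k, y⁆ = k * (y * k⁻¹ * y⁻¹) := by simp [commutatorElement_def, mul_assoc]
    rw [this]; exact K.mul_mem hk h1
  -- (2) Y centralizes W
  have hWY : ∀ w ∈ W, ∀ y ∈ Y, w * y = y * w := by
    intro w hw y hy
    have h1 : ⁅w, y⁆ ∈ ⁅W, Y⁆ := Subgroup.commutator_mem_commutator hw hy
    rw [hq, Subgroup.mem_bot, commutatorElement_def] at h1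
    calc w * y = (w * y * w⁻¹ * y⁻¹) * y * w := by group
      _ = y * w := by rw [h1, one_mul]
  -- (3) K normalizes W
  have hKW : ∀ k ∈ K, ∀ w ∈ W, k * w * k⁻¹ ∈ W := by
    intro k hk w hw
    rw [hW, Subgroup.commutator_def] at hw
    induction hw using Subgroup.closure_induction with
    | mem x hx =>
      obtain ⟨k₁, hk₁, y, hy, rfl⟩ := hx
      have e : k * ⁅k₁, y⁆ * k⁻¹ = ⁅k * k₁, y⁆ * ⁅k, y⁆⁻¹ := by
        simp only [commutatorElement_def]; group
      rw [e]
      exact W.mul_mem (Subgroup.commutator_mem_commutator (K.mul_mem hk hk₁) hy)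
        (W.inv_mem (Subgroup.commutator_mem_commutator hk hy))
    | one => simp
    | mul a b _ _ iha ihb =>
      have e : k * (a * b) * k⁻¹ = (k * a * k⁻¹) * (k * b * k⁻¹) := by group
      rw [e]; exact W.mul_mem iha ihb
    | inv a _ iha =>
      have e : k * a⁻¹ * k⁻¹ = (k * a * k⁻¹)⁻¹ := by group
      rw [e]; exact W.inv_mem iha
  -- (4) W is abelian
  have hWab : ∀ a ∈ W, ∀ b ∈ W, a * b = b * a := by
    intro a ha b hb
    have hcent : a ∈ Subgroup.centralizer (W : Set H) := by
      rw [hW, Subgroup.commutator_def] at ha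
      induction ha using Subgroup.closure_induction with
      | mem x hx =>
        obtain ⟨k, hk, y, hy, rfl⟩ := hx
        rw [Subgroup.mem_centralizer_iff]
        intro w hw
        have hw' : k⁻¹ * w * k⁻¹⁻¹ ∈ W := hKW k⁻¹ (K.inv_mem hk) w hw
        have h1 := hWY _ hw' y hy
        have h2 := hWY w hw y⁻¹ (Y.inv_mem hy)
        have h3 : w * (k * y * k⁻¹) = (k * y * k⁻¹) * w := by
          calc w * (k * y * k⁻¹) = k * ((k⁻¹ * w * k⁻¹⁻¹) * y) * k⁻¹ := by group
            _ = k * (y * (k⁻¹ * w * k⁻¹⁻¹)) * k⁻¹ := by rw [h1]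
            _ = (k * y * k⁻¹) * w := by group
        calc w * ⁅k, y⁆ = (w * (k * y * k⁻¹)) * y⁻¹ := by
              simp only [commutatorElement_def]; group
          _ = (k * y * k⁻¹) * (w * y⁻¹) := by rw [h3]; group
          _ = (k * y * k⁻¹) * (y⁻¹ * w) := by rw [h2]
          _ = ⁅k, y⁆ * w := by simp only [commutatorElement_def]; group
      | one => exact Subgroup.one_mem _
      | mul x y _ _ ihx ihy => exact Subgroup.mul_mem _ ihx ihy
      | inv x _ ihx => exact Subgroup.inv_mem _ ihx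
    rw [Subgroup.mem_centralizer_iff] at hcent
    exact (hcent b hb).symm
  -- (5)+(6) W is a p-group
  have hWp : ∀ w ∈ W, ∃ n : ℕ, w ^ (p ^ n) = 1 := by
    intro w hw
    have hw0 := hw
    rw [hW, Subgroup.commutator_def] at hw
    induction hw using Subgroup.closure_induction with
    | mem x hx =>
      obtain ⟨k, hk, y, hy, rfl⟩ := hx
      set c : H := ⁅k, y⁆ with hc
      have hcW : c ∈ W := Subgroup.commutator_mem_commutator hk hy
      have hyc : y * c = c * y := (hWY c hcW y hy).symm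
      have hiter : ∀ j : ℕ, y ^ j * k⁻¹ * (y ^ j)⁻¹ = k⁻¹ * c ^ j := by
        intro j
        induction j with
        | zero => simp
        | succ j ih =>
          have e1 : y ^ (j + 1) * k⁻¹ * (y ^ (j + 1))⁻¹ = y * (y ^ j * k⁻¹ * (y ^ j)⁻¹) * y⁻¹ := by
            rw [pow_succ']; group
          rw [e1, ih]
          have hcj : Commute y (c ^ j) := (show Commute y c from hyc).pow_right j
          calc y * (k⁻¹ * c ^ j) * y⁻¹ = (y * k⁻¹ * y⁻¹) * (y * c ^ j) * y⁻¹ := by group
            _ = (y * k⁻¹ * y⁻¹) * (c ^ j * y) * y⁻¹ := by rw [hcj.eq]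
            _ = k⁻¹ * (k * y * k⁻¹ * y⁻¹) * c ^ j := by group
            _ = k⁻¹ * c ^ (j + 1) := by
              rw [← commutatorElement_def, ← hc, pow_succ', mul_assoc]
      obtain ⟨n, hn⟩ := hY ⟨y, hy⟩
      have hn' : y ^ (p ^ n) = 1 := by
        have := congrArg Subtype.val hn
        simpa using this
      refine ⟨n, ?_⟩
      have := hiter (p ^ n)
      rw [hn'] at this
      have h5 : k⁻¹ * c ^ (p ^ n) = k⁻¹ := by rw [← this]; group
      exact mul_eq_left.1 h5
    | one => exact ⟨0, by simp⟩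
    | mul a b ha hb iha ihb =>
      have haW : a ∈ W := by rw [hW, Subgroup.commutator_def]; exact ha
      have hbW : b ∈ W := by rw [hW, Subgroup.commutator_def]; exact hb
      obtain ⟨n, hn⟩ := iha haW
      obtain ⟨m, hm⟩ := ihb hbW
      refine ⟨n + m, ?_⟩
      have hab : Commute a b := hWab a haW b hbW
      rw [hab.mul_pow, pow_add, pow_mul, hn, one_pow, mul_comm (p ^ n), pow_mul, hm, one_pow, one_mul]
    | inv a ha iha =>
      have haW : a ∈ W := by rw [hW, Subgroup.commutator_def]; exact ha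
      obtain ⟨n, hn⟩ := iha haW
      exact ⟨n, by rw [inv_pow, hn, inv_one]⟩
  -- (7)
  set D : Subgroup K := W.subgroupOf K with hD
  have hDn : D.Normal := by
    constructor
    intro x hx k
    rw [hD, Subgroup.mem_subgroupOf] at hx ⊢
    exact hKW k k.2 x hx
  have hDp : IsPGroup p D := by
    intro d
    obtain ⟨n, hn⟩ := hWp (d : K) d.2
    refine ⟨n, ?_⟩
    apply Subtype.ext
    apply Subtype.ext
    simpa using hn
  have hDbot : D = ⊥ := by
    have := le_pCore D hDn hDp
    rw [hO] at this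
    exact le_bot_iff.1 this
  rw [hD, Subgroup.subgroupOf_eq_bot] at hDbot
  have := hDbot.eq_bot
  rwa [inf_eq_left.2 hWK] at this

end Cfsg.Agent.S2813
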