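import Cfsg.Statements.S0029
import Mathlib
import Cfsg.Agent.Lead.Coprime

set_option autoImplicit false
open Cfsg

namespace Cfsg.Agent.S0029

/-- An action that is trivial on the Frattini quotient and coprime on the Frattini subgroup is trivial: if A normalises K, the orders of A and of the Frattini subgroup of K are coprime, and every commutator of an element of A with an element of K lies in the Frattini subgroup of K, then A centralises K. -/
theorem result {G : Type*} [Group G] [Finite G] (A K : Subgroup G)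
    (hAK : A ≤ Subgroup.normalizer (K : Set G))
    (hcop : (Nat.card A).Coprime (Nat.card (frattini K)))
    (htriv : ∀ a ∈ A, ∀ k ∈ K, a * k * a⁻¹ * k⁻¹ ∈ (frattini K).map K.subtype) :
    A ≤ Subgroup.centralizer (K : Set G) := by
  classical
  set Φ : Subgroup G := (frattini K).map K.subtype with hΦ
  have hΦK : Φ ≤ K := Subgroup.map_subtype_le _
  have hmemΦ : ∀ x : K, (x : G) ∈ Φ ↔ x ∈ frattini K := by
    intro x
    rw [hΦ, Subgroup.mem_map]
    constructor
    · rintro ⟨y, hy, hyx⟩
      have : y = x := Subtype.ext hyx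
      rwa [← this]
    · intro hx
      exact ⟨x, hx, rfl⟩
  have hconjA : ∀ a ∈ A, ∀ x ∈ Φ, a * x * a⁻¹ ∈ Φ := by
    intro a ha x hx
    have h1 := htriv a ha x (hΦK hx)
    have : a * x * a⁻¹ = (a * x * a⁻¹ * x⁻¹) * x := by group
    rw [this]; exact mul_mem h1 hx
  have hAΦ : A ≤ Subgroup.normalizer (Φ : Set G) := by
    intro a ha
    rw [Subgroup.mem_normalizer_iff]
    intro x
    constructor
    · exact hconjA a ha x
    · intro hx
      have := hconjA a⁻¹ (inv_mem ha) _ hx
      have e : a⁻¹ * (a * x * a⁻¹) * a⁻¹⁻¹ = x := by group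
      rwa [e] at this
  have hconjK : ∀ k ∈ K, ∀ x ∈ Φ, k * x * k⁻¹ ∈ Φ := by
    intro k hk x hx
    have h1 : (⟨x, hΦK hx⟩ : K) ∈ frattini K := (hmemΦ ⟨x, hΦK hx⟩).mp hx
    have hn : (frattini K).Normal := inferInstance
    have h2 := hn.conj_mem _ h1 ⟨k, hk⟩
    exact (hmemΦ _).mpr h2
  have hKΦ : K ≤ Subgroup.normalizer (Φ : Set G) := by
    intro k hk
    rw [Subgroup.mem_normalizer_iff]
    intro x
    constructor
    · exact hconjK k hk x
    · intro hx
      have := hconjK k⁻¹ (inv_mem hk) _ hx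
      have e : k⁻¹ * (k * x * k⁻¹) * k⁻¹⁻¹ = x := by group
      rwa [e] at this
  have hcardΦ : Nat.card Φ = Nat.card (frattini K) :=
    Subgroup.card_map_of_injective K.subtype_injective
  have hsolvΦ : Group.IsSolvable Φ := by
    have hnil : Group.IsNilpotent (frattini K) := frattini_nilpotent
    let e := (Subgroup.equivMapOfInjective (frattini K) K.subtype K.subtype_injective).symm
    exact Group.isSolvable_of_isSolvable_injective (f := e.toMonoidHom) e.injective
  have key : ∀ k ∈ K, ∃ c ∈ Subgroup.centralizer (A : Set G), k⁻¹ * c ∈ Φ := fun k hk =>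
    Lead.coprime_fixed_coset A Φ hAΦ (by rw [hcardΦ]; exact hcop) (Or.inr hsolvΦ) k (hKΦ hk)
      (fun a ha => htriv a ha k hk)
  set C : Subgroup K := (Subgroup.centralizer (A : Set G)).subgroupOf K with hC
  have htop : C ⊔ frattini K = ⊤ := by
    rw [eq_top_iff]
    intro k _
    obtain ⟨c, hc, hcΦ⟩ := key k k.2
    have hcK : c ∈ K := by
      have : c = k * ((k : G)⁻¹ * c) := by group
      rw [this]; exact mul_mem k.2 (hΦK hcΦ)
    have h1 : (⟨c, hcK⟩ : K) ∈ C := Subgroup.mem_subgroupOf.mpr hc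
    have h2 : k⁻¹ * (⟨c, hcK⟩ : K) ∈ frattini K := (hmemΦ _).mp hcΦ
    have h3 : k = (⟨c, hcK⟩ : K) * (k⁻¹ * (⟨c, hcK⟩ : K))⁻¹ := by group
    rw [h3]
    exact mul_mem (Subgroup.mem_sup_left h1) (Subgroup.mem_sup_right (inv_mem h2))
  have hCtop : C = ⊤ := frattini_nongenerating htop
  intro a ha
  rw [Subgroup.mem_centralizer_iff]
  intro k hk
  have hk' : k ∈ K := hk
  have h1 : (⟨k, hk'⟩ : K) ∈ C := by rw [hCtop]; trivial
  have h2 : k ∈ Subgroup.centralizer (A : Set G) := Subgroup.mem_subgroupOf.mp h1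
  exact ((Subgroup.mem_centralizer_iff.mp h2) a ha).symm


end Cfsg.Agent.S0029
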