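import Cfsg.Statements.S0087
import Mathlib
import Cfsg.Agent.Helper6.HallNilp
import Cfsg.Agent.Helper3.Cores
-- import your own Cfsg.Agent.* helpers here

set_option autoImplicit false
open Cfsg

namespace Cfsg.Agent.S0087


universe u

open Cfsg.Agent.Helper6 in
theorem hall_burnside_aux : ∀ n : ℕ, ∀ (G : Type u) [Group G] [Finite G], Nat.card G = n →
    ∀ H : Subgroup G, (Nat.card H).Coprime H.index →
      Subgroup.normalizer (H : Set G) ≤ Subgroup.centralizer (H : Set G) →
      ∃ N : Subgroup G, N.Normal ∧ N.IsComplement' H := by
  intro n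
  induction n using Nat.strong_induction_on with
  | _ n ih =>
    intro G _ _ hn H hHall hNC
    have hab : ∀ a ∈ H, ∀ b ∈ H, a * b = b * a := by
      intro a ha b hb
      exact (Subgroup.mem_centralizer_iff.mp (hNC (Subgroup.le_normalizer ha)) b hb).symm
    apply exists_normal_complement_of_forall_npc H hHall
    intro p hp hpd
    haveI : Fact p.Prime := ⟨hp⟩
    obtain ⟨Q⟩ : Nonempty (Sylow p H) := inferInstance
    obtain ⟨P, hP⟩ := exists_sylow_of_hall H hHall hpd Q
    have hPH : (P : Subgroup G) ≤ H := by
      rw [hP]; exact Subgroup.map_subtype_le _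
    have claim : Subgroup.normalizer ((P : Subgroup G) : Set G) ≤
        Subgroup.centralizer ((P : Subgroup G) : Set G) := by
      obtain ⟨C, hCdef⟩ : ∃ C : Subgroup G, C = Subgroup.centralizer ((P : Subgroup G) : Set G) :=
        ⟨_, rfl⟩
      rw [← hCdef]
      have hHC : H ≤ C := by
        intro h hh
        rw [hCdef, Subgroup.mem_centralizer_iff]
        intro x hx
        exact hab x (hPH hx) h hh
      by_cases hCtop : C = ⊤
      · rw [hCtop]; exact le_top
      · have hlt : Nat.card C < n := by
          rw [← hn]
          exact Cfsg.Agent.Helper3.card_lt_card_of_lt_top' _ (lt_top_iff_ne_top.mpr hCtop)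
        have hcardH' : Nat.card (H.subgroupOf C)
            = Nat.card H := Cfsg.Agent.Helper3.card_subgroupOf_of_le hHC
        have hHall' : (Nat.card (H.subgroupOf C)).Coprime
            (H.subgroupOf C).index := by
          rw [hcardH']
          exact Nat.Coprime.coprime_dvd_right (Subgroup.relIndex_dvd_index_of_le hHC) hHall
        have hNC' : Subgroup.normalizer ((H.subgroupOf C : Subgroup C) : Set C) ≤
            Subgroup.centralizer ((H.subgroupOf C : Subgroup C) : Set C) := by
          intro x hx
          have hxN : (x : G) ∈ Subgroup.normalizer (H : Set G) := by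
            apply Cfsg.Agent.Helper5.mem_normalizer_of_conj_le
            rintro _ ⟨h, hh, rfl⟩
            have h1 := (Subgroup.mem_normalizer_iff.mp hx ⟨h, hHC hh⟩).mp
              (Subgroup.mem_subgroupOf.mpr hh)
            exact Subgroup.mem_subgroupOf.mp h1
          have hxC := hNC hxN
          rw [Subgroup.mem_centralizer_iff] at hxC ⊢
          intro y hy
          apply Subtype.ext
          exact hxC y (Subgroup.mem_subgroupOf.mp hy)
        obtain ⟨L', hL'n, hL'c⟩ := ih _ hlt C rfl
          (H.subgroupOf C) hHall' hNC'
        have hL'cop : (Nat.card L').Coprime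
            (Nat.card (H.subgroupOf C)) := by
          rw [← hL'c.index_eq_card]
          exact hHall'.symm
        -- L in G
        have hLmem : ∀ x : G, x ∈ L'.map C.subtype ↔
            (x ∈ C ∧
              (orderOf x).Coprime (Nat.card H)) := by
          intro x
          constructor
          · rintro ⟨x', hx', rfl⟩
            refine ⟨x'.2, ?_⟩
            have h0 := (mem_iff_coprime_of_normal_complement L' _ hL'n hL'c hL'cop x').mp hx'
            rw [hcardH'] at h0
            rw [Subgroup.coe_subtype, Subgroup.orderOf_coe]
            exact h0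
          · rintro ⟨hxC, hxo⟩
            refine ⟨⟨x, hxC⟩, ?_, rfl⟩
            apply (mem_iff_coprime_of_normal_complement L' _ hL'n hL'c hL'cop _).mpr
            rw [hcardH', Subgroup.orderOf_mk]
            exact hxo
        have hLC : L'.map C.subtype ≤
            C := Subgroup.map_subtype_le _
        -- normalizer of P normalizes C
        have hNPC : ∀ g ∈ Subgroup.normalizer ((P : Subgroup G) : Set G),
            ∀ c ∈ C,
            g * c * g⁻¹ ∈ C := by
          intro g hg c hc
          rw [hCdef] at hc ⊢
          rw [Subgroup.mem_centralizer_iff] at hc ⊢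
          intro x hx
          have hx' : g⁻¹ * x * g ∈ (P : Subgroup G) := by
            have h0 := (Subgroup.mem_normalizer_iff.mp (Subgroup.inv_mem _ hg) x).mp hx
            simpa using h0
          have h1 := hc _ hx'
          calc x * (g * c * g⁻¹) = g * ((g⁻¹ * x * g) * c) * g⁻¹ := by group
            _ = g * (c * (g⁻¹ * x * g)) * g⁻¹ := by rw [h1]
            _ = g * c * g⁻¹ * x := by group
        have hNPL : ∀ g ∈ Subgroup.normalizer ((P : Subgroup G) : Set G),
            (L'.map C.subtype).map
              (MulAut.conj g).toMonoidHom =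
            L'.map C.subtype := by
          intro g hg
          apply Cfsg.Agent.Helper5.conj_le_of_mem_normalizer
          apply Cfsg.Agent.Helper5.mem_normalizer_of_conj_le
          rintro _ ⟨x, hx, rfl⟩
          obtain ⟨hxC, hxo⟩ := (hLmem x).mp hx
          apply (hLmem _).mpr
          refine ⟨hNPC g hg x hxC, ?_⟩
          have e : (MulAut.conj g).toMonoidHom x = g * x * g⁻¹ := rfl
          rw [e, Cfsg.Agent.Lead.orderOf_conj_eq]
          exact hxo
        have hNPCmap : ∀ g ∈ Subgroup.normalizer ((P : Subgroup G) : Set G),
            C.map (MulAut.conj g).toMonoidHom =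
            C := by
          intro g hg
          apply Cfsg.Agent.Helper5.conj_le_of_mem_normalizer
          apply Cfsg.Agent.Helper5.mem_normalizer_of_conj_le
          rintro _ ⟨x, hx, rfl⟩
          exact hNPC g hg x hx
        have hLH : L'.map C.subtype ⊓ H = ⊥ := by
          rw [eq_bot_iff]
          rintro x ⟨hxL, hxH⟩
          rw [Subgroup.mem_bot]
          obtain ⟨-, hxo⟩ := (hLmem x).mp hxL
          have h1 : orderOf x ∣ Nat.card H := by
            have h0 := orderOf_dvd_natCard (⟨x, hxH⟩ : H)
            rwa [Subgroup.orderOf_mk] at h0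
          exact orderOf_eq_one_iff.mp (Nat.Coprime.eq_one_of_dvd hxo h1)
        have hsupLH : L'.map C.subtype ⊔ H =
            C := by
          have h0 := hL'c.sup_eq_top
          have h1 := congrArg (Subgroup.map C.subtype) h0
          rw [Subgroup.map_sup, Subgroup.map_subgroupOf_eq_of_le hHC, ← MonoidHom.range_eq_map,
            Subgroup.range_subtype] at h1
          exact h1
        have hcopL : (Nat.card (L'.map C.subtype)).Coprime
            (Nat.card H) := by
          rw [Subgroup.card_map_of_injective (Subgroup.subtype_injective _), ← hcardH']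
          exact hL'cop
        haveI : Group.IsSolvable H := isSolvable_of_comm (fun a b => Subtype.ext (hab a a.2 b b.2))
        intro g hg
        have hHN : H ≤ Subgroup.normalizer
            ((L'.map C.subtype : Subgroup G) : Set G) := by
          intro h hh
          rw [Cfsg.Agent.Helper5.mem_normalizer_iff_conj_eq]
          have hhC : h ∈ Subgroup.centralizer ((P : Subgroup G) : Set G) := by
            rw [← hCdef]; exact hHC hh
          exact hNPL h (Subgroup.centralizer_le_normalizer _ hhC)
        have hLK : L'.map C.subtype ⊓
            H.map (MulAut.conj g).toMonoidHom = ⊥ := by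
          rw [eq_bot_iff]
          rintro x ⟨hxL, ⟨h, hh, rfl⟩⟩
          rw [Subgroup.mem_bot]
          obtain ⟨-, hxo⟩ := (hLmem _).mp hxL
          have e : (MulAut.conj g).toMonoidHom h = g * h * g⁻¹ := rfl
          rw [e] at hxo ⊢
          rw [Cfsg.Agent.Lead.orderOf_conj_eq] at hxo
          have h1 : orderOf h ∣ Nat.card H := by
            have h0 := orderOf_dvd_natCard (⟨h, hh⟩ : H)
            rwa [Subgroup.orderOf_mk] at h0
          have h2 : h = 1 := orderOf_eq_one_iff.mp (Nat.Coprime.eq_one_of_dvd hxo h1)
          rw [h2]; group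
        have hsup : L'.map C.subtype ⊔ H =
            L'.map C.subtype ⊔
              H.map (MulAut.conj g).toMonoidHom := by
          have h0 := congrArg (Subgroup.map (MulAut.conj g).toMonoidHom) hsupLH
          rw [Subgroup.map_sup, hNPL g hg, hNPCmap g hg] at h0
          rw [h0, hsupLH]
        obtain ⟨x, hxL, hx⟩ := Cfsg.Agent.Helper3.sz_conj_rel _ H (H.map (MulAut.conj g).toMonoidHom)
          hHN hLH hLK hsup hcopL (Or.inr inferInstance)
        have hxg : x⁻¹ * g ∈ Subgroup.normalizer (H : Set G) := by
          apply Cfsg.Agent.Helper5.mem_normalizer_of_conj_le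
          rintro _ ⟨h, hh, rfl⟩
          have h1 : g * h * g⁻¹ ∈ H.map (MulAut.conj x).toMonoidHom := by
            rw [hx]; exact ⟨h, hh, rfl⟩
          obtain ⟨h', hh', hh'e⟩ := h1
          have e : (MulAut.conj x).toMonoidHom h' = x * h' * x⁻¹ := rfl
          rw [e] at hh'e
          have e2 : (MulAut.conj (x⁻¹ * g)).toMonoidHom h = x⁻¹ * (g * h * g⁻¹) * x := by
            show x⁻¹ * g * h * (x⁻¹ * g)⁻¹ = _
            group
          rw [e2, ← hh'e]
          have e3 : x⁻¹ * (x * h' * x⁻¹) * x = h' := by group
          rw [e3]; exact hh'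
        have hxgC : x⁻¹ * g ∈ C := by
          rw [hCdef]
          exact Subgroup.centralizer_le (SetLike.coe_subset_coe.mpr hPH) (hNC hxg)
        have hxC : x ∈ C := hLC hxL
        have e4 : g = x * (x⁻¹ * g) := by group
        rw [e4]
        exact Subgroup.mul_mem _ hxC hxgC
    exact ⟨P, _, MonoidHom.normal_ker _, MonoidHom.ker_transferSylow_isComplement' P claim⟩

/-- A Hall subgroup that is central in its normalizer has a normal complement. -/
theorem result {G : Type*} [Group G] [Finite G] (H : Subgroup G) (hHall : Nat.Coprime (Nat.card H) H.index) (h : Subgroup.normalizer (H : Set G) ≤ Subgroup.centralizer (H : Set G)) : ∃ N : Subgroup G, N.Normal ∧ N.IsComplement' H := by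
  exact hall_burnside_aux _ G rfl H hHall h

end Cfsg.Agent.S0087
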