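import Cfsg.Statements.S4262
import Mathlib
import Cfsg.Agent.Helper6.AbMax
import Cfsg.Agent.Helper6.MaxCent
-- import your own Cfsg.Agent.* helpers here

set_option autoImplicit false
open Cfsg

namespace Cfsg.Agent.S4262


/-- coprime powers generate -/
theorem mem_of_pow_mem_coprime {G : Type*} [Group G] (H : Subgroup G) (x : G) (a b : ℕ)
    (hab : Nat.Coprime a b) (ha : x ^ a ∈ H) (hb : x ^ b ∈ H) : x ∈ H := by
  have hab' : Nat.gcd a b = 1 := hab
  have h1 : (a : ℤ) * Nat.gcdA a b + b * Nat.gcdB a b = 1 := by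
    have h := Nat.gcd_eq_gcd_ab a b
    rw [hab'] at h
    simpa using h.symm
  have h2 : x = (x ^ a) ^ (Nat.gcdA a b) * (x ^ b) ^ (Nat.gcdB a b) := by
    rw [← zpow_natCast x a, ← zpow_natCast x b, ← zpow_mul, ← zpow_mul, ← zpow_add, h1, zpow_one]
  rw [h2]; exact mul_mem (zpow_mem ha _) (zpow_mem hb _)

/-- `p`-part and `p'`-part exponents -/
theorem ppart {G : Type*} [Group G] [Finite G] {p : ℕ} (hp : p.Prime) (g : G) :
    ∃ k c : ℕ, Nat.Coprime c (p ^ k) ∧ (g ^ c) ^ (p ^ k) = 1 ∧
      (orderOf (g ^ (p ^ k))).Coprime p ∧ p ^ k * c = orderOf g ∧ (p ∣ orderOf g → 0 < k) := by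
  have hn : 0 < orderOf g := orderOf_pos g
  have h1 : p ^ (orderOf g).factorization p * (orderOf g / p ^ (orderOf g).factorization p) = orderOf g :=
    Nat.ordProj_mul_ordCompl_eq_self (orderOf g) p
  have h2 : Nat.Coprime p (orderOf g / p ^ (orderOf g).factorization p) :=
    Nat.coprime_ordCompl hp hn.ne'
  refine ⟨(orderOf g).factorization p, orderOf g / p ^ (orderOf g).factorization p,
    Nat.Coprime.pow_right _ h2.symm, ?_, ?_, h1, ?_⟩
  · rw [← pow_mul, mul_comm, h1, pow_orderOf_eq_one]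
  · have hdvd : orderOf (g ^ (p ^ (orderOf g).factorization p)) ∣
        orderOf g / p ^ (orderOf g).factorization p :=
      orderOf_dvd_of_pow_eq_one (by rw [← pow_mul, h1, pow_orderOf_eq_one])
    exact Nat.Coprime.coprime_dvd_left hdvd h2.symm
  · intro hdvd
    exact Nat.Prime.factorization_pos_of_dvd hp hn.ne' hdvd

/-- a non-member has a non-member power of prime power order -/
theorem pp_power {G : Type*} [Group G] [Finite G] (K : Subgroup G) :
    ∀ (N : ℕ) (g : G), orderOf g = N → g ∉ K →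
      ∃ n : ℕ, g ^ n ∉ K ∧ IsPrimePow (orderOf (g ^ n)) := by
  intro N
  induction N using Nat.strong_induction_on with
  | _ N ih =>
    intro g hgN hg
    have hN1 : N ≠ 1 := by
      intro h1
      rw [h1, orderOf_eq_one_iff] at hgN
      exact hg (hgN ▸ one_mem K)
    have hp := Nat.minFac_prime hN1
    obtain ⟨k, c, hcop, hc1, hord, hkc, hkpos⟩ := ppart hp g
    by_cases ha : g ^ c ∈ K
    · have hb : g ^ (N.minFac ^ k) ∉ K :=
        fun hb => hg (mem_of_pow_mem_coprime K g c _ hcop ha hb)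
      have hk : 0 < k := hkpos (by rw [hgN]; exact Nat.minFac_dvd N)
      have hlt : orderOf (g ^ (N.minFac ^ k)) < N := by
        have hdvd : orderOf (g ^ (N.minFac ^ k)) ∣ c :=
          orderOf_dvd_of_pow_eq_one (by rw [← pow_mul, hkc, pow_orderOf_eq_one])
        have hNpos : 0 < N := by rw [← hgN]; exact orderOf_pos g
        have hcpos : 0 < c := by
          rcases Nat.eq_zero_or_pos c with h0 | h0
          · rw [h0, mul_zero] at hkc
            rw [← hkc] at hgN
            omega
          · exact h0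
        have h2 : 2 ≤ N.minFac ^ k := by
          calc 2 ≤ N.minFac := hp.two_le
            _ = N.minFac ^ 1 := (pow_one _).symm
            _ ≤ N.minFac ^ k := Nat.pow_le_pow_right hp.pos hk
        have hcN : c < N := by
          rw [← hgN, ← hkc]
          nlinarith
        exact lt_of_le_of_lt (Nat.le_of_dvd hcpos hdvd) hcN
      obtain ⟨n', hn', hpp'⟩ := ih _ hlt (g ^ (N.minFac ^ k)) rfl hb
      exact ⟨N.minFac ^ k * n', by rw [pow_mul]; exact hn', by rw [pow_mul]; exact hpp'⟩
    · refine ⟨c, ha, ?_⟩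
      have hdvd : orderOf (g ^ c) ∣ N.minFac ^ k := orderOf_dvd_of_pow_eq_one hc1
      obtain ⟨j, hj, hj2⟩ := (Nat.dvd_prime_pow hp).mp hdvd
      have hj0 : j ≠ 0 := by
        intro h0
        rw [h0, pow_zero, orderOf_eq_one_iff] at hj2
        exact ha (hj2 ▸ one_mem K)
      rw [hj2]
      exact (isPrimePow_nat_iff _).mpr ⟨N.minFac, j, hp, Nat.pos_of_ne_zero hj0, rfl⟩

/-- commuting non-central elements of coprime orders have the same centralizer -/
theorem cent_eq_of_coprime {G : Type*} [Group G]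
    (h : ∀ g : G, g ∉ Subgroup.center G → IsCoatom (Subgroup.centralizer ({g} : Set G)))
    (x y : G) (hx : x ∉ Subgroup.center G) (hy : y ∉ Subgroup.center G) (hc : Commute x y)
    (hcop : (orderOf x).Coprime (orderOf y)) :
    Subgroup.centralizer ({x} : Set G) = Subgroup.centralizer ({y} : Set G) := by
  obtain ⟨m, hm⟩ := exists_pow_eq_self_of_coprime (x := x) hcop.symm
  obtain ⟨m', hm'⟩ := exists_pow_eq_self_of_coprime (x := y) hcop
  have hx' : (x * y) ^ (orderOf y * m) = x := by
    rw [pow_mul, hc.mul_pow, pow_orderOf_eq_one, mul_one]; exact hm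
  have hy' : (x * y) ^ (orderOf x * m') = y := by
    rw [pow_mul, hc.mul_pow, pow_orderOf_eq_one, one_mul]; exact hm'
  have hle : ∀ (w z : G) (n : ℕ), w ^ n = z →
      Subgroup.centralizer ({w} : Set G) ≤ Subgroup.centralizer ({z} : Set G) := by
    intro w z n hwz g hg
    rw [Subgroup.mem_centralizer_singleton_iff] at hg ⊢
    rw [← hwz]
    exact (Commute.pow_right (show Commute g w from hg) n).eq
  have hw : x * y ∉ Subgroup.center G := by
    intro hw
    apply hx
    rw [← hx']
    exact pow_mem hw _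
  have hnt : ∀ z : G, z ∉ Subgroup.center G → Subgroup.centralizer ({z} : Set G) ≠ ⊤ := by
    intro z hz ht
    exact hz (Subgroup.centralizer_eq_top_iff_subset.mp ht (Set.mem_singleton z))
  have h1 : Subgroup.centralizer ({x} : Set G) = Subgroup.centralizer ({x * y} : Set G) := by
    rcases (h _ hw).le_iff.mp (hle (x * y) x _ hx') with h1 | h1
    · exact absurd h1 (hnt x hx)
    · exact h1
  have h2 : Subgroup.centralizer ({y} : Set G) = Subgroup.centralizer ({x * y} : Set G) := by
    rcases (h _ hw).le_iff.mp (hle (x * y) y _ hy') with h1 | h1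
    · exact absurd h1 (hnt y hy)
    · exact h1
  rw [h1, h2]

/-- an element of `C(x)` of order coprime to that of `x` is central in `C(x)` -/
theorem comm_of_coprime {G : Type*} [Group G]
    (h : ∀ g : G, g ∉ Subgroup.center G → IsCoatom (Subgroup.centralizer ({g} : Set G)))
    (x y : G) (hx : x ∉ Subgroup.center G) (hy : y ∈ Subgroup.centralizer ({x} : Set G))
    (hcop : (orderOf x).Coprime (orderOf y)) :
    ∀ m ∈ Subgroup.centralizer ({x} : Set G), Commute y m := by
  intro m hm
  by_cases hyz : y ∈ Subgroup.center G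
  · exact (Subgroup.mem_center_iff.mp hyz m).symm
  · have hc : Commute x y := by
      rw [Subgroup.mem_centralizer_singleton_iff] at hy
      exact hy.symm
    have he := cent_eq_of_coprime h x y hx hyz hc hcop
    rw [he, Subgroup.mem_centralizer_singleton_iff] at hm
    exact hm.symm

/-- `C(x)/Z(C(x))` is a `p`-group for a non-central `p`-element `x` -/
theorem quot_center_isPGroup {G : Type*} [Group G] [Finite G]
    (h : ∀ g : G, g ∉ Subgroup.center G → IsCoatom (Subgroup.centralizer ({g} : Set G)))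
    {p : ℕ} (hp : p.Prime) (x : G) (hx : x ∉ Subgroup.center G) (e : ℕ) (hxe : x ^ (p ^ e) = 1) :
    IsPGroup p (↥(Subgroup.centralizer ({x} : Set G)) ⧸
      Subgroup.center ↥(Subgroup.centralizer ({x} : Set G))) := by
  intro q
  obtain ⟨m, rfl⟩ := QuotientGroup.mk_surjective q
  obtain ⟨k, c, hcop, hc1, hord, hkc, -⟩ := ppart hp (m : G)
  refine ⟨k, ?_⟩
  rw [← QuotientGroup.mk_pow, QuotientGroup.eq_one_iff, Subgroup.mem_center_iff]
  intro m'
  have hox : (orderOf x).Coprime (orderOf ((m : G) ^ (p ^ k))) := by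
    have h1 : orderOf x ∣ p ^ e := orderOf_dvd_of_pow_eq_one hxe
    exact Nat.Coprime.coprime_dvd_left h1 (Nat.Coprime.pow_left e hord.symm)
  have h2 := comm_of_coprime h x ((m : G) ^ (p ^ k)) hx (pow_mem m.2 _) hox (m' : G) m'.2
  apply Subtype.ext
  simp only [Subgroup.coe_mul, Subgroup.coe_pow]
  exact h2.eq.symm

/-- centralizers of non-central elements are nilpotent -/
theorem cent_nilpotent {G : Type*} [Group G] [Finite G]
    (h : ∀ g : G, g ∉ Subgroup.center G → IsCoatom (Subgroup.centralizer ({g} : Set G)))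
    (g : G) (hg : g ∉ Subgroup.center G) :
    Group.IsNilpotent ↥(Subgroup.centralizer ({g} : Set G)) := by
  obtain ⟨n, hn, hpp⟩ := pp_power (Subgroup.center G) (orderOf g) g rfl hg
  obtain ⟨p, e, hp, he, hpe⟩ := (isPrimePow_nat_iff _).mp hpp
  have heq : Subgroup.centralizer ({g ^ n} : Set G) = Subgroup.centralizer ({g} : Set G) := by
    have hle : Subgroup.centralizer ({g} : Set G) ≤ Subgroup.centralizer ({g ^ n} : Set G) := by
      intro a ha
      rw [Subgroup.mem_centralizer_singleton_iff] at ha ⊢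
      exact (Commute.pow_right (show Commute a g from ha) n).eq
    have hnt : Subgroup.centralizer ({g ^ n} : Set G) ≠ ⊤ := by
      intro ht
      exact hn (Subgroup.centralizer_eq_top_iff_subset.mp ht (Set.mem_singleton _))
    rcases (h g hg).le_iff.mp hle with h1 | h1
    · exact absurd h1 hnt
    · exact h1
  rw [← heq]
  haveI := Fact.mk hp
  have hP := quot_center_isPGroup h hp (g ^ n) hn e (by rw [hpe, pow_orderOf_eq_one])
  haveI := hP.isNilpotent
  exact Subgroup.isNilpotent_of_ker_le_center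
    (QuotientGroup.mk' (Subgroup.center ↥(Subgroup.centralizer ({g ^ n} : Set G))))
    (by rw [QuotientGroup.ker_mk'])

/-- Let G be a finite group in which the centralizer of every non-central element is a maximal subgroup of G. Then G is solvable. -/
theorem result {G : Type*} [Group G] [Finite G]
    (h : ∀ g : G, g ∉ Subgroup.center G → IsCoatom (Subgroup.centralizer ({g} : Set G))) :
    Group.IsSolvable G := by
  classical
  by_cases hab : ∀ g : G, g ∈ Subgroup.center G
  · exact Group.isSolvable_of_comm (fun a b => Subgroup.mem_center_iff.mp (hab b) a)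
  push Not at hab
  obtain ⟨g₀, hg₀⟩ := hab
  obtain ⟨n, hx, hpp⟩ := pp_power (Subgroup.center G) (orderOf g₀) g₀ rfl hg₀
  obtain ⟨p, e, hp, he, hpe⟩ := (isPrimePow_nat_iff _).mp hpp
  haveI := Fact.mk hp
  have hxe : (g₀ ^ n) ^ (p ^ e) = 1 := by rw [hpe, pow_orderOf_eq_one]
  generalize g₀ ^ n = x at hx hxe
  have hM := h x hx
  by_cases hMab : IsMulCommutative ↥(Subgroup.centralizer ({x} : Set G))
  · exact ⟨⟨3, Cfsg.Agent.Helper6.abelian_coatom_derived _ hM⟩⟩
  have hP := quot_center_isPGroup h hp x hx e hxe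
  haveI hMnil : Group.IsNilpotent ↥(Subgroup.centralizer ({x} : Set G)) := cent_nilpotent h x hx
  have hmemM : ∀ a : G, a ∈ Subgroup.centralizer ({x} : Set G) ↔ a * x = x * a :=
    fun a => Subgroup.mem_centralizer_singleton_iff
  generalize hMdef : Subgroup.centralizer ({x} : Set G) = M at hM hMab hP hMnil hmemM
  haveI : Nontrivial (↥M ⧸ Subgroup.center ↥M) := by
    by_contra hnt
    rw [not_nontrivial_iff_subsingleton] at hnt
    apply hMab
    refine ⟨⟨fun a b => ?_⟩⟩
    have h1 : (QuotientGroup.mk b : ↥M ⧸ Subgroup.center ↥M) = 1 := Subsingleton.elim _ _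
    rw [QuotientGroup.eq_one_iff] at h1
    exact Subgroup.mem_center_iff.mp h1 a
  haveI := hP.center_nontrivial
  obtain ⟨⟨z, hz⟩, hz1⟩ := exists_ne (1 : Subgroup.center (↥M ⧸ Subgroup.center ↥M))
  obtain ⟨t, rfl⟩ := QuotientGroup.mk_surjective z
  have htZ : t ∉ Subgroup.center ↥M := by
    intro ht
    apply hz1
    apply Subtype.ext
    exact (QuotientGroup.eq_one_iff t).mpr ht
  have hw : ∀ m : ↥M, (t * m)⁻¹ * (m * t) ∈ Subgroup.center ↥M := by
    intro m
    have h1 := Subgroup.mem_center_iff.mp hz (QuotientGroup.mk m)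
    rw [← QuotientGroup.mk_mul, ← QuotientGroup.mk_mul] at h1
    exact QuotientGroup.eq.mp h1.symm
  have hw' : ∀ m ∈ M, ∀ u ∈ M, Commute (((t : G) * m)⁻¹ * (m * (t : G))) u := by
    intro m hm u hu
    have h1 := Subgroup.mem_center_iff.mp (hw ⟨m, hm⟩) ⟨u, hu⟩
    have h2 := congrArg Subtype.val h1
    simp only [Subgroup.coe_mul, Subgroup.coe_inv] at h2
    exact h2.symm
  have htG : (t : G) ∉ Subgroup.center G := by
    intro ht
    apply htZ
    rw [Subgroup.mem_center_iff]
    intro m
    apply Subtype.ext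
    exact Subgroup.mem_center_iff.mp ht (m : G)
  have hM' := h (t : G) htG
  haveI hM'nil : Group.IsNilpotent ↥(Subgroup.centralizer ({(t : G)} : Set G)) :=
    cent_nilpotent h _ htG
  have hxt : x ∈ Subgroup.centralizer ({(t : G)} : Set G) := by
    rw [Subgroup.mem_centralizer_singleton_iff]
    exact ((hmemM (t : G)).mp t.2).symm
  have hxM : x ∈ M := (hmemM x).mpr rfl
  have hmem' : ∀ a : G, a ∈ Subgroup.centralizer ({(t : G)} : Set G) ↔ a * (t : G) = (t : G) * a :=
    fun a => Subgroup.mem_centralizer_singleton_iff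
  generalize hM'def : Subgroup.centralizer ({(t : G)} : Set G) = M' at hM' hM'nil hxt hmem'
  have hconj : ∀ m ∈ M, ∀ u ∈ M ⊓ M', m * u * m⁻¹ ∈ M ⊓ M' := by
    intro m hm u hu
    obtain ⟨hu1, hu2⟩ := Subgroup.mem_inf.mp hu
    refine Subgroup.mem_inf.mpr ⟨mul_mem (mul_mem hm hu1) (inv_mem hm), ?_⟩
    rw [hmem']
    have hwc := hw' m hm u hu1
    have htc : Commute (t : G) u := ((hmem' u).mp hu2).symm
    have hkey : m⁻¹ * (t : G) * m = (t : G) * (((t : G) * m)⁻¹ * (m * (t : G)))⁻¹ := by group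
    have h3 : Commute (m⁻¹ * (t : G) * m) u := by
      rw [hkey]; exact htc.mul_left hwc.inv_left
    calc m * u * m⁻¹ * (t : G) = m * (u * (m⁻¹ * (t : G) * m)) * m⁻¹ := by group
      _ = m * ((m⁻¹ * (t : G) * m) * u) * m⁻¹ := by rw [h3.eq]
      _ = (t : G) * (m * u * m⁻¹) := by group
  have hMN : M ≤ Subgroup.normalizer ((M ⊓ M' : Subgroup G) : Set G) := by
    intro m hm
    rw [Subgroup.mem_normalizer_iff]
    intro u
    constructor
    · exact hconj m hm u
    · intro hu
      have h1 := hconj m⁻¹ (inv_mem hm) _ hu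
      have e1 : m⁻¹ * (m * u * m⁻¹) * m⁻¹⁻¹ = u := by group
      rwa [e1] at h1
  have hUM' : ¬ (M' ≤ M ⊓ M') := by
    intro hle
    have hle' : M' ≤ M := le_trans hle inf_le_left
    rcases hM'.le_iff.mp hle' with h1 | h1
    · exact hM.1 h1
    · apply htZ
      rw [Subgroup.mem_center_iff]
      intro m
      have hm : (m : G) ∈ M' := by rw [← h1]; exact m.2
      rw [hmem'] at hm
      exact Subtype.ext hm
  have hnc := Group.normalizerCondition_of_isNilpotent (G := ↥M')
  have hlt : (M ⊓ M').subgroupOf M' < ⊤ := by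
    rw [lt_top_iff_ne_top, Ne, Subgroup.subgroupOf_eq_top]
    exact hUM'
  obtain ⟨g', hg'N, hg'U⟩ := SetLike.exists_of_lt (hnc _ hlt)
  rw [← Subgroup.subgroupOf_normalizer_eq (inf_le_right : M ⊓ M' ≤ M'),
    Subgroup.mem_subgroupOf] at hg'N
  rw [Subgroup.mem_subgroupOf] at hg'U
  have hg'M : (g' : G) ∉ M := fun hgm => hg'U (Subgroup.mem_inf.mpr ⟨hgm, g'.2⟩)
  have hNtop : Subgroup.normalizer ((M ⊓ M' : Subgroup G) : Set G) = ⊤ :=
    hM.2 _ (lt_of_le_of_ne hMN (fun heq => hg'M (by rw [heq]; exact hg'N)))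
  haveI hUn : (M ⊓ M').Normal := Subgroup.normalizer_eq_top_iff.mp hNtop
  have hxU : x ∈ M ⊓ M' := Subgroup.mem_inf.mpr ⟨hxM, hxt⟩
  obtain ⟨g, hg⟩ : ∃ g : G, g * x ≠ x * g := by
    by_contra hcon
    push Not at hcon
    exact hx (Subgroup.mem_center_iff.mpr hcon)
  have hgZ : g ∉ Subgroup.center G := fun hgz => hg ((Subgroup.mem_center_iff.mp hgz x).symm)
  have hC := h g hgZ
  haveI hCnil : Group.IsNilpotent ↥(Subgroup.centralizer ({g} : Set G)) := cent_nilpotent h g hgZ
  have hxC : x ∉ Subgroup.centralizer ({g} : Set G) := by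
    rw [Subgroup.mem_centralizer_singleton_iff]
    exact fun hh => hg hh.symm
  have hsup : (M ⊓ M') ⊔ Subgroup.centralizer ({g} : Set G) = ⊤ := by
    apply hC.2
    refine lt_of_le_of_ne le_sup_right ?_
    intro heq
    apply hxC
    rw [heq]
    exact Subgroup.mem_sup_left hxU
  haveI : Group.IsSolvable ↥M := IsNilpotent.to_isSolvable
  haveI : Group.IsSolvable ↥(M ⊓ M' : Subgroup G) :=
    Group.isSolvable_of_isSolvable_injective
      (Subgroup.inclusion_injective (inf_le_left : M ⊓ M' ≤ M))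
  haveI : Group.IsSolvable ↥(Subgroup.centralizer ({g} : Set G)) := IsNilpotent.to_isSolvable
  have hsurj : Function.Surjective ((QuotientGroup.mk' (M ⊓ M')).comp
      (Subgroup.centralizer ({g} : Set G)).subtype) := by
    intro q
    obtain ⟨a, rfl⟩ := QuotientGroup.mk'_surjective _ q
    have ha : a ∈ (M ⊓ M') ⊔ Subgroup.centralizer ({g} : Set G) := by rw [hsup]; trivial
    obtain ⟨u, hu, c, hc, rfl⟩ := Cfsg.Agent.Helper6.MaxCent.mem_sup_norm (M ⊓ M') _
      (by rw [Subgroup.normalizer_eq_top]; exact le_top) a ha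
    refine ⟨⟨c, hc⟩, ?_⟩
    show (QuotientGroup.mk c : G ⧸ (M ⊓ M')) = QuotientGroup.mk (u * c)
    rw [QuotientGroup.mk_mul, (QuotientGroup.eq_one_iff u).mpr hu, one_mul]
  haveI : Group.IsSolvable (G ⧸ (M ⊓ M')) := Group.isSolvable_of_surjective hsurj
  exact Group.isSolvable_of_ker_le_range (M ⊓ M').subtype (QuotientGroup.mk' (M ⊓ M'))
    (by rw [QuotientGroup.ker_mk', Subgroup.range_subtype])

end Cfsg.Agent.S4262
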