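import Cfsg.Statements.S0184
import Mathlib
import Cfsg.Agent.Lead.CharCenter
import Cfsg.Agent.Lead.CharCore4
import Cfsg.Agent.Lead.CharOdd
import Cfsg.Agent.Lead.Fpf2
import Cfsg.Agent.S0583

set_option autoImplicit false
open Cfsg

namespace Cfsg.Agent.S0184

open scoped ComplexConjugate

theorem exists_irr_ne {G : Type*} [Group G] [Finite G] (z : G) (hz : z ≠ 1) :
    ∃ χ : G → ℂ, Cfsg.IsIrrCharacter G χ ∧ χ z ≠ χ 1 := by
  by_contra hcon
  push Not at hcon
  have h1 := Cfsg.Agent.Lead.column_orth_of_not_isConj (g := z) (h := 1) (by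
    intro h
    apply hz
    rw [isConj_iff] at h
    obtain ⟨c, hc⟩ := h
    have : z = c⁻¹ * (c * z * c⁻¹) * c := by group
    rw [this, hc]; group)
  have h2 := Cfsg.Agent.Lead.column_orth_of_isConj (g := (1 : G)) (h := 1) (IsConj.refl 1)
  have h3 : ∑ᶠ χ : Cfsg.IrrCharacter G, (χ : G → ℂ) z * conj ((χ : G → ℂ) 1) =
      ∑ᶠ χ : Cfsg.IrrCharacter G, (χ : G → ℂ) 1 * conj ((χ : G → ℂ) 1) := by
    apply finsum_congr
    intro χ
    rw [hcon χ.1 χ.2]
  rw [h1, h2] at h3
  have : (Nat.card (Subgroup.centralizer ({(1 : G)} : Set G)) : ℂ) ≠ 0 := by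
    exact_mod_cast Nat.card_pos.ne'
  exact this h3.symm

/-- A finite p-group admits a faithful irreducible complex representation if and only if its centre is cyclic. -/
theorem result {G : Type*} [Group G] [Finite G] (p : ℕ) [Fact p.Prime] (hG : IsPGroup p G) : (∃ (n : ℕ) (ρ : Representation ℂ G (Fin n → ℂ)), ρ.IsIrreducible ∧ Function.Injective ρ) ↔ IsCyclic (Subgroup.center G) := by
  have hpp : p.Prime := Fact.out
  constructor
  · rintro ⟨n, ρ, hirr, hinj⟩
    rcases Nat.eq_zero_or_pos n with rfl | hn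
    · have hsub : Subsingleton G := ⟨fun a b => hinj (LinearMap.ext fun v => funext fun i => i.elim0)⟩
      infer_instance
    · obtain ⟨i₀, hi₀⟩ : ∃ i₀ : Fin n, i₀ = ⟨0, hn⟩ := ⟨_, rfl⟩
      obtain ⟨e, he⟩ : ∃ e : Fin n → ℂ, e = Pi.single i₀ 1 := ⟨_, rfl⟩
      have hei : e i₀ = 1 := by rw [he, Pi.single_eq_same]
      have hsc : ∀ z ∈ Subgroup.center G, ρ z = (ρ z e i₀) • LinearMap.id := by
        intro z hz
        obtain ⟨c, hc⟩ := Cfsg.Agent.Lead.rep_center_scalar ρ hirr hz
        have : ρ z e i₀ = c := by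
          rw [hc]
          simp [hei]
        rw [this]; exact hc
      let f : Subgroup.center G →* ℂ :=
        { toFun := fun z => ρ (z : G) e i₀
          map_one' := by
            show ρ ((1 : Subgroup.center G) : G) e i₀ = 1
            rw [Subgroup.coe_one, map_one]
            exact hei
          map_mul' := by
            intro a b
            show ρ ((a * b : Subgroup.center G) : G) e i₀ = ρ (a : G) e i₀ * ρ (b : G) e i₀
            rw [Subgroup.coe_mul, map_mul, hsc a a.2, hsc b b.2]
            simp [hei]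
            exact mul_comm _ _ }
      have hfinj : Function.Injective f := by
        intro a b hab
        have hab' : ρ (a : G) e i₀ = ρ (b : G) e i₀ := hab
        apply Subtype.ext
        apply hinj
        rw [hsc a a.2, hsc b b.2, hab']
      exact isCyclic_of_subgroup_isDomain f hfinj
  · intro hcyc
    haveI := hcyc
    by_cases htriv : Subsingleton G
    · obtain ⟨n, ρ, hirr, -⟩ := Cfsg.Agent.Lead.isIrrCharacter_one (G := G)
      exact ⟨n, ρ, hirr, fun a b _ => Subsingleton.elim a b⟩
    · rw [not_subsingleton_iff_nontrivial] at htriv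
      haveI := htriv
      have hZnt : Nontrivial (Subgroup.center G) := hG.center_nontrivial
      have hZp : IsPGroup p (Subgroup.center G) := hG.to_subgroup _
      obtain ⟨k, hk⟩ := IsPGroup.iff_card.mp hZp
      have hk0 : k ≠ 0 := by
        intro h
        rw [h, pow_zero] at hk
        have := Finite.one_lt_card (α := Subgroup.center G)
        omega
      obtain ⟨z', hz'⟩ := exists_prime_orderOf_dvd_card' (G := Subgroup.center G) p
        (by rw [hk]; exact dvd_pow_self p hk0)
      obtain ⟨z, hzdef⟩ : ∃ z : G, z = (z' : G) := ⟨_, rfl⟩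
      have hz1 : z ≠ 1 := by
        rw [hzdef]; intro h
        have : z' = 1 := Subtype.ext h
        rw [this, orderOf_one] at hz'
        exact hpp.one_lt.ne hz'
      obtain ⟨χ, hχ, hne⟩ := exists_irr_ne z hz1
      obtain ⟨n, ρ, hirr, hρ⟩ := hχ
      refine ⟨n, ρ, hirr, ?_⟩
      rw [← MonoidHom.ker_eq_bot_iff]
      by_contra hker
      have hnil : Group.IsNilpotent G := hG.isNilpotent
      have hmeet : ρ.ker ⊓ Subgroup.center G ≠ ⊥ :=
        fun h => hker (Cfsg.Agent.S0583.eq_bot_of_inf_center_eq_bot _ h)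
      obtain ⟨N₀, hN₀⟩ : ∃ N₀ : Subgroup G, N₀ = ρ.ker ⊓ Subgroup.center G := ⟨_, rfl⟩
      rw [← hN₀] at hmeet
      have hN₀p : IsPGroup p N₀ := hG.to_subgroup _
      obtain ⟨j, hj⟩ := IsPGroup.iff_card.mp hN₀p
      have hj0 : j ≠ 0 := by
        intro h; rw [h, pow_zero] at hj
        exact hmeet (Subgroup.eq_bot_of_card_eq N₀ hj)
      obtain ⟨y', hy'⟩ := exists_prime_orderOf_dvd_card' (G := N₀) p
        (by rw [hj]; exact dvd_pow_self p hj0)
      have hy'mem : (y' : G) ∈ ρ.ker ⊓ Subgroup.center G := hN₀ ▸ y'.2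
      obtain ⟨hyker, hycen⟩ := Subgroup.mem_inf.mp hy'mem
      have hyord : orderOf (y' : G) = p := by rw [Subgroup.orderOf_coe]; exact hy'
      have key := Cfsg.Agent.Lead.cyclic_mem_zpowers_of_pow_eq_one (p := p) (Subgroup.center G)
        ⟨(y' : G), hycen⟩ z'
        (Subtype.ext (by
          show (y' : G) ^ p = 1
          rw [← hyord]; exact pow_orderOf_eq_one _))
        (by rw [← hz']; exact pow_orderOf_eq_one _)
        (fun h => by
          have h1 : (y' : G) = 1 := congrArg Subtype.val h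
          rw [h1, orderOf_one] at hyord
          exact hpp.one_lt.ne hyord)
      obtain ⟨i, hi⟩ := Subgroup.mem_zpowers_iff.mp key
      have hzker : z ∈ ρ.ker := by
        have h1 : z = (y' : G) ^ i := by
          rw [hzdef, ← hi]; rfl
        rw [h1]
        exact Subgroup.zpow_mem _ hyker i
      apply hne
      rw [← hρ]
      have h2 : ρ z = ρ 1 := by rw [MonoidHom.mem_ker.mp hzker, map_one]
      show LinearMap.trace ℂ _ (ρ z) = LinearMap.trace ℂ _ (ρ 1)
      rw [h2]


end Cfsg.Agent.S0184
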