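import Cfsg.Statements.S0095
import Mathlib
import Cfsg.Agent.Lead.CharCenter
import Cfsg.Agent.Lead.CharCore5
import Cfsg.Agent.Lead.CharCore4
import Cfsg.Agent.Lead.UniqSub
import Cfsg.Agent.S0184

set_option autoImplicit false
open Cfsg

namespace Cfsg.Agent.S0095

open scoped ComplexConjugate
open Cfsg.Agent.Lead

/-- The order of an extraspecial p-group is an odd power p^(2n+1) of p with n ≥ 1. -/
theorem result {P : Type*} [Group P] [Finite P] {p : ℕ} [Fact p.Prime] (h : Cfsg.IsExtraspecial p P) : ∃ n : ℕ, 1 ≤ n ∧ Nat.card P = p ^ (2 * n + 1) := by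
  classical
  have hpp : p.Prime := Fact.out
  obtain ⟨⟨hP, -, hcomm⟩, hZ⟩ := h
  haveI : Fintype P := Fintype.ofFinite P
  obtain ⟨z', hz'⟩ := exists_prime_orderOf_dvd_card' (G := Subgroup.center P) p (by rw [hZ])
  obtain ⟨z, hzdef⟩ : ∃ z : P, z = (z' : P) := ⟨_, rfl⟩
  have hzc : z ∈ Subgroup.center P := hzdef ▸ z'.2
  have hz1 : z ≠ 1 := by
    rw [hzdef]; intro h
    have : z' = 1 := Subtype.ext h
    rw [this, orderOf_one] at hz'
    exact hpp.one_lt.ne hz'
  obtain ⟨χ, hχ, hne⟩ := Cfsg.Agent.S0184.exists_irr_ne z hz1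
  have hχ' := hχ
  obtain ⟨n, ρ, hirr, hρ⟩ := hχ
  have hnt : Nontrivial (Fin n → ℂ) := ((isIrreducible_iff ρ).mp hirr).1
  have hχapp : ∀ g, χ g = LinearMap.trace ℂ (Fin n → ℂ) (ρ g) := fun g => by rw [← hρ]; rfl
  have hA : ∀ c ∈ Subgroup.center P, c ≠ 1 → ∀ ω : ℂ, ρ c = ω • LinearMap.id → ω ≠ 1 := by
    intro c hc hc1 ω hω hω1
    rw [hω1, one_smul] at hω
    have hmem : (⟨z, hzc⟩ : Subgroup.center P) ∈
        Subgroup.zpowers (⟨c, hc⟩ : Subgroup.center P) :=
      mem_zpowers_of_prime_card hZ (fun h => hc1 (congrArg Subtype.val h))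
    obtain ⟨k, hk⟩ := exists_pow_of_mem_zpowers hmem
    have hzk : z = c ^ k := (congrArg Subtype.val hk).symm
    apply hne
    rw [hχapp, hχapp, hzk, map_pow, hω, map_one]
    show LinearMap.trace ℂ _ ((1 : Module.End ℂ (Fin n → ℂ)) ^ k) =
      LinearMap.trace ℂ _ (1 : Module.End ℂ (Fin n → ℂ))
    rw [one_pow]
  have hcf : Cfsg.IsClassFunction P χ :=
    isCharacter_isClassFunction (isCharacter_of_isIrrCharacter hχ')
  have hB : ∀ g : P, g ∉ Subgroup.center P → χ g = 0 := by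
    intro g hg
    rw [Subgroup.mem_center_iff] at hg
    push Not at hg
    obtain ⟨y, hy⟩ := hg
    obtain ⟨c, hcdef⟩ : ∃ c : P, c = y * g * y⁻¹ * g⁻¹ := ⟨_, rfl⟩
    have hcc : c ∈ Subgroup.center P := by
      rw [← hcomm, commutator_def, hcdef]
      exact Subgroup.commutator_mem_commutator (Subgroup.mem_top y) (Subgroup.mem_top g)
    have hc1 : c ≠ 1 := by
      intro h
      apply hy
      rw [hcdef] at h
      have : y * g = (y * g * y⁻¹ * g⁻¹) * (g * y) := by group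
      rw [this, h, one_mul]
    obtain ⟨ω, hω⟩ := rep_center_scalar ρ hirr hcc
    have hω1 := hA c hcc hc1 ω hω
    have h1 : χ (y * g * y⁻¹) = χ g := hcf g y
    have h2 : y * g * y⁻¹ = c * g := by rw [hcdef]; group
    rw [h2, hχapp, hχapp, map_mul, hω, smul_mul_assoc, map_smul, smul_eq_mul] at h1
    have h3 : (LinearMap.id : Module.End ℂ (Fin n → ℂ)) * ρ g = ρ g := one_mul (ρ g)
    rw [h3] at h1
    rw [hχapp]
    have h4 : (ω - 1) * LinearMap.trace ℂ (Fin n → ℂ) (ρ g) = 0 := by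
      rw [sub_mul, h1, one_mul, sub_self]
    rcases mul_eq_zero.mp h4 with h | h
    · exact absurd (sub_eq_zero.mp h) hω1
    · exact h
  obtain ⟨d, hdpos, hd⟩ := isIrrCharacter_one_eq_nat hχ'
  have hC : ∀ c ∈ Subgroup.center P, χ c * conj (χ c) = (d : ℂ) ^ 2 := by
    intro c hc
    obtain ⟨ω, hω⟩ := rep_center_scalar ρ hirr hc
    have hnorm := rep_scalar_norm ρ c ω hω
    have h1 : χ c = ω * χ 1 := by
      rw [hχapp, hχapp, hω, map_smul, smul_eq_mul, map_one]
      rfl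
    rw [h1, hd, map_mul, Complex.conj_natCast]
    calc ω * (d : ℂ) * (conj ω * (d : ℂ)) = (ω * conj ω) * (d : ℂ) ^ 2 := by ring
      _ = (d : ℂ) ^ 2 := by rw [hnorm, one_mul]
  have hinner := classInner_self_of_isIrrCharacter hχ'
  unfold Cfsg.classInner at hinner
  have hPne : (Nat.card P : ℂ) ≠ 0 := by exact_mod_cast Nat.card_pos.ne'
  have hsum : ∑ g : P, χ g * conj (χ g) = (Nat.card P : ℂ) := by
    calc ∑ g : P, χ g * conj (χ g)
        = (Nat.card P : ℂ) * ((Nat.card P : ℂ)⁻¹ * ∑ g : P, χ g * conj (χ g)) := by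
          rw [← mul_assoc, mul_inv_cancel₀ hPne, one_mul]
      _ = (Nat.card P : ℂ) := by rw [hinner, mul_one]
  have hsum2 : ∑ g : P, χ g * conj (χ g) = (p : ℂ) * (d : ℂ) ^ 2 := by
    rw [← Finset.sum_filter_of_ne (p := fun g => g ∈ Subgroup.center P)]
    · rw [Finset.sum_congr rfl (fun g hg => hC g (Finset.mem_filter.mp hg).2), Finset.sum_const,
        nsmul_eq_mul]
      congr 1
      rw [← hZ, Nat.card_eq_fintype_card, Fintype.card_subtype]
    · intro g _ hne'
      by_contra hg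
      exact hne' (by rw [hB g hg, zero_mul])
  have hcard : Nat.card P = p * d ^ 2 := by
    have : (Nat.card P : ℂ) = ((p * d ^ 2 : ℕ) : ℂ) := by
      rw [← hsum, hsum2]; push_cast; ring
    exact_mod_cast this
  obtain ⟨N, hN⟩ := IsPGroup.iff_card.mp hP
  rw [hN] at hcard
  have hN1 : 1 ≤ N := by
    by_contra h
    have h0 : N = 0 := by omega
    rw [h0, pow_zero] at hcard
    exact hpp.one_lt.ne' (Nat.dvd_one.mp (Dvd.intro _ hcard.symm))
  have hd2 : d ^ 2 = p ^ (N - 1) := by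
    have e : p ^ N = p * p ^ (N - 1) := by rw [← pow_succ']; congr 1; omega
    rw [e] at hcard
    exact (Nat.eq_of_mul_eq_mul_left hpp.pos hcard).symm
  obtain ⟨j, -, hj⟩ := (Nat.dvd_prime_pow hpp).mp
    (Dvd.intro d (by rw [← pow_two]; exact hd2) : d ∣ p ^ (N - 1))
  rw [hj, ← pow_mul] at hd2
  have hexp : j * 2 = N - 1 := Nat.pow_right_injective hpp.two_le hd2
  refine ⟨j, ?_, ?_⟩
  · by_contra h
    have hj0 : j = 0 := by omega
    have hN1' : N = 1 := by omega
    rw [hN1', pow_one] at hN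
    have htop : Subgroup.center P = ⊤ := (Subgroup.card_eq_iff_eq_top _).mp (by rw [hZ, hN])
    have hbot : commutator P = ⊥ := (commutator_eq_bot_iff_center_eq_top P).mpr htop
    rw [hcomm, htop] at hbot
    have : Nat.card P = 1 := by
      rw [← Subgroup.card_top (G := P), hbot, Subgroup.card_bot]
    rw [hN] at this
    exact hpp.one_lt.ne' this
  · rw [hN]; congr 1; omega


end Cfsg.Agent.S0095
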