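import Cfsg.Statements.S0127
import Mathlib
import Cfsg.Agent.Lead.UniqSub
import Cfsg.Agent.Lead.Fpf2

set_option autoImplicit false
open Cfsg

namespace Cfsg.Agent.S0127

open Cfsg.Agent.Lead

theorem conj_pow_iter {G : Type*} [Group G] (a g : G) (r : ℕ) (h : g * a * g⁻¹ = a ^ r) :
    ∀ j : ℕ, g ^ j * a * (g ^ j)⁻¹ = a ^ (r ^ j) := by
  intro j
  induction j with
  | zero => simp
  | succ j ih =>
    have e : ∀ y : G, g * y * a * (g * y)⁻¹ = g * (y * a * y⁻¹) * g⁻¹ := fun y => by group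
    calc g ^ (j + 1) * a * (g ^ (j + 1))⁻¹ = g * (g ^ j * a * (g ^ j)⁻¹) * g⁻¹ := by
          rw [pow_succ', e]
      _ = g * a ^ (r ^ j) * g⁻¹ := by rw [ih]
      _ = (g * a * g⁻¹) ^ (r ^ j) := by rw [conj_pow]
      _ = a ^ (r ^ (j + 1)) := by rw [h, ← pow_mul, ← pow_succ']

theorem modEq_one_of_pow (p r : ℕ) [Fact p.Prime] (h : r ^ p ≡ 1 [MOD p]) : r ≡ 1 [MOD p] := by
  rw [← ZMod.natCast_eq_natCast_iff] at h ⊢
  push_cast at h ⊢
  rw [ZMod.pow_card] at h
  exact h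

theorem nt_lemma (p m r : ℕ) [Fact p.Prime] (hp : p ≠ 2) (h : r ^ p ≡ 1 [MOD p ^ m]) :
    r * p ≡ p [MOD p ^ m] := by
  have hpp : p.Prime := Fact.out
  rcases Nat.eq_zero_or_pos m with rfl | hm
  · rw [pow_zero]; exact Nat.modEq_one
  have h1 : r ≡ 1 [MOD p] := by
    apply modEq_one_of_pow
    exact Nat.ModEq.of_dvd (dvd_pow_self p hm.ne') h
  have hr0 : r ≠ 0 := by
    rintro rfl
    have h2 : p ∣ 1 - 0 := (Nat.modEq_iff_dvd' (Nat.zero_le 1)).mp h1
    exact hpp.one_lt.ne' (Nat.dvd_one.mp h2)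
  rcases Nat.lt_or_ge r 2 with hr | hr
  · have : r = 1 := by omega
    rw [this, one_mul]
  · have hlt : 1 < r := hr
    have hdvd : p ∣ r - 1 := (Nat.modEq_iff_dvd' hlt.le).mp h1.symm
    have hndvd : ¬ p ∣ r := by
      intro hpr
      have h2 : p ∣ r - (r - 1) := Nat.dvd_sub hpr hdvd
      have e : r - (r - 1) = 1 := by omega
      rw [e] at h2
      exact hpp.one_lt.ne' (Nat.dvd_one.mp h2)
    have hodd : Odd p := hpp.odd_of_ne_two hp
    have hlte := padicValNat.pow_sub_pow hodd hlt hdvd hndvd hpp.ne_zero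
    rw [one_pow, padicValNat_self] at hlte
    have hpow1 : 1 ≤ r ^ p := Nat.one_le_pow _ _ (by omega)
    have hd2 : p ^ m ∣ r ^ p - 1 := (Nat.modEq_iff_dvd' hpow1).mp h.symm
    have hne : r ^ p - 1 ≠ 0 := by
      have : 1 < r ^ p := Nat.one_lt_pow hpp.ne_zero hlt
      omega
    have hle := (padicValNat_dvd_iff_le hne).mp hd2
    rw [hlte] at hle
    have hd3 : p ^ (m - 1) ∣ r - 1 := by
      have hne' : r - 1 ≠ 0 := by omega
      exact (padicValNat_dvd_iff_le hne').mpr (by omega)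
    have hle' : p ≤ r * p := Nat.le_mul_of_pos_left p (by omega)
    apply Nat.ModEq.symm
    rw [Nat.modEq_iff_dvd' hle']
    have e1 : r * p - p = (r - 1) * p := by rw [Nat.sub_mul, one_mul]
    have e2 : p ^ m = p ^ (m - 1) * p := by rw [← pow_succ]; congr 1; omega
    rw [e1, e2]
    exact Nat.mul_dvd_mul_right hd3 p

theorem comm_of_order_p {G : Type*} [Group G] [Finite G] (p : ℕ) [Fact p.Prime] (y g : G)
    (hy : y ^ p = 1) (hnorm : g * y * g⁻¹ ∈ Subgroup.zpowers y)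
    (hgp : g ^ p * y = y * g ^ p) : g * y = y * g := by
  have hpp : p.Prime := Fact.out
  by_cases hy1 : y = 1
  · rw [hy1]; simp
  have hord : orderOf y = p := orderOf_eq_prime hy hy1
  obtain ⟨r, hr⟩ := exists_pow_of_mem_zpowers hnorm
  have h1 := conj_pow_iter y g r hr.symm p
  have h2 : g ^ p * y * (g ^ p)⁻¹ = y := by rw [hgp, mul_inv_cancel_right]
  rw [h2] at h1
  have h3 : y ^ (r ^ p) = y ^ 1 := by rw [pow_one]; exact h1.symm
  rw [pow_eq_pow_iff_modEq, hord] at h3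
  have h4 := modEq_one_of_pow p r h3
  have h5 : y ^ r = y ^ 1 := by rw [pow_eq_pow_iff_modEq, hord]; exact h4
  rw [pow_one] at h5
  rw [h5] at hr
  calc g * y = g * y * g⁻¹ * g := by group
    _ = y * g := by rw [← hr]

theorem comm_pow_p {G : Type*} [Group G] [Finite G] (p : ℕ) [Fact p.Prime] (hp : p ≠ 2)
    (a g : G) (m : ℕ) (ha : orderOf a = p ^ m) (hnorm : g * a * g⁻¹ ∈ Subgroup.zpowers a)
    (hgp : g ^ p * a = a * g ^ p) : g * a ^ p = a ^ p * g := by
  obtain ⟨r, hr⟩ := exists_pow_of_mem_zpowers hnorm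
  have h1 := conj_pow_iter a g r hr.symm p
  have h2 : g ^ p * a * (g ^ p)⁻¹ = a := by rw [hgp, mul_inv_cancel_right]
  rw [h2] at h1
  have h3 : a ^ (r ^ p) = a ^ 1 := by rw [pow_one]; exact h1.symm
  rw [pow_eq_pow_iff_modEq, ha] at h3
  have h4 := nt_lemma p m r hp h3
  have h5 : a ^ (r * p) = a ^ p := by rw [pow_eq_pow_iff_modEq, ha]; exact h4
  have h6 : g * a ^ p * g⁻¹ = a ^ p := by
    rw [← conj_pow, ← hr, ← pow_mul]; exact h5
  calc g * a ^ p = g * a ^ p * g⁻¹ * g := by group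
    _ = a ^ p * g := by rw [h6]

theorem pow_mod_of_pow_eq_one {G : Type*} [Group G] (x : G) (p : ℕ) (hx : x ^ p = 1) (i : ℕ) :
    x ^ (i % p) = x ^ i := by
  conv_rhs => rw [← Nat.mod_add_div i p]
  rw [pow_add, pow_mul, hx, one_pow, mul_one]

/-- the structure theorem behind S0127, with the explicit subgroup -/
theorem omega_struct {R : Type*} [Group R] [Finite R] {p : ℕ} [Fact p.Prime] (hp : p ≠ 2)
    (hR : IsPGroup p R) (hnc : ¬ IsCyclic R) (C : Subgroup R) (hC : IsCyclic C)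
    (hCi : C.index = p) :
    ∃ E : Subgroup R, (∀ x : R, x ^ p = 1 → x ∈ E) ∧ (∀ x ∈ E, x ^ p = 1) ∧
      (∀ x ∈ E, ∀ y ∈ E, x * y = y * x) ∧ Nat.card E = p ^ 2 := by
  classical
  have hpp : p.Prime := Fact.out
  obtain ⟨n, hn⟩ := IsPGroup.iff_card.mp hR
  have hcardC : Nat.card C * p = p ^ n := by
    rw [← hn, ← hCi]; exact Subgroup.card_mul_index C
  have hn0 : n ≠ 0 := by
    intro h
    rw [h, pow_zero] at hcardC
    exact hpp.one_lt.ne' (Nat.dvd_one.mp (Dvd.intro_left _ hcardC))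
  haveI hCn : C.Normal := Subgroup.normal_of_index_eq_minFac_card
    (by rw [hCi, hn, Nat.pow_minFac hn0, hpp.minFac_eq])
  obtain ⟨m, hm⟩ := IsPGroup.iff_card.mp (hR.to_subgroup C)
  have hm1 : 1 ≤ m := by
    by_contra h
    have h0 : m = 0 := by omega
    rw [hm, h0, pow_zero, one_mul] at hcardC
    exact hnc (isCyclic_of_prime_card (p := p) (by rw [hn, ← hcardC]))
  obtain ⟨a', ha'⟩ := hC.exists_generator
  obtain ⟨a, hadef⟩ : ∃ a : R, a = (a' : R) := ⟨_, rfl⟩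
  have haC : a ∈ C := hadef ▸ a'.2
  have hCa : ∀ x ∈ C, x ∈ Subgroup.zpowers a := by
    intro x hx
    obtain ⟨k, hk⟩ := Subgroup.mem_zpowers_iff.mp (ha' ⟨x, hx⟩)
    rw [Subgroup.mem_zpowers_iff]
    exact ⟨k, by rw [hadef]; exact congrArg Subtype.val hk⟩
  have horda : orderOf a = p ^ m := by
    rw [hadef, Subgroup.orderOf_coe, orderOf_eq_card_of_forall_mem_zpowers ha', hm]
  have hcommC : ∀ x ∈ C, ∀ y ∈ C, x * y = y * x := by
    intro x hx y hy
    obtain ⟨i, rfl⟩ := Subgroup.mem_zpowers_iff.mp (hCa x hx)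
    obtain ⟨j, rfl⟩ := Subgroup.mem_zpowers_iff.mp (hCa y hy)
    rw [← zpow_add, ← zpow_add, add_comm]
  have hconjC : ∀ (g x : R), x ∈ C → g * x * g⁻¹ ∈ C := fun g x hx => hCn.conj_mem x hx g
  have hpowC : ∀ g : R, g ^ p ∈ C := by
    intro g
    have := Subgroup.pow_index_mem C g
    rw [hCi] at this; exact this
  have h4 : ∀ g : R, g * a ^ p = a ^ p * g := fun g =>
    comm_pow_p p hp a g m horda (hCa _ (hconjC g a haC)) (hcommC _ (hpowC g) _ haC)
  have h6 : ∀ y ∈ C, y ^ p = 1 → ∀ g : R, g * y = y * g := by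
    intro y hyC hyp g
    apply comm_of_order_p p y g hyp ?_ (hcommC _ (hpowC g) _ hyC)
    by_cases hy1 : y = 1
    · rw [hy1]; simp
    have key := cyclic_mem_zpowers_of_pow_eq_one (p := p) C ⟨y, hyC⟩
      ⟨g * y * g⁻¹, hconjC g y hyC⟩ (Subtype.ext hyp)
      (Subtype.ext (by
        show (g * y * g⁻¹) ^ p = 1
        rw [conj_pow, hyp]; group))
      (fun h => hy1 (congrArg Subtype.val h))
    obtain ⟨i, hi⟩ := Subgroup.mem_zpowers_iff.mp key
    rw [Subgroup.mem_zpowers_iff]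
    exact ⟨i, congrArg Subtype.val hi⟩
  have h7 : ∀ u ∈ C, ∀ g : R, (u * g) ^ p = u ^ p * g ^ p := by
    intro u hu g
    obtain ⟨d, hd⟩ : ∃ d : R, d = g * u * g⁻¹ * u⁻¹ := ⟨_, rfl⟩
    have hdC : d ∈ C := hd ▸ C.mul_mem (hconjC g u hu) (C.inv_mem hu)
    have hup : g * u ^ p = u ^ p * g := by
      obtain ⟨k, hk⟩ := exists_pow_of_mem_zpowers (hCa u hu)
      rw [← hk, ← pow_mul, mul_comm k p, pow_mul]
      exact ((show Commute g (a ^ p) from h4 g).pow_right k).eq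
    have hdp : d ^ p = 1 := by
      rw [hd]
      have hc : Commute (g * u * g⁻¹) u⁻¹ := hcommC _ (hconjC g u hu) _ (C.inv_mem hu)
      rw [hc.mul_pow, conj_pow, inv_pow, hup]; group
    have hdcen : d ∈ Subgroup.center R := by
      rw [Subgroup.mem_center_iff]
      intro x
      exact h6 d hdC hdp x
    have hgx : g * u = d * u * g := by rw [hd]; group
    have hpow := pow_mul_central hdcen hgx p
    rw [hpow]
    have hch : p ∣ p.choose 2 := hpp.dvd_choose_self (by norm_num) (by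
      have := hpp.two_le; omega)
    obtain ⟨c, hc⟩ := hch
    rw [hc, pow_mul, hdp, one_pow, mul_one]
  have hCtop : C ≠ ⊤ := by
    intro h
    rw [h, Subgroup.index_top] at hCi
    exact hpp.one_lt.ne hCi
  have htop : ∀ g : R, g ∉ C → C ⊔ Subgroup.zpowers g = ⊤ := by
    intro g hg
    obtain ⟨K, hK⟩ : ∃ K : Subgroup R, K = C ⊔ Subgroup.zpowers g := ⟨_, rfl⟩
    rw [← hK]
    have hCK : C ≤ K := hK ▸ le_sup_left
    have hgK : g ∈ K := hK ▸ (le_sup_right : Subgroup.zpowers g ≤ _) (Subgroup.mem_zpowers g)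
    obtain ⟨t, ht⟩ := Subgroup.card_dvd_of_le hCK
    have hKR : Nat.card K ∣ Nat.card C * p := by
      rw [hcardC, ← hn]; exact Subgroup.card_subgroup_dvd_card K
    rw [ht] at hKR
    have htp : t ∣ p := Nat.dvd_of_mul_dvd_mul_left Nat.card_pos hKR
    rcases (Nat.dvd_prime hpp).mp htp with h1 | h1
    · exfalso
      rw [h1, mul_one] at ht
      have := Subgroup.eq_of_le_of_card_ge hCK ht.le
      exact hg (this ▸ hgK)
    · rw [h1, hcardC, ← hn] at ht
      exact (Subgroup.card_eq_iff_eq_top K).mp ht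
  obtain ⟨g₀, -, hg₀⟩ := SetLike.exists_of_lt (lt_top_iff_ne_top.mpr hCtop)
  obtain ⟨k, hk⟩ := exists_pow_of_mem_zpowers (hCa _ (hpowC g₀))
  have hpk : p ∣ k := by
    by_contra hpk
    apply hnc
    have hcop : (orderOf a).Coprime k := by
      rw [horda]; exact Nat.Coprime.pow_left _ ((Nat.Prime.coprime_iff_not_dvd hpp).mpr hpk)
    have hord : orderOf (a ^ k) = orderOf a := hcop.orderOf_pow
    have hle : Subgroup.zpowers (a ^ k) ≤ Subgroup.zpowers a :=
      Subgroup.zpowers_le.mpr (Subgroup.pow_mem _ (Subgroup.mem_zpowers a) k)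
    have heq : Subgroup.zpowers (a ^ k) = Subgroup.zpowers a :=
      Subgroup.eq_of_le_of_card_ge hle (by rw [Nat.card_zpowers, Nat.card_zpowers, hord])
    have h1 : a ∈ Subgroup.zpowers (a ^ k) := heq ▸ Subgroup.mem_zpowers a
    rw [hk] at h1
    have h2 : a ∈ Subgroup.zpowers g₀ :=
      (Subgroup.zpowers_le.mpr (Subgroup.pow_mem _ (Subgroup.mem_zpowers g₀) p)) h1
    have h3 : C ≤ Subgroup.zpowers g₀ := fun x hx =>
      (Subgroup.zpowers_le.mpr h2) (hCa x hx)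
    have h4' := htop g₀ hg₀
    rw [sup_eq_right.mpr h3] at h4'
    exact isCyclic_iff_exists_zpowers_eq_top.mpr ⟨g₀, h4'⟩
  obtain ⟨k', rfl⟩ := hpk
  obtain ⟨u₀, hu₀def⟩ : ∃ u₀ : R, u₀ = (a ^ k')⁻¹ := ⟨_, rfl⟩
  have hu₀ : u₀ ∈ C := hu₀def ▸ C.inv_mem (C.pow_mem haC k')
  obtain ⟨g₁, hg₁def⟩ : ∃ g₁ : R, g₁ = u₀ * g₀ := ⟨_, rfl⟩
  have hg₁p : g₁ ^ p = 1 := by
    rw [hg₁def, h7 u₀ hu₀ g₀, ← hk, hu₀def, inv_pow, ← pow_mul, mul_comm k' p, inv_mul_cancel]
  have hg₁C : g₁ ∉ C := by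
    intro h
    apply hg₀
    have e : g₀ = u₀⁻¹ * g₁ := by rw [hg₁def]; group
    rw [e]; exact C.mul_mem (C.inv_mem hu₀) h
  obtain ⟨z, hzdef⟩ : ∃ z : R, z = a ^ (p ^ (m - 1)) := ⟨_, rfl⟩
  have hzC : z ∈ C := hzdef ▸ C.pow_mem haC _
  have hzp : z ^ p = 1 := by
    have e : p ^ (m - 1) * p = p ^ m := by rw [← pow_succ]; congr 1; omega
    rw [hzdef, ← pow_mul, e, ← horda]; exact pow_orderOf_eq_one a
  have hz1 : z ≠ 1 := by
    intro h
    rw [hzdef] at h
    have h1 := orderOf_dvd_of_pow_eq_one h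
    rw [horda] at h1
    have h2 := Nat.le_of_dvd (pow_pos hpp.pos _) h1
    have h3 : p ^ (m - 1) < p ^ m := Nat.pow_lt_pow_right hpp.one_lt (by omega)
    omega
  have hzcen : ∀ g : R, g * z = z * g := h6 z hzC hzp
  have hzpowcen : ∀ (i : ℕ) (g : R), Commute g (z ^ i) := fun i g =>
    (show Commute g z from hzcen g).pow_right i
  haveI hzn : (Subgroup.zpowers z).Normal := ⟨fun x hx g => by
    obtain ⟨i, rfl⟩ := Subgroup.mem_zpowers_iff.mp hx
    have : g * z ^ i = z ^ i * g := ((show Commute g z from hzcen g).zpow_right i).eq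
    rw [this, mul_inv_cancel_right]
    exact Subgroup.zpow_mem _ (Subgroup.mem_zpowers z) i⟩
  obtain ⟨E, hEdef⟩ : ∃ E : Subgroup R, E = Subgroup.zpowers z ⊔ Subgroup.zpowers g₁ := ⟨_, rfl⟩
  have hzE : Subgroup.zpowers z ≤ E := hEdef ▸ le_sup_left
  have hgE : Subgroup.zpowers g₁ ≤ E := hEdef ▸ le_sup_right
  have hE : ∀ x ∈ E, ∃ i j : ℕ, x = z ^ i * g₁ ^ j := by
    intro x hx
    rw [hEdef] at hx
    obtain ⟨y, hy, w, hw, rfl⟩ := Subgroup.mem_sup_of_normal_left.mp hx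
    obtain ⟨i, rfl⟩ := exists_pow_of_mem_zpowers hy
    obtain ⟨j, rfl⟩ := exists_pow_of_mem_zpowers hw
    exact ⟨i, j, rfl⟩
  have hmemE : ∀ i j : ℕ, z ^ i * g₁ ^ j ∈ E := fun i j =>
    E.mul_mem (hzE (Subgroup.pow_mem _ (Subgroup.mem_zpowers z) i))
      (hgE (Subgroup.pow_mem _ (Subgroup.mem_zpowers g₁) j))
  have hEp : ∀ x ∈ E, x ^ p = 1 := by
    intro x hx
    obtain ⟨i, j, rfl⟩ := hE x hx
    have hc : Commute (z ^ i) (g₁ ^ j) := (hzpowcen i (g₁ ^ j)).symm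
    rw [hc.mul_pow, ← pow_mul, ← pow_mul, mul_comm i p, mul_comm j p, pow_mul, pow_mul, hzp,
      hg₁p, one_pow, one_pow, one_mul]
  have hEcomm : ∀ x ∈ E, ∀ y ∈ E, x * y = y * x := by
    intro x hx y hy
    obtain ⟨i, j, rfl⟩ := hE x hx
    obtain ⟨k, l, rfl⟩ := hE y hy
    have h1 : Commute (z ^ i) (z ^ k * g₁ ^ l) := (hzpowcen i _).symm
    have h2 : Commute (g₁ ^ j) (z ^ k * g₁ ^ l) :=
      Commute.mul_right (hzpowcen k _) ((Commute.refl g₁).pow_pow j l)
    exact (Commute.mul_left h1 h2).eq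
  have hKE : ∀ x : R, x ^ p = 1 → x ∈ E := by
    intro x hx
    have hxtop : x ∈ C ⊔ Subgroup.zpowers g₁ := by rw [htop g₁ hg₁C]; trivial
    obtain ⟨u, hu, w, hw, rfl⟩ := Subgroup.mem_sup_of_normal_left.mp hxtop
    obtain ⟨j, rfl⟩ := exists_pow_of_mem_zpowers hw
    rw [h7 u hu, ← pow_mul, mul_comm j p, pow_mul, hg₁p, one_pow, mul_one] at hx
    have key := cyclic_mem_zpowers_of_pow_eq_one (p := p) C ⟨z, hzC⟩ ⟨u, hu⟩
      (Subtype.ext hzp) (Subtype.ext hx) (fun h => hz1 (congrArg Subtype.val h))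
    obtain ⟨i, hi⟩ := Subgroup.mem_zpowers_iff.mp key
    have hu' : u = z ^ i := (congrArg Subtype.val hi).symm
    rw [hu']
    exact E.mul_mem (hzE (Subgroup.zpow_mem _ (Subgroup.mem_zpowers z) i))
      (hgE (Subgroup.pow_mem _ (Subgroup.mem_zpowers g₁) j))
  refine ⟨E, hKE, hEp, hEcomm, ?_⟩
  -- the order
  obtain ⟨e, he⟩ := IsPGroup.iff_card.mp (hR.to_subgroup E)
  have hupper : Nat.card E ≤ p ^ 2 := by
    have hsurj : Function.Surjective (fun ij : Fin p × Fin p =>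
        (⟨z ^ (ij.1 : ℕ) * g₁ ^ (ij.2 : ℕ), hmemE _ _⟩ : E)) := by
      intro x
      obtain ⟨i, j, hx⟩ := hE x x.2
      refine ⟨(⟨i % p, Nat.mod_lt _ hpp.pos⟩, ⟨j % p, Nat.mod_lt _ hpp.pos⟩), ?_⟩
      apply Subtype.ext
      show z ^ (i % p) * g₁ ^ (j % p) = (x : R)
      rw [pow_mod_of_pow_eq_one z p hzp, pow_mod_of_pow_eq_one g₁ p hg₁p, hx]
    have := Nat.card_le_card_of_surjective _ hsurj
    rw [Nat.card_prod, Nat.card_fin] at this
    rw [pow_two]; exact this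
  have hlower : 2 ≤ e := by
    by_contra h
    have hz_card : Nat.card (Subgroup.zpowers z) = p := by
      rw [Nat.card_zpowers, orderOf_eq_prime hzp hz1]
    have hle := Subgroup.card_le_of_le hzE
    rw [hz_card, he] at hle
    have he1 : e = 1 := by
      rcases Nat.lt_or_ge e 1 with h0 | h0
      · exfalso
        have : e = 0 := by omega
        rw [this, pow_zero] at hle
        have := hpp.one_lt
        omega
      · omega
    have heq : Subgroup.zpowers z = E := by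
      apply Subgroup.eq_of_le_of_card_ge hzE
      rw [hz_card, he, he1, pow_one]
    apply hg₁C
    have : g₁ ∈ Subgroup.zpowers z := heq ▸ hgE (Subgroup.mem_zpowers g₁)
    exact (Subgroup.zpowers_le.mpr hzC) this
  rw [he] at hupper ⊢
  have : e ≤ 2 := (Nat.pow_le_pow_iff_right hpp.one_lt).mp hupper
  have : e = 2 := by omega
  rw [this]

/-- For odd p, in a non-cyclic p-group with a cyclic subgroup of index p, the elements of order dividing p generate an elementary abelian subgroup of order p^2. -/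
theorem result {R : Type*} [Group R] [Finite R] {p : ℕ} [Fact p.Prime] (hp : p ≠ 2) (hR : IsPGroup p R) (hnc : ¬ IsCyclic R) (C : Subgroup R) (hC : IsCyclic C) (hCi : C.index = p) : Cfsg.IsElementaryAbelian p (Subgroup.closure {x : R | x ^ p = 1}) ∧ Nat.card (Subgroup.closure {x : R | x ^ p = 1}) = p ^ 2 := by
  obtain ⟨E, hKE, hEp, hEcomm, hcard⟩ := omega_struct hp hR hnc C hC hCi
  have hcl : Subgroup.closure {x : R | x ^ p = 1} = E := by
    apply le_antisymm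
    · rw [Subgroup.closure_le]
      intro x hx
      exact hKE x hx
    · intro x hx
      exact Subgroup.subset_closure (hEp x hx)
  rw [hcl]
  exact ⟨⟨⟨⟨fun x y => Subtype.ext (hEcomm x x.2 y y.2)⟩⟩, hEp⟩, hcard⟩


end Cfsg.Agent.S0127
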