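import Cfsg.Statements.S0126
import Mathlib
import Cfsg.Agent.Lead.UniqSub
import Cfsg.Agent.Lead.GenCent
import Cfsg.Agent.S0127
import Cfsg.Agent.S0583

set_option autoImplicit false
open Cfsg

namespace Cfsg.Agent.S0126

open Cfsg.Agent.Lead

/-- in a finite `p`-group, between two normal subgroups `M < N` there is a normal subgroup of
order `|M| * p` -/
theorem exists_normal_ext {R : Type*} [Group R] [Finite R] {p : ℕ} [Fact p.Prime]
    (hR : IsPGroup p R) (M N : Subgroup R) [M.Normal] [N.Normal] (hMN : M ≤ N) (hne : M ≠ N) :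
    ∃ B : Subgroup R, B.Normal ∧ M ≤ B ∧ B ≤ N ∧ Nat.card B = Nat.card M * p := by
  classical
  have hpp : p.Prime := Fact.out
  obtain ⟨π, hπ⟩ : ∃ π : R →* R ⧸ M, π = QuotientGroup.mk' M := ⟨_, rfl⟩
  have hπs : Function.Surjective π := hπ ▸ QuotientGroup.mk'_surjective M
  have hker : π.ker = M := hπ ▸ QuotientGroup.ker_mk' M
  obtain ⟨Nb, hNb⟩ : ∃ Nb : Subgroup (R ⧸ M), Nb = N.map π := ⟨_, rfl⟩
  haveI hNbn : Nb.Normal := hNb ▸ Subgroup.Normal.map inferInstance π hπs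
  have hNbne : Nb ≠ ⊥ := by
    intro h
    rw [hNb, Subgroup.map_eq_bot_iff, hker] at h
    exact hne (le_antisymm hMN h)
  have hQp : IsPGroup p (R ⧸ M) := hR.to_quotient M
  haveI : Group.IsNilpotent (R ⧸ M) := hQp.isNilpotent
  have hmeet : Nb ⊓ Subgroup.center (R ⧸ M) ≠ ⊥ :=
    fun h => hNbne (Cfsg.Agent.S0583.eq_bot_of_inf_center_eq_bot _ h)
  obtain ⟨j, hj⟩ := IsPGroup.iff_card.mp (hQp.to_subgroup (Nb ⊓ Subgroup.center (R ⧸ M)))
  have hj0 : j ≠ 0 := by
    intro h; rw [h, pow_zero] at hj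
    exact hmeet (Subgroup.eq_bot_of_card_eq _ hj)
  obtain ⟨q', hq'⟩ := exists_prime_orderOf_dvd_card'
    (G := ↥(Nb ⊓ Subgroup.center (R ⧸ M))) p (by rw [hj]; exact dvd_pow_self p hj0)
  obtain ⟨q, hqdef⟩ : ∃ q : R ⧸ M, q = (q' : R ⧸ M) := ⟨_, rfl⟩
  have hqmem : q ∈ Nb ⊓ Subgroup.center (R ⧸ M) := hqdef ▸ q'.2
  obtain ⟨hqN, hqZ⟩ := Subgroup.mem_inf.mp hqmem
  have hqord : orderOf q = p := by rw [hqdef, Subgroup.orderOf_coe]; exact hq'
  haveI hzn : (Subgroup.zpowers q).Normal := ⟨fun x hx g => by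
    obtain ⟨i, rfl⟩ := Subgroup.mem_zpowers_iff.mp hx
    have hc : Commute g q := Subgroup.mem_center_iff.mp hqZ g
    have : g * q ^ i = q ^ i * g := (hc.zpow_right i).eq
    rw [this, mul_inv_cancel_right]
    exact Subgroup.zpow_mem _ (Subgroup.mem_zpowers q) i⟩
  obtain ⟨B, hB⟩ : ∃ B : Subgroup R, B = (Subgroup.zpowers q).comap π := ⟨_, rfl⟩
  refine ⟨B, ?_, ?_, ?_, ?_⟩
  · rw [hB]; exact Subgroup.Normal.comap hzn π
  · intro x hx
    rw [hB, Subgroup.mem_comap]
    have : π x = 1 := by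
      have hx' : x ∈ π.ker := by rw [hker]; exact hx
      exact MonoidHom.mem_ker.mp hx'
    rw [this]; exact Subgroup.one_mem _
  · intro x hx
    rw [hB, Subgroup.mem_comap] at hx
    have hxN : π x ∈ Nb := (Subgroup.zpowers_le.mpr hqN) hx
    rw [hNb] at hxN
    obtain ⟨y, hy, hyx⟩ := Subgroup.mem_map.mp hxN
    have hk : y⁻¹ * x ∈ π.ker := by
      rw [MonoidHom.mem_ker, map_mul, map_inv, hyx, inv_mul_cancel]
    rw [hker] at hk
    have e : x = y * (y⁻¹ * x) := by group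
    rw [e]; exact N.mul_mem hy (hMN hk)
  · have h1 : B.index = (Subgroup.zpowers q).index := by
      rw [hB]; exact Subgroup.index_comap_of_surjective (Subgroup.zpowers q) hπs
    have h2 : Nat.card B * B.index = Nat.card R := Subgroup.card_mul_index B
    have h3 : Nat.card (Subgroup.zpowers q) * (Subgroup.zpowers q).index = Nat.card (R ⧸ M) :=
      Subgroup.card_mul_index _
    have h4 : Nat.card R = Nat.card (R ⧸ M) * Nat.card M :=
      Subgroup.card_eq_card_quotient_mul_card_subgroup M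
    have h5 : Nat.card (Subgroup.zpowers q) = p := by rw [Nat.card_zpowers, hqord]
    rw [h1] at h2
    have hpos : 0 < (Subgroup.zpowers q).index :=
      Nat.pos_of_ne_zero Subgroup.index_ne_zero_of_finite
    have h6 : Nat.card B * (Subgroup.zpowers q).index =
        (Nat.card M * p) * (Subgroup.zpowers q).index := by
      rw [h2, h4, ← h3, h5]; ring
    exact Nat.eq_of_mul_eq_mul_right hpos h6

/-- For odd p, every non-cyclic p-group contains a normal elementary abelian subgroup of order p^2. -/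
theorem result {R : Type*} [Group R] [Finite R] {p : ℕ} [Fact p.Prime] (hp : p ≠ 2) (hR : IsPGroup p R) (hnc : ¬ IsCyclic R) : ∃ A : Subgroup R, A.Normal ∧ Cfsg.IsElementaryAbelian p A ∧ Nat.card A = p ^ 2 := by
  classical
  have hpp : p.Prime := Fact.out
  haveI : Group.IsNilpotent R := hR.isNilpotent
  obtain ⟨A₀, hA₀n, hA₀c, hA₀max⟩ := exists_max_normal_abelian (G := R)
  haveI := hA₀n
  by_cases hcyc : IsCyclic A₀
  · have hA₀top : A₀ ≠ ⊤ := by
      intro h
      apply hnc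
      obtain ⟨a', ha'⟩ := hcyc.exists_generator
      refine isCyclic_iff_exists_zpowers_eq_top.mpr ⟨(a' : R), ?_⟩
      rw [eq_top_iff]
      intro x _
      have hx : x ∈ A₀ := by rw [h]; trivial
      obtain ⟨k, hk⟩ := Subgroup.mem_zpowers_iff.mp (ha' ⟨x, hx⟩)
      rw [Subgroup.mem_zpowers_iff]
      exact ⟨k, congrArg Subtype.val hk⟩
    obtain ⟨B, hBn, hA₀B, -, hBcard⟩ := exists_normal_ext hR A₀ ⊤ le_top hA₀top
    haveI := hBn
    have hBnc : ¬ IsCyclic B := by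
      intro hBc
      have hBcomm : ∀ x ∈ B, ∀ y ∈ B, x * y = y * x := by
        intro x hx y hy
        obtain ⟨b', hb'⟩ := hBc.exists_generator
        obtain ⟨i, hi⟩ := Subgroup.mem_zpowers_iff.mp (hb' ⟨x, hx⟩)
        obtain ⟨j, hj⟩ := Subgroup.mem_zpowers_iff.mp (hb' ⟨y, hy⟩)
        have hx' : x = (b' : R) ^ i := (congrArg Subtype.val hi).symm
        have hy' : y = (b' : R) ^ j := (congrArg Subtype.val hj).symm
        rw [hx', hy', ← zpow_add, ← zpow_add, add_comm]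
      have hBA := hA₀max B hBn hBcomm hA₀B
      rw [hBA] at hBcard
      have hpos : 0 < Nat.card A₀ := Nat.card_pos
      have h1 : Nat.card A₀ * 1 = Nat.card A₀ * p := by rw [mul_one]; exact hBcard
      have h2 := Nat.eq_of_mul_eq_mul_left hpos h1
      exact hpp.one_lt.ne h2
    have hBp : IsPGroup p B := hR.to_subgroup B
    have hC'cyc : IsCyclic (A₀.subgroupOf B) := by
      have e := Subgroup.subgroupOfEquivOfLe hA₀B
      exact isCyclic_of_surjective e.symm e.symm.surjective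
    have hC'idx : (A₀.subgroupOf B).index = p := by
      have h1 := Subgroup.card_mul_index (A₀.subgroupOf B)
      rw [Nat.card_congr (Subgroup.subgroupOfEquivOfLe hA₀B).toEquiv, hBcard] at h1
      exact Nat.eq_of_mul_eq_mul_left Nat.card_pos h1
    obtain ⟨E', hKE, hEp, hEcomm, hE'card⟩ :=
      Cfsg.Agent.S0127.omega_struct hp hBp hBnc (A₀.subgroupOf B) hC'cyc hC'idx
    refine ⟨E'.map B.subtype, ?_, ⟨?_, ?_⟩, ?_⟩
    · constructor
      intro y hy g
      obtain ⟨x, hx, rfl⟩ := Subgroup.mem_map.mp hy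
      have hmem : g * (x : R) * g⁻¹ ∈ B := hBn.conj_mem x x.2 g
      refine Subgroup.mem_map.mpr ⟨⟨g * (x : R) * g⁻¹, hmem⟩, ?_, rfl⟩
      apply hKE
      apply Subtype.ext
      show (g * (x : R) * g⁻¹) ^ p = 1
      have hxp : (x : R) ^ p = 1 := congrArg Subtype.val (hEp x hx)
      rw [conj_pow, hxp]; group
    · exact ⟨⟨fun a b => by
        obtain ⟨x, hx, hxa⟩ := Subgroup.mem_map.mp a.2
        obtain ⟨y, hy, hyb⟩ := Subgroup.mem_map.mp b.2
        apply Subtype.ext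
        show (a : R) * (b : R) = (b : R) * (a : R)
        rw [← hxa, ← hyb]
        exact congrArg Subtype.val (hEcomm x hx y hy)⟩⟩
    · intro a ha
      obtain ⟨x, hx, rfl⟩ := Subgroup.mem_map.mp ha
      exact congrArg Subtype.val (hEp x hx)
    · rw [Subgroup.card_map_of_injective B.subtype_injective]; exact hE'card
  · letI : CommGroup A₀ := { (inferInstance : Group A₀) with
      mul_comm := fun x y => Subtype.ext (hA₀c x x.2 y y.2) }
    obtain ⟨q, a, b, hq, haq, hbq, hb1, hab⟩ := exists_rank_two (A := A₀) hcyc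
    haveI : Fact q.Prime := ⟨hq⟩
    have hbord : orderOf (b : R) = q := by
      rw [Subgroup.orderOf_coe]; exact orderOf_eq_prime hbq hb1
    obtain ⟨k, hk⟩ := hR (b : R)
    have hqp : q = p := by
      have h1 : q ∣ p ^ k := hbord ▸ orderOf_dvd_of_pow_eq_one hk
      exact (Nat.prime_dvd_prime_iff_eq hq hpp).mp (hq.dvd_of_dvd_pow h1)
    rw [hqp] at haq hbq hbord
    have ha' : (a : R) ^ p = 1 := by exact_mod_cast congrArg Subtype.val haq
    have hb' : (b : R) ^ p = 1 := by exact_mod_cast congrArg Subtype.val hbq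
    have hb1' : (b : R) ≠ 1 := fun h => hb1 (Subtype.ext h)
    have hab' : (a : R) ∉ Subgroup.zpowers (b : R) := by
      intro hmem
      obtain ⟨t, ht⟩ := Subgroup.mem_zpowers_iff.mp hmem
      exact hab (Subgroup.mem_zpowers_iff.mpr
        ⟨t, Subtype.ext (by rw [Subgroup.coe_zpow]; exact ht)⟩)
    obtain ⟨Ω, hΩ⟩ : ∃ Ω : Subgroup R, ∀ x, x ∈ Ω ↔ (x ∈ A₀ ∧ x ^ p = 1) :=
      ⟨{ carrier := {x | x ∈ A₀ ∧ x ^ p = 1}
         one_mem' := ⟨A₀.one_mem, one_pow p⟩
         mul_mem' := by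
           rintro x y ⟨hx, hxp⟩ ⟨hy, hyp⟩
           refine ⟨A₀.mul_mem hx hy, ?_⟩
           have hc : Commute x y := hA₀c x hx y hy
           rw [hc.mul_pow, hxp, hyp, one_mul]
         inv_mem' := by
           rintro x ⟨hx, hxp⟩
           exact ⟨A₀.inv_mem hx, by rw [inv_pow, hxp, inv_one]⟩ }, fun x => Iff.rfl⟩
    haveI hΩn : Ω.Normal := ⟨fun x hx g => by
      rw [hΩ] at hx ⊢
      refine ⟨hA₀n.conj_mem x hx.1 g, ?_⟩
      rw [conj_pow, hx.2]; group⟩
    have haΩ : (a : R) ∈ Ω := (hΩ _).mpr ⟨a.2, ha'⟩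
    have hbΩ : (b : R) ∈ Ω := (hΩ _).mpr ⟨b.2, hb'⟩
    have hbotΩ : (⊥ : Subgroup R) ≠ Ω := by
      intro h
      rw [← h, Subgroup.mem_bot] at hbΩ
      exact hb1' hbΩ
    obtain ⟨B₁, hB₁n, -, hB₁Ω, hB₁card⟩ := exists_normal_ext hR ⊥ Ω bot_le hbotΩ
    rw [Subgroup.card_bot, one_mul] at hB₁card
    haveI := hB₁n
    have hB₁ne : B₁ ≠ Ω := by
      intro h
      rw [h] at hB₁card
      have hzb : Subgroup.zpowers (b : R) ≤ Ω := Subgroup.zpowers_le.mpr hbΩ
      have heq : Subgroup.zpowers (b : R) = Ω :=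
        Subgroup.eq_of_le_of_card_ge hzb (by rw [Nat.card_zpowers, hbord, hB₁card])
      exact hab' (heq ▸ haΩ)
    obtain ⟨B₂, hB₂n, -, hB₂Ω, hB₂card⟩ := exists_normal_ext hR B₁ Ω hB₁Ω hB₁ne
    rw [hB₁card] at hB₂card
    refine ⟨B₂, hB₂n, ⟨?_, ?_⟩, ?_⟩
    · exact ⟨⟨fun x y => Subtype.ext
        (hA₀c x ((hΩ _).mp (hB₂Ω x.2)).1 y ((hΩ _).mp (hB₂Ω y.2)).1)⟩⟩
    · intro x hx
      exact ((hΩ _).mp (hB₂Ω hx)).2
    · rw [hB₂card, pow_two]


end Cfsg.Agent.S0126
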