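import Cfsg.Statements.S3918
import Mathlib
import Cfsg.Agent.S0126

set_option autoImplicit false
open Cfsg

namespace Cfsg.Agent.S3918

theorem max_of_index_prime {G : Type*} [Group G] [Finite G] {p : ℕ} (hpp : p.Prime)
    (H K : Subgroup G) (hidx : H.index = p) (hHK : H ≤ K) : K = H ∨ K = ⊤ := by
  have h1 := Subgroup.relIndex_mul_index hHK
  rw [hidx] at h1
  have h2 : K.index ∣ p := Dvd.intro_left _ h1
  rcases (Nat.dvd_prime hpp).mp h2 with h3 | h3
  · right; exact Subgroup.index_eq_one.mp h3
  · left
    rw [h3] at h1
    have h4 : H.relIndex K = 1 :=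
      Nat.eq_of_mul_eq_mul_right hpp.pos (h1.trans (one_mul p).symm)
    exact le_antisymm (Subgroup.relIndex_eq_one.mp h4) hHK

/-- Say that a group has self-centralizing non-cyclic subgroups when every non-cyclic subgroup H satisfies C_G(H) ≤ H. For an odd prime p, a finite non-abelian p-group has self-centralizing non-cyclic subgroups if and only if it has order p³. -/
theorem result {G : Type*} [Group G] [Finite G] {p : ℕ} [Fact p.Prime] (hp : p ≠ 2) (hG : IsPGroup p G) (hna : ¬ IsMulCommutative G) :
    (∀ H : Subgroup G, ¬ IsCyclic ↥H → Subgroup.centralizer (H : Set G) ≤ H) ↔ Nat.card G = p ^ 3 := by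
  classical
  have hpp : p.Prime := Fact.out
  have hcomm_absurd : (∀ a b : G, a * b = b * a) → False := fun h => hna ⟨⟨h⟩⟩
  constructor
  · intro hH
    have hnc : ¬ IsCyclic G := by
      intro hcyc
      apply hcomm_absurd
      intro a b
      obtain ⟨g, hg⟩ := hcyc.exists_generator
      obtain ⟨i, rfl⟩ := Subgroup.mem_zpowers_iff.mp (hg a)
      obtain ⟨j, rfl⟩ := Subgroup.mem_zpowers_iff.mp (hg b)
      exact zpow_mul_comm g i j
    obtain ⟨A, hAn, hAea, hAcard⟩ := S0126.result hp hG hnc
    have hAnc : ¬ IsCyclic A := by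
      intro hcyc
      obtain ⟨e, he⟩ := hcyc.exists_generator
      have hoe : orderOf e = p ^ 2 := by
        rw [← hAcard]; exact orderOf_eq_card_of_forall_mem_zpowers he
      have h1 : e ^ p = 1 := by
        apply Subtype.ext
        rw [Subgroup.coe_pow]
        exact hAea.2 _ e.2
      have h2 : p ^ 2 ∣ p := hoe ▸ orderOf_dvd_of_pow_eq_one h1
      have h3 := Nat.le_of_dvd hpp.pos h2
      have h4 : 2 ≤ p := hpp.two_le
      nlinarith
    have hCA := hH A hAnc
    have hAcomm : ∀ a ∈ A, ∀ b ∈ A, a * b = b * a := by
      intro a ha b hb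
      have h0 := hAea.1.is_comm.comm ⟨a, ha⟩ ⟨b, hb⟩
      exact congrArg Subtype.val h0
    have hexx : ∃ x ∈ A, ∃ g : G, g * x ≠ x * g := by
      by_contra hcon
      push_neg at hcon
      have hAtop : A = ⊤ := by
        rw [Subgroup.eq_top_iff']
        intro g
        apply hCA
        rw [Subgroup.mem_centralizer_iff]
        intro h hh
        exact (hcon h hh g).symm
      apply hcomm_absurd
      intro a b
      exact hAcomm a (by rw [hAtop]; exact Subgroup.mem_top a) b
        (by rw [hAtop]; exact Subgroup.mem_top b)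
    obtain ⟨x, hxA, g, hgx⟩ := hexx
    have hx1 : x ≠ 1 := by
      intro h
      apply hgx
      rw [h, mul_one, one_mul]
    haveI : Nontrivial G := ⟨⟨x, 1, hx1⟩⟩
    haveI := hG.center_nontrivial
    obtain ⟨⟨z, hz⟩, hz1'⟩ := exists_ne (1 : Subgroup.center G)
    have hz1 : z ≠ 1 := fun h => hz1' (Subtype.ext h)
    have hzc : ∀ y : G, y * z = z * y := fun y => Subgroup.mem_center_iff.mp hz y
    have hzA : z ∈ A := by
      apply hCA
      rw [Subgroup.mem_centralizer_iff]
      intro h _
      exact hzc h
    have hzp : z ^ p = 1 := hAea.2 z hzA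
    have hoz : orderOf z = p := orderOf_eq_prime hzp hz1
    have hxz : x ∉ Subgroup.zpowers z := by
      intro hmem
      obtain ⟨i, hi⟩ := Subgroup.mem_zpowers_iff.mp hmem
      apply hgx
      rw [← hi]
      exact (Commute.zpow_right (show Commute g z from hzc g) i).eq
    have hT : Subgroup.zpowers z ⊔ Subgroup.zpowers x = A := by
      have hle : Subgroup.zpowers z ⊔ Subgroup.zpowers x ≤ A :=
        sup_le (Subgroup.zpowers_le.mpr hzA) (Subgroup.zpowers_le.mpr hxA)
      apply Subgroup.eq_of_le_of_card_ge hle
      rw [hAcard]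
      have h1 : Nat.card (Subgroup.zpowers z ⊔ Subgroup.zpowers x : Subgroup G) ∣ p ^ 2 := by
        rw [← hAcard]; exact Subgroup.card_dvd_of_le hle
      obtain ⟨j, hj, hcard⟩ := (Nat.dvd_prime_pow hpp).mp h1
      have hzle : Subgroup.zpowers z ≤ Subgroup.zpowers z ⊔ Subgroup.zpowers x := le_sup_left
      have hj2 : j = 2 := by
        by_contra hne
        have hj1 : j ≤ 1 := by omega
        have hcle : Nat.card (Subgroup.zpowers z ⊔ Subgroup.zpowers x : Subgroup G) ≤
            Nat.card (Subgroup.zpowers z) := by
          rw [hcard, Nat.card_zpowers, hoz]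
          calc p ^ j ≤ p ^ 1 := Nat.pow_le_pow_right hpp.pos hj1
            _ = p := pow_one p
        have heq := Subgroup.eq_of_le_of_card_ge hzle hcle
        apply hxz
        rw [heq]
        exact Subgroup.mem_sup_right (Subgroup.mem_zpowers x)
      exact le_of_eq (by rw [hcard, hj2])
    have hKA : Subgroup.centralizer ({x} : Set G) ≤ A := by
      intro y hy
      apply hCA
      have hyx : x * y = y * x := Subgroup.mem_centralizer_iff.mp hy x (Set.mem_singleton x)
      have hle : Subgroup.zpowers z ⊔ Subgroup.zpowers x ≤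
          Subgroup.centralizer ({y} : Set G) := by
        apply sup_le
        · apply Subgroup.zpowers_le.mpr
          exact Subgroup.mem_centralizer_iff.mpr
            (fun h hh => by rw [Set.mem_singleton_iff.mp hh]; exact hzc y)
        · apply Subgroup.zpowers_le.mpr
          exact Subgroup.mem_centralizer_iff.mpr
            (fun h hh => by rw [Set.mem_singleton_iff.mp hh]; exact hyx.symm)
      rw [Subgroup.mem_centralizer_iff]
      intro h hh
      have h1 : h ∈ Subgroup.centralizer ({y} : Set G) := hle (by rw [hT]; exact hh)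
      exact (Subgroup.mem_centralizer_iff.mp h1 y (Set.mem_singleton y)).symm
    have hKcard : Nat.card (Subgroup.centralizer ({x} : Set G)) ≤ p ^ 2 := by
      rw [← hAcard]; exact Subgroup.card_le_of_le hKA
    obtain ⟨m, hm⟩ := IsPGroup.iff_card.mp hG
    have horb : (MulAction.orbit (ConjAct G) x).ncard ≤ p ^ 2 - 1 := by
      have hsub : MulAction.orbit (ConjAct G) x ⊆ (A : Set G) \ {1} := by
        rintro y ⟨c, rfl⟩
        refine ⟨?_, ?_⟩
        · show ConjAct.ofConjAct c * x * (ConjAct.ofConjAct c)⁻¹ ∈ A
          exact hAn.conj_mem x hxA _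
        · intro h
          have h' : ConjAct.ofConjAct c * x * (ConjAct.ofConjAct c)⁻¹ = 1 := h
          exact hx1 (conj_eq_one_iff.mp h')
      have h1 := Set.ncard_le_ncard hsub (Set.toFinite _)
      have h2 : ((A : Set G) \ {1}).ncard = p ^ 2 - 1 := by
        rw [Set.ncard_sdiff_singleton_of_mem A.one_mem, ← Nat.card_coe_set_eq]
        exact congrArg (· - 1) hAcard
      rw [h2] at h1
      exact h1
    have heq : Nat.card (Subgroup.centralizer ({x} : Set G)) *
        (MulAction.orbit (ConjAct G) x).ncard = Nat.card G := by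
      rw [Subgroup.nat_card_centralizer_nat_card_stabilizer, ← MulAction.index_stabilizer]
      exact Subgroup.card_mul_index (MulAction.stabilizer (ConjAct G) x)
    have hdvd : (MulAction.orbit (ConjAct G) x).ncard ∣ p ^ m := by
      rw [← hm, ← heq]; exact Dvd.intro_left _ rfl
    obtain ⟨j, hj, hjcard⟩ := (Nat.dvd_prime_pow hpp).mp hdvd
    have hj1 : j ≤ 1 := by
      by_contra hlt
      have h2 : p ^ 2 ≤ p ^ j := Nat.pow_le_pow_right hpp.pos (by omega)
      rw [hjcard] at horb
      have h3 : 0 < p ^ 2 := pow_pos hpp.pos 2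
      omega
    have horb' : (MulAction.orbit (ConjAct G) x).ncard ≤ p := by
      rw [hjcard]
      calc p ^ j ≤ p ^ 1 := Nat.pow_le_pow_right hpp.pos hj1
        _ = p := pow_one p
    have hle3 : Nat.card G ≤ p ^ 3 := by
      rw [← heq]
      calc _ ≤ p ^ 2 * p := Nat.mul_le_mul hKcard horb'
        _ = p ^ 3 := by ring
    have hgt2 : p ^ 2 < Nat.card G := by
      by_contra hle
      push_neg at hle
      have hAtop : A = ⊤ := Subgroup.eq_top_of_le_card A (by rw [hAcard]; exact hle)
      apply hcomm_absurd
      intro a b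
      exact hAcomm a (by rw [hAtop]; exact Subgroup.mem_top a) b
        (by rw [hAtop]; exact Subgroup.mem_top b)
    rw [hm] at hle3 hgt2 ⊢
    have hm3 : m ≤ 3 := (Nat.pow_le_pow_iff_right hpp.one_lt).mp hle3
    have hm2 : 2 < m := (Nat.pow_lt_pow_iff_right hpp.one_lt).mp hgt2
    have hm' : m = 3 := by omega
    rw [hm']
  · intro hcard H hHnc
    have hHdvd : Nat.card H ∣ p ^ 3 := by
      rw [← hcard]; exact Subgroup.card_subgroup_dvd_card H
    obtain ⟨j, hj, hHcard⟩ := (Nat.dvd_prime_pow hpp).mp hHdvd
    have hj0 : j ≠ 0 := by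
      intro h0
      rw [h0, pow_zero] at hHcard
      haveI : Subsingleton H := (Nat.card_eq_one_iff_unique.mp hHcard).1
      exact hHnc isCyclic_of_subsingleton
    have hj1 : j ≠ 1 := by
      intro h0
      rw [h0, pow_one] at hHcard
      exact hHnc (isCyclic_of_prime_card hHcard)
    rcases Nat.lt_or_ge j 3 with hj3 | hj3
    · have hj2 : j = 2 := by omega
      rw [hj2] at hHcard
      have hHcomm : ∀ a b : H, a * b = b * a :=
        IsPGroup.commutative_of_card_eq_prime_sq hHcard
      have hHidx : H.index = p := by
        have h1 := Subgroup.card_mul_index H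
        rw [hHcard, hcard] at h1
        have h2 : p ^ 3 = p ^ 2 * p := by ring
        rw [h2] at h1
        exact Nat.eq_of_mul_eq_mul_left (pow_pos hpp.pos 2) h1
      have hHle : H ≤ Subgroup.centralizer (H : Set G) := by
        intro h hh
        rw [Subgroup.mem_centralizer_iff]
        intro y hy
        exact congrArg Subtype.val (hHcomm ⟨y, hy⟩ ⟨h, hh⟩)
      rcases max_of_index_prime hpp H _ hHidx hHle with h1 | h1
      · exact le_of_eq h1
      · exfalso
        have hHZ : H ≤ Subgroup.center G := by
          intro h hh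
          rw [Subgroup.mem_center_iff]
          intro g
          have hg : g ∈ Subgroup.centralizer (H : Set G) := by
            rw [h1]; exact Subgroup.mem_top g
          exact (Subgroup.mem_centralizer_iff.mp hg h hh).symm
        rcases max_of_index_prime hpp H _ hHidx hHZ with h2 | h2
        · have hZidx : (Subgroup.center G).index = p := by rw [h2]; exact hHidx
          have hq : Nat.card (G ⧸ Subgroup.center G) = p := by
            rw [← Subgroup.index_eq_card]; exact hZidx
          haveI : IsCyclic (G ⧸ Subgroup.center G) := isCyclic_of_prime_card hq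
          apply hcomm_absurd
          exact commutative_of_cyclic_center_quotient (QuotientGroup.mk' (Subgroup.center G))
            (le_of_eq (QuotientGroup.ker_mk' _))
        · apply hcomm_absurd
          intro a b
          have ha : a ∈ Subgroup.center G := by rw [h2]; exact Subgroup.mem_top a
          exact (Subgroup.mem_center_iff.mp ha b).symm
    · have hj3' : j = 3 := by omega
      rw [hj3'] at hHcard
      have hHtop : H = ⊤ := Subgroup.eq_top_of_card_eq H (by rw [hHcard, hcard])
      rw [hHtop]
      exact le_top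


end Cfsg.Agent.S3918
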