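import Cfsg.Statements.S0010
import Mathlib
import Cfsg.Agent.Lead.SylowBasic

set_option autoImplicit false
open Cfsg

namespace Cfsg.Agent.S0010

/-- The largest normal p-subgroup of a finite group is the intersection of all its Sylow p-subgroups. -/
theorem result {G : Type*} [Group G] [Finite G] (p : ℕ) [Fact p.Prime] :
    Cfsg.pCore p G = ⨅ P : Sylow p G, (P : Subgroup G) := by
  classical
  apply le_antisymm
  · apply le_iInf
    intro P
    apply sSup_le
    rintro N ⟨hNn, hNp⟩
    obtain ⟨Q, hQ⟩ := hNp.exists_le_sylow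
    obtain ⟨g, hg⟩ := MulAction.exists_smul_eq G Q P
    intro n hn
    rw [← hg, Sylow.coe_subgroup_smul, Cfsg.Agent.Lead.mem_conj_smul_iff]
    exact hQ (hNn.conj_mem' n hn g)
  · apply le_sSup
    constructor
    · constructor
      intro x hx g
      rw [Subgroup.mem_iInf] at hx ⊢
      intro P
      have h1 := hx (g⁻¹ • P)
      rw [Sylow.coe_subgroup_smul, Cfsg.Agent.Lead.mem_conj_smul_iff] at h1
      simpa using h1
    · obtain ⟨P⟩ : Nonempty (Sylow p G) := inferInstance
      exact P.2.to_le (iInf_le _ P)


end Cfsg.Agent.S0010
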