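import Cfsg.Statements.S0042
import Cfsg.Agent.Helper3.FPF
import Cfsg.Agent.Helper7.FrobKer

set_option autoImplicit false
open Cfsg

namespace Cfsg.Agent.S0042

/-- In a finite Frobenius group, the Frobenius kernel is (the carrier of) a normal subgroup which is nilpotent. -/
theorem result {G : Type*} [Group G] [Finite G] (H : Subgroup G) (hH : Cfsg.IsFrobeniusComplement H) :
    ∃ N : Subgroup G, (N : Set G) = Cfsg.frobeniusKernel H ∧ N.Normal ∧ Group.IsNilpotent N := by
  obtain ⟨K, hKset, hKn, hKH, hsup, hcard, hcop, hK1⟩ := Helper7.frob_kernel_data H hH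
  refine ⟨K, hKset, hKn, ?_⟩
  haveI := hKn
  have hH1 : Nat.card H ≠ 1 := by
    have := (Subgroup.one_lt_card_iff_ne_bot H).2 hH.1
    omega
  obtain ⟨p, hp, hpd⟩ := Nat.exists_prime_and_dvd hH1
  haveI : Fact p.Prime := ⟨hp⟩
  obtain ⟨h, hh⟩ := exists_prime_orderOf_dvd_card' (G := ↥H) p hpd
  have hh1 : (h : G) ≠ 1 := by
    intro h1
    have : h = 1 := Subtype.ext h1
    rw [this, orderOf_one] at hh
    exact hp.one_lt.ne hh
  have hhK : (h : G) ∉ K := by
    intro hK
    have : (h : G) ∈ K ⊓ H := ⟨hK, h.2⟩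
    rw [hKH, Subgroup.mem_bot] at this
    exact hh1 this
  have hhp : (h : G) ^ p = 1 := by
    have h2 : h ^ p = 1 := by rw [← hh]; exact pow_orderOf_eq_one h
    have h3 := congrArg Subtype.val h2
    simpa using h3
  let ψ : ↥K →* ↥K :=
    { toFun := fun k => ⟨(h : G) * k * (h : G)⁻¹, hKn.conj_mem k k.2 h⟩
      map_one' := Subtype.ext (by
        show (h : G) * (1 : G) * (h : G)⁻¹ = 1
        group)
      map_mul' := fun a b => Subtype.ext (by
        show (h : G) * ((a : G) * (b : G)) * (h : G)⁻¹ =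
          ((h : G) * a * (h : G)⁻¹) * ((h : G) * b * (h : G)⁻¹)
        group) }
  have hψk : ∀ (j : ℕ) (k : ↥K), ((ψ^[j] k : ↥K) : G) = (h : G) ^ j * k * ((h : G) ^ j)⁻¹ := by
    intro j
    induction j with
    | zero => intro k; simp
    | succ j ih =>
      intro k
      rw [Function.iterate_succ_apply']
      show (h : G) * ((ψ^[j] k : ↥K) : G) * (h : G)⁻¹ = _
      rw [ih, pow_succ']
      group
  refine Helper3.FPF.fpf_nilpotent p hp (Nat.card K) ↥K rfl ψ ?_ ?_
  · intro k hk
    have h1 : (h : G) * k * (h : G)⁻¹ = k := congrArg Subtype.val hk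
    have h2 : (k : G) * h = h * k := (mul_inv_eq_iff_eq_mul.1 h1).symm
    exact Subtype.ext (Helper7.frob_fpf H K hH hKset hKn (h : G) (k : G) hhK k.2 h2)
  · intro k
    apply Subtype.ext
    rw [hψk, hhp]
    group

end Cfsg.Agent.S0042
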