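import Cfsg.Statements.S0214
import Mathlib
import Cfsg.Agent.Lead.SubTools
import Cfsg.Agent.Lead.Fpf3

set_option autoImplicit false
open Cfsg

namespace Cfsg.Agent.S0214

open scoped Pointwise

/-- normaliser growth in a p-group -/
theorem exists_normalizer_not_mem {G : Type*} [Group G] [Finite G] (p : ℕ) [Fact p.Prime]
    (Q T : Subgroup G) (hQ : IsPGroup p Q) (hTQ : T ≤ Q) (hne : T ≠ Q) :
    ∃ x ∈ Q, x ∉ T ∧ x ∈ Subgroup.normalizer (T : Set G) := by
  have hnil : Group.IsNilpotent Q := hQ.isNilpotent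
  have hlt : T.subgroupOf Q < ⊤ := by
    rw [lt_top_iff_ne_top]
    intro h
    exact hne (le_antisymm hTQ (Subgroup.subgroupOf_eq_top.mp h))
  have hnc := Group.normalizerCondition_of_isNilpotent (G := Q) (T.subgroupOf Q) hlt
  obtain ⟨x, hxN, hxV⟩ := SetLike.exists_of_lt hnc
  refine ⟨x, x.2, fun h => hxV (Subgroup.mem_subgroupOf.mpr h), ?_⟩
  rw [← Subgroup.subgroupOf_normalizer_eq hTQ] at hxN
  exact Subgroup.mem_subgroupOf.mp hxN

/-- Let H be a proper subgroup of the finite group G and P a nontrivial Sylow 2-subgroup of H. Then H is strongly embedded in G if and only if N_G(X) ≤ H for every nontrivial subgroup X of P. -/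
theorem result {G : Type*} [Group G] [Finite G] (H : Subgroup G) (hH : H ≠ ⊤) (P : Sylow 2 ↥H) (hP : (P : Subgroup ↥H) ≠ ⊥) : Cfsg.IsStronglyEmbedded H ↔ (∀ X : Subgroup ↥H, X ≤ (P : Subgroup ↥H) → X ≠ ⊥ → Subgroup.normalizer ((X.map H.subtype : Subgroup G) : Set G) ≤ H) := by
  classical
  haveI : Fact (Nat.Prime 2) := ⟨Nat.prime_two⟩
  obtain ⟨P₀, hP₀⟩ : ∃ P₀ : Subgroup G, P₀ = (P : Subgroup ↥H).map H.subtype := ⟨_, rfl⟩
  have hP₀H : P₀ ≤ H := by
    rw [hP₀]; rintro _ ⟨y, -, rfl⟩; exact y.2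
  have hP₀p : IsPGroup 2 P₀ := by rw [hP₀]; exact P.isPGroup'.map H.subtype
  have hP₀bot : P₀ ≠ ⊥ := by
    rw [hP₀]; intro h
    exact hP ((Subgroup.map_eq_bot_iff_of_injective _ H.subtype_injective).mp h)
  have heven2 : ∀ Q : Subgroup G, IsPGroup 2 Q → Q ≠ ⊥ → Even (Nat.card Q) := by
    intro Q hQ hQbot
    obtain ⟨k, hk⟩ := (IsPGroup.iff_card).mp hQ
    rcases Nat.eq_zero_or_pos k with h0 | hpos
    · exfalso; apply hQbot
      rw [h0, pow_zero] at hk
      exact Subgroup.eq_bot_of_card_eq Q hk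
    · rw [hk]; exact (Nat.even_pow.mpr ⟨even_two, hpos.ne'⟩)
  constructor
  · rintro ⟨-, -, hodd⟩ X hXP hXbot g hg
    by_contra hgH
    obtain ⟨X₀, hX₀⟩ : ∃ X₀ : Subgroup G, X₀ = X.map H.subtype := ⟨_, rfl⟩
    rw [← hX₀] at hg
    have hX₀H : X₀ ≤ H := by rw [hX₀]; rintro _ ⟨y, -, rfl⟩; exact y.2
    have hX₀p : IsPGroup 2 X₀ := by rw [hX₀]; exact (P.isPGroup'.to_le hXP).map H.subtype
    have hX₀bot : X₀ ≠ ⊥ := by
      rw [hX₀]; intro h
      exact hXbot ((Subgroup.map_eq_bot_iff_of_injective _ H.subtype_injective).mp h)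
    have hle : X₀ ≤ H ⊓ H.map (MulAut.conj g).toMonoidHom := by
      intro x hx
      refine Subgroup.mem_inf.mpr ⟨hX₀H hx, ?_⟩
      rw [Subgroup.mem_map]
      refine ⟨g⁻¹ * x * g, hX₀H ?_, ?_⟩
      · have hg' : g⁻¹ ∈ Subgroup.normalizer (X₀ : Set G) := Subgroup.inv_mem _ hg
        have := (Subgroup.mem_normalizer_iff.mp hg' x).mp hx
        rw [inv_inv] at this; exact this
      · show g * (g⁻¹ * x * g) * g⁻¹ = x
        group
    have h1 := Subgroup.card_dvd_of_le hle
    have h2 := heven2 X₀ hX₀p hX₀bot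
    have h3 := hodd g hgH
    exact (Nat.not_even_iff_odd.mpr h3)
      (even_iff_two_dvd.mpr ((even_iff_two_dvd.mp h2).trans h1))
  · intro hyp
    have hyp' : ∀ T : Subgroup G, T ≤ P₀ → T ≠ ⊥ → Subgroup.normalizer (T : Set G) ≤ H := by
      intro T hT hTbot
      have hTH : T ≤ H := hT.trans hP₀H
      have hmap : (T.subgroupOf H).map H.subtype = T := Subgroup.map_subgroupOf_eq_of_le hTH
      have h1 := hyp (T.subgroupOf H) ?_ ?_
      · rw [hmap] at h1; exact h1
      · intro x hx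
        have hx' : (x : G) ∈ P₀ := hT (Subgroup.mem_subgroupOf.mp hx)
        rw [hP₀] at hx'
        obtain ⟨y, hy, hyx⟩ := Subgroup.mem_map.mp hx'
        have : y = x := Subtype.ext hyx
        rw [← this]; exact hy
      · intro h
        apply hTbot
        rw [← hmap, h, Subgroup.map_bot]
    have hsyl : ∀ Q : Subgroup G, Q ≤ H → IsPGroup 2 Q →
        ∃ h ∈ H, ∀ x ∈ Q, h⁻¹ * x * h ∈ P₀ := by
      intro Q hQH hQ
      have hQ' : IsPGroup 2 (Q.subgroupOf H) :=
        hQ.comap_of_injective H.subtype H.subtype_injective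
      obtain ⟨R, hR⟩ := hQ'.exists_le_sylow
      obtain ⟨h, hh⟩ := MulAction.exists_smul_eq ↥H P R
      refine ⟨h, h.2, ?_⟩
      intro x hx
      have hxR : (⟨x, hQH hx⟩ : ↥H) ∈ (R : Subgroup ↥H) := hR (Subgroup.mem_subgroupOf.mpr hx)
      rw [← hh, Sylow.coe_subgroup_smul, Cfsg.Agent.Lead.mem_conj_smul] at hxR
      rw [hP₀]
      exact Subgroup.mem_map.mpr ⟨_, hxR, rfl⟩
    refine ⟨hH, ?_, ?_⟩
    · have h1 := heven2 P₀ hP₀p hP₀bot
      exact even_iff_two_dvd.mpr ((even_iff_two_dvd.mp h1).trans (Subgroup.card_dvd_of_le hP₀H))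
    · intro g hgH
      by_contra hodd
      rw [Nat.not_odd_iff_even] at hodd
      obtain ⟨t', ht'⟩ := exists_prime_orderOf_dvd_card'
        (G := ↥(H ⊓ H.map (MulAut.conj g).toMonoidHom)) 2 (even_iff_two_dvd.mp hodd)
      obtain ⟨t, htdef⟩ : ∃ t : G, t = (t' : G) := ⟨_, rfl⟩
      have hto : orderOf t = 2 := by rw [htdef, Subgroup.orderOf_coe]; exact ht'
      have htD : t ∈ H ⊓ H.map (MulAut.conj g).toMonoidHom := htdef ▸ t'.2
      obtain ⟨htH, htg⟩ := Subgroup.mem_inf.mp htD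
      obtain ⟨y, hyH, hyt⟩ := Subgroup.mem_map.mp htg
      have hyt' : g * y * g⁻¹ = t := hyt
      obtain ⟨Bad, hBad⟩ : ∃ Bad : Set (Subgroup G), ∀ T, T ∈ Bad ↔
          (T ≠ ⊥ ∧ T ≤ P₀ ∧ ∃ k, k ∉ H ∧ ∀ x ∈ T, k⁻¹ * x * k ∈ P₀) :=
        ⟨{T | T ≠ ⊥ ∧ T ≤ P₀ ∧ ∃ k, k ∉ H ∧ ∀ x ∈ T, k⁻¹ * x * k ∈ P₀}, fun _ => Iff.rfl⟩
      have hzt : IsPGroup 2 (Subgroup.zpowers t) :=
        IsPGroup.of_card (n := 1) (by rw [Nat.card_zpowers, hto, pow_one])
      obtain ⟨h, hhH, hh⟩ := hsyl (Subgroup.zpowers t)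
        (by rw [Subgroup.zpowers_le]; exact htH) hzt
      have hzy : IsPGroup 2 (Subgroup.zpowers y) := by
        have : orderOf y = 2 := by
          rw [← hto, ← hyt']
          exact ((MulAut.conj g).orderOf_eq y).symm
        exact IsPGroup.of_card (n := 1) (by rw [Nat.card_zpowers, this, pow_one])
      obtain ⟨h', hh'H, hh'⟩ := hsyl (Subgroup.zpowers y)
        (by rw [Subgroup.zpowers_le]; exact hyH) hzy
      obtain ⟨t₁, ht₁⟩ : ∃ t₁ : G, t₁ = h⁻¹ * t * h := ⟨_, rfl⟩
      have ht₁P : t₁ ∈ P₀ := ht₁ ▸ hh t (Subgroup.mem_zpowers t)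
      have ht₁ne : t₁ ≠ 1 := by
        intro h1
        have : t = 1 := by
          have e : t = h * t₁ * h⁻¹ := by rw [ht₁]; group
          rw [e, h1]; group
        rw [this, orderOf_one] at hto; omega
      have hinit : Subgroup.zpowers t₁ ∈ Bad := by
        rw [hBad]
        refine ⟨?_, ?_, h⁻¹ * g * h', ?_, ?_⟩
        · intro hbot
          apply ht₁ne
          have := Subgroup.mem_zpowers t₁
          rw [hbot, Subgroup.mem_bot] at this; exact this
        · rw [Subgroup.zpowers_le]; exact ht₁P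
        · intro hk
          apply hgH
          have e : g = h * (h⁻¹ * g * h') * h'⁻¹ := by group
          rw [e]
          exact H.mul_mem (H.mul_mem hhH hk) (H.inv_mem hh'H)
        · intro x hx
          obtain ⟨i, hi⟩ := Subgroup.mem_zpowers_iff.mp hx
          have e1 : (h⁻¹ * g * h')⁻¹ * t₁ * (h⁻¹ * g * h') = h'⁻¹ * y * h' := by
            rw [ht₁, ← hyt']; group
          have e2 : (h⁻¹ * g * h')⁻¹ * x * (h⁻¹ * g * h') = (h'⁻¹ * y * h') ^ i := by
            rw [← hi, ← e1]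
            generalize h⁻¹ * g * h' = k
            have := conj_zpow (a := k⁻¹) (b := t₁) (i := i)
            rw [inv_inv] at this
            exact this.symm
          rw [e2]
          exact Subgroup.zpow_mem _ (hh' y (Subgroup.mem_zpowers y)) i
      obtain ⟨T, hTBad, hmax⟩ := Set.exists_max_image Bad (fun T : Subgroup G => Nat.card T)
        (Set.toFinite _) ⟨_, hinit⟩
      obtain ⟨hTbot, hTP, k, hkH, hk⟩ := (hBad T).mp hTBad
      by_cases hTeq : T = P₀
      · apply hkH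
        have hk' : k⁻¹ ∈ Subgroup.normalizer (P₀ : Set G) :=
          Cfsg.Agent.Lead.mem_normalizer_of_conj_mem P₀ k⁻¹
            (fun s hs => by rw [inv_inv]; exact hk s (hTeq ▸ hs))
        have := hyp' P₀ le_rfl hP₀bot hk'
        have h2 := H.inv_mem this
        rw [inv_inv] at h2; exact h2
      · obtain ⟨x, hxP, hxT, hxN⟩ := exists_normalizer_not_mem 2 P₀ T hP₀p hTP hTeq
        obtain ⟨S, hS⟩ : ∃ S : Subgroup G, S = P₀ ⊓ Subgroup.normalizer (T : Set G) := ⟨_, rfl⟩
        have hTS : T ≤ S := by rw [hS]; exact le_inf hTP Subgroup.le_normalizer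
        have hxS : x ∈ S := by rw [hS]; exact Subgroup.mem_inf.mpr ⟨hxP, hxN⟩
        have hSP : S ≤ P₀ := by rw [hS]; exact inf_le_left
        have hSbot : S ≠ ⊥ := fun h => hTbot (le_bot_iff.mp (h ▸ hTS))
        have hcardlt : Nat.card T < Nat.card S := by
          by_contra hle
          push Not at hle
          have := Subgroup.eq_of_le_of_card_ge hTS hle
          exact hxT (this ▸ hxS)
        obtain ⟨T', hT'⟩ : ∃ T' : Subgroup G, T' = T.map (MulAut.conj k⁻¹).toMonoidHom :=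
          ⟨_, rfl⟩
        have hT'P : T' ≤ P₀ := by
          rw [hT']; rintro _ ⟨z, hz, rfl⟩
          have := hk z hz
          show k⁻¹ * z * k⁻¹⁻¹ ∈ P₀
          rw [inv_inv]; exact this
        have hT'bot : T' ≠ ⊥ := by
          rw [hT']; intro h
          exact hTbot ((Subgroup.map_eq_bot_iff_of_injective _
            (MulAut.conj k⁻¹).injective).mp h)
        have hNT' := hyp' T' hT'P hT'bot
        have hNk : ∀ z ∈ Subgroup.normalizer (T : Set G), k⁻¹ * z * k ∈ H := by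
          intro z hz
          have h1 : (MulAut.conj k⁻¹).toMonoidHom z ∈
              (Subgroup.normalizer (T : Set G)).map (MulAut.conj k⁻¹).toMonoidHom :=
            Subgroup.mem_map_of_mem _ hz
          rw [Subgroup.map_equiv_normalizer_eq, ← hT'] at h1
          have h2 := hNT' h1
          have h3 : (MulAut.conj k⁻¹).toMonoidHom z = k⁻¹ * z * k := by
            show k⁻¹ * z * k⁻¹⁻¹ = _
            rw [inv_inv]
          rw [h3] at h2; exact h2
        obtain ⟨S', hS'⟩ : ∃ S' : Subgroup G, S' = S.map (MulAut.conj k⁻¹).toMonoidHom :=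
          ⟨_, rfl⟩
        have hS'H : S' ≤ H := by
          rw [hS']; rintro _ ⟨z, hz, rfl⟩
          have hzN : z ∈ Subgroup.normalizer (T : Set G) := by
            rw [hS] at hz; exact (Subgroup.mem_inf.mp hz).2
          have := hNk z hzN
          show k⁻¹ * z * k⁻¹⁻¹ ∈ H
          rw [inv_inv]; exact this
        have hS'p : IsPGroup 2 S' := by rw [hS']; exact (hP₀p.to_le hSP).map _
        obtain ⟨h₂, hh₂H, hh₂⟩ := hsyl S' hS'H hS'p
        have hSBad : S ∈ Bad := by
          rw [hBad]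
          refine ⟨hSbot, hSP, k * h₂, ?_, ?_⟩
          · intro hkh
            apply hkH
            have e : k = k * h₂ * h₂⁻¹ := by group
            rw [e]; exact H.mul_mem hkh (H.inv_mem hh₂H)
          · intro z hz
            have hz' : k⁻¹ * z * k ∈ S' := by
              rw [hS']
              refine Subgroup.mem_map.mpr ⟨z, hz, ?_⟩
              show k⁻¹ * z * k⁻¹⁻¹ = _
              rw [inv_inv]
            have := hh₂ _ hz'
            have e : (k * h₂)⁻¹ * z * (k * h₂) = h₂⁻¹ * (k⁻¹ * z * k) * h₂ := by group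
            rw [e]; exact this
        have := hmax S hSBad
        omega


end Cfsg.Agent.S0214
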