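import Cfsg.Statements.S0223
import Mathlib
import Cfsg.Agent.Lead.SylowBasic
import Cfsg.Agent.Lead.StronglyEmb

set_option autoImplicit false
open Cfsg

namespace Cfsg.Agent.S0223

/-- Let H be a proper subgroup of even order of the finite group G. Then H is strongly embedded if and only if (i) C_G(t) ≤ H for every involution t of H and (ii) H controls fusion of its involutions: involutions of H conjugate in G are conjugate in H. -/
theorem result {G : Type*} [Group G] [Finite G] (H : Subgroup G) (hH : H ≠ ⊤) (heven : Even (Nat.card H)) : Cfsg.IsStronglyEmbedded H ↔ ((∀ t ∈ H, orderOf t = 2 → Subgroup.centralizer ({t} : Set G) ≤ H) ∧ (∀ t ∈ H, ∀ s ∈ H, orderOf t = 2 → orderOf s = 2 → IsConj t s → ∃ h ∈ H, h * t * h⁻¹ = s)) := by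
  rw [Lead.stronglyEmbedded_iff H hH heven]
  constructor
  · intro h
    refine ⟨fun t ht ht2 c hc => ?_, fun t ht s hs ht2 hs2 hconj => ?_⟩
    · apply h c t ht ht2
      have hct : c * t = t * c := Subgroup.mem_centralizer_singleton_iff.mp hc
      rw [hct, mul_inv_cancel_right]; exact ht
    · obtain ⟨g, hg⟩ := isConj_iff.mp hconj
      exact ⟨g, h g t ht ht2 (by rw [hg]; exact hs), hg⟩
  · rintro ⟨h1, h2⟩ g t ht ht2 hgt
    obtain ⟨h, hh, hht⟩ := h2 t ht (g * t * g⁻¹) hgt ht2
      (by rw [Lead.orderOf_conj_eq]; exact ht2) (isConj_iff.mpr ⟨g, rfl⟩)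
    have hc : h⁻¹ * g ∈ Subgroup.centralizer ({t} : Set G) := by
      rw [Subgroup.mem_centralizer_singleton_iff]
      calc h⁻¹ * g * t = h⁻¹ * (g * t * g⁻¹) * g := by group
        _ = h⁻¹ * (h * t * h⁻¹) * g := by rw [hht]
        _ = t * (h⁻¹ * g) := by group
    have h3 := h1 t ht ht2 hc
    have e : g = h * (h⁻¹ * g) := by group
    rw [e]; exact H.mul_mem hh h3


end Cfsg.Agent.S0223
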