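import Cfsg.Statements.S0224
import Mathlib
import Cfsg.Agent.Lead.SylowBasic
import Cfsg.Agent.Lead.StronglyEmb

set_option autoImplicit false
open Cfsg

namespace Cfsg.Agent.S0224

/-- Let H be a proper subgroup of even order of the finite group G. Then H is strongly embedded if and only if each involution of H fixes exactly one point (namely the coset H) in the action of G on the cosets of H. -/
theorem result {G : Type*} [Group G] [Finite G] (H : Subgroup G) (hH : H ≠ ⊤) (heven : Even (Nat.card H)) : Cfsg.IsStronglyEmbedded H ↔ ∀ t ∈ H, orderOf t = 2 → Nat.card {c : G ⧸ H // t • c = c} = 1 := by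
  rw [Lead.stronglyEmbedded_iff H hH heven]
  have hfix : ∀ t g : G, t • ((g : G) : G ⧸ H) = (g : G ⧸ H) ↔ g⁻¹ * t * g ∈ H := by
    intro t g
    rw [MulAction.Quotient.smul_mk, eq_comm, QuotientGroup.eq, smul_eq_mul, ← mul_assoc]
  constructor
  · intro h t ht ht2
    rw [Nat.card_eq_one_iff_unique]
    refine ⟨⟨?_⟩, ⟨⟨((1 : G) : G ⧸ H), ?_⟩⟩⟩
    · rintro ⟨c, hc⟩ ⟨c', hc'⟩
      apply Subtype.ext
      show c = c'
      have key : ∀ d : G ⧸ H, t • d = d → d = ((1 : G) : G ⧸ H) := by
        intro d hd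
        obtain ⟨g, rfl⟩ := QuotientGroup.mk_surjective d
        rw [hfix] at hd
        have hg : g⁻¹ ∈ H := h g⁻¹ t ht ht2 (by rw [inv_inv]; exact hd)
        rw [eq_comm, QuotientGroup.eq, inv_one, one_mul]
        exact H.inv_mem_iff.mp hg
      rw [key c hc, key c' hc']
    · rw [hfix]; simp only [inv_one, one_mul, mul_one]; exact ht
  · intro h g t ht ht2 hgt
    have h1 := h (g * t * g⁻¹) hgt (by rw [Lead.orderOf_conj_eq]; exact ht2)
    rw [Nat.card_eq_one_iff_unique] at h1
    obtain ⟨hsub, -⟩ := h1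
    have f1 : (g * t * g⁻¹) • ((1 : G) : G ⧸ H) = ((1 : G) : G ⧸ H) := by
      rw [hfix]; simp only [inv_one, one_mul, mul_one]; exact hgt
    have f2 : (g * t * g⁻¹) • ((g : G) : G ⧸ H) = ((g : G) : G ⧸ H) := by
      rw [hfix]
      have e : g⁻¹ * (g * t * g⁻¹) * g = t := by group
      rw [e]; exact ht
    have h2 := hsub.elim ⟨_, f1⟩ ⟨_, f2⟩
    have h3 : ((1 : G) : G ⧸ H) = ((g : G) : G ⧸ H) := congrArg Subtype.val h2
    rw [QuotientGroup.eq, inv_one, one_mul] at h3
    exact h3


end Cfsg.Agent.S0224
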