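import Cfsg.Statements.S0233
import Mathlib

set_option autoImplicit false
open Cfsg

namespace Cfsg.Agent.S0233

/-- the extended centraliser of `g` -/
def cstar {G : Type*} [Group G] (g : G) : Subgroup G where
  carrier := {x | x * g * x⁻¹ = g ∨ x * g * x⁻¹ = g⁻¹}
  one_mem' := Or.inl (by simp)
  mul_mem' := by
    intro x y hx hy
    have e : x * y * g * (x * y)⁻¹ = x * (y * g * y⁻¹) * x⁻¹ := by group
    have e' : x * g⁻¹ * x⁻¹ = (x * g * x⁻¹)⁻¹ := by group
    rcases hx with hx | hx <;> rcases hy with hy | hy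
    · left; rw [e, hy, hx]
    · right; rw [e, hy, e', hx]
    · right; rw [e, hy, hx]
    · left; rw [e, hy, e', hx, inv_inv]
  inv_mem' := by
    intro x hx
    rcases hx with hx | hx
    · left
      have : x⁻¹ * (x * g * x⁻¹) * x⁻¹⁻¹ = g := by group
      rw [hx] at this; exact this
    · right
      have h1 : x⁻¹ * (x * g * x⁻¹) * x⁻¹⁻¹ = g := by group
      rw [hx] at h1
      have h2 : x⁻¹ * g * x⁻¹⁻¹ = (x⁻¹ * g⁻¹ * x⁻¹⁻¹)⁻¹ := by group
      rw [h2, h1]

/-- Let G be a finite group of even order with exactly n involutions whose centre has odd order, and put a = |G|/n. Then G has a proper subgroup H with |G : H| = 2 or |G : H| < a(a+1)/2; over ℕ the latter reads 2·|G:H|·n² < |G|·(|G| + n). -/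
theorem result {G : Type*} [Group G] [Finite G] (heven : Even (Nat.card G)) (hZ : Odd (Nat.card (Subgroup.center G))) : ∃ H : Subgroup G, H ≠ ⊤ ∧ (H.index = 2 ∨ 2 * H.index * (Nat.card {t : G // orderOf t = 2}) ^ 2 < Nat.card G * (Nat.card G + Nat.card {t : G // orderOf t = 2})) := by
  classical
  haveI : Fintype G := Fintype.ofFinite G
  haveI : Fact (Nat.Prime 2) := ⟨Nat.prime_two⟩
  by_contra hcon
  push Not at hcon
  obtain ⟨I, hI⟩ : ∃ I : Finset G, ∀ t, t ∈ I ↔ orderOf t = 2 :=
    ⟨Finset.univ.filter (fun t => orderOf t = 2), by simp⟩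
  obtain ⟨n, hn⟩ : ∃ n : ℕ, n = Nat.card {t : G // orderOf t = 2} := ⟨_, rfl⟩
  have hnI : I.card = n := by
    rw [hn, Nat.card_eq_fintype_card, Fintype.card_subtype]
    congr 1
    ext t; simp [hI]
  obtain ⟨N, hN⟩ : ∃ N : ℕ, N = Nat.card G := ⟨_, rfl⟩
  rw [← hn, ← hN] at hcon
  have hNpos : 0 < N := hN ▸ Nat.card_pos
  have hn1 : 1 ≤ n := by
    obtain ⟨t, ht⟩ := exists_prime_orderOf_dvd_card' 2 (even_iff_two_dvd.mp heven)
    rw [← hnI]
    exact Finset.card_pos.mpr ⟨t, (hI t).mpr ht⟩
  have hIsq : ∀ t ∈ I, t * t = 1 := by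
    intro t ht
    rw [← pow_two, ← (hI t).mp ht]; exact pow_orderOf_eq_one t
  have hIne : ∀ t ∈ I, t ≠ 1 := by
    intro t ht h; have := (hI t).mp ht; rw [h, orderOf_one] at this; omega
  have hIinv : ∀ t ∈ I, t⁻¹ = t := fun t ht => inv_eq_of_mul_eq_one_left (hIsq t ht)
  have hImem : ∀ t : G, t ≠ 1 → t * t = 1 → t ∈ I := by
    intro t h1 h2
    rw [hI]
    exact orderOf_eq_prime (by rw [pow_two]; exact h2) h1
  obtain ⟨β, hβ⟩ : ∃ β : G → ℕ, ∀ g, β g = ((I ×ˢ I).filter (fun p => p.1 * p.2 = g)).card :=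
    ⟨fun g => ((I ×ˢ I).filter (fun p => p.1 * p.2 = g)).card, fun _ => rfl⟩
  have hsum : ∑ g : G, β g = n ^ 2 := by
    simp_rw [hβ]
    rw [← Finset.card_eq_sum_card_fiberwise (f := fun p : G × G => p.1 * p.2) (s := I ×ˢ I)
      (t := Finset.univ) (fun _ _ => Finset.mem_univ _), Finset.card_product, hnI, pow_two]
  -- membership in the fibre
  have hfib : ∀ g : G, ∀ p ∈ (I ×ˢ I).filter (fun p => p.1 * p.2 = g),
      p.1 ∈ I ∧ p.2 ∈ I ∧ p.1 * p.2 = g := by
    intro g p hp
    rw [Finset.mem_filter, Finset.mem_product] at hp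
    exact ⟨hp.1.1, hp.1.2, hp.2⟩
  have hinj : ∀ g : G, ∀ p ∈ (I ×ˢ I).filter (fun p => p.1 * p.2 = g),
      ∀ q ∈ (I ×ˢ I).filter (fun p => p.1 * p.2 = g), p.1 = q.1 → p = q := by
    intro g p hp q hq hpq
    have h2 : p.2 = q.2 := by
      have := (hfib g p hp).2.2.trans (hfib g q hq).2.2.symm
      rw [hpq] at this
      exact mul_left_cancel this
    exact Prod.ext hpq h2
  -- conjugation by the first factor inverts the product
  have hconj : ∀ s ∈ I, ∀ t ∈ I, s * (s * t) * s⁻¹ = (s * t)⁻¹ := by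
    intro s hs t ht
    rw [mul_inv_rev, hIinv s hs, hIinv t ht, ← mul_assoc, hIsq s hs, one_mul]
  have hb1 : β 1 ≤ n := by
    rw [← hnI, hβ]
    apply Finset.card_le_card_of_injOn (fun p => p.1)
    · intro p hp
      exact (hfib 1 p (Finset.mem_coe.mp hp)).1
    · intro p hp q hq hpq
      exact hinj 1 p (Finset.mem_coe.mp hp) q (Finset.mem_coe.mp hq) hpq
  obtain ⟨A, hA⟩ : ∃ A : ℕ, A = N + n := ⟨_, rfl⟩
  rw [← hA] at hcon
  -- centraliser finsets
  have hcard_sub : ∀ H : Subgroup G, Nat.card H = (Finset.univ.filter (fun x => x ∈ H)).card := by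
    intro H
    rw [Nat.card_eq_fintype_card, Fintype.card_subtype]
  have hb2 : ∀ g ∈ I, (β g + 2) * A ≤ 2 * n ^ 2 := by
    intro g hg
    obtain ⟨C, hC⟩ : ∃ C : Subgroup G, C = Subgroup.centralizer ({g} : Set G) := ⟨_, rfl⟩
    have hCtop : C ≠ ⊤ := by
      intro htop
      have hgc : g ∈ Subgroup.center G := by
        rw [Subgroup.mem_center_iff]
        intro x
        have hx : x ∈ C := by rw [htop]; trivial
        rw [hC, Subgroup.mem_centralizer_singleton_iff] at hx
        exact hx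
      have h2 : orderOf (⟨g, hgc⟩ : Subgroup.center G) = 2 := by
        rw [← (hI g).mp hg]
        exact Subgroup.orderOf_mk g hgc
      have h3 : 2 ∣ Nat.card (Subgroup.center G) := h2 ▸ orderOf_dvd_natCard _
      exact (Nat.not_even_iff_odd.mpr hZ) (even_iff_two_dvd.mpr h3)
    have h1 := (hcon C hCtop).2
    have h2 : Nat.card C * C.index = N := by rw [hN]; exact Subgroup.card_mul_index C
    have h3 : β g + 2 ≤ Nat.card C := by
      rw [hcard_sub C, hβ]
      have hgC : g ∈ Finset.univ.filter (fun x => x ∈ C) := by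
        rw [Finset.mem_filter]
        refine ⟨Finset.mem_univ _, ?_⟩
        rw [hC, Subgroup.mem_centralizer_singleton_iff]
      have h1C : (1 : G) ∈ (Finset.univ.filter (fun x => x ∈ C)).erase g := by
        rw [Finset.mem_erase]
        refine ⟨(hIne g hg).symm, ?_⟩
        rw [Finset.mem_filter]
        exact ⟨Finset.mem_univ _, C.one_mem⟩
      have hle : ((I ×ˢ I).filter (fun p => p.1 * p.2 = g)).card ≤
          (((Finset.univ.filter (fun x => x ∈ C)).erase g).erase 1).card := by
        apply Finset.card_le_card_of_injOn (fun p => p.1)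
        · intro p hp
          obtain ⟨hs, ht, hst⟩ := hfib g p (Finset.mem_coe.mp hp)
          rw [Finset.mem_coe, Finset.mem_erase, Finset.mem_erase, Finset.mem_filter]
          refine ⟨hIne _ hs, ?_, Finset.mem_univ _, ?_⟩
          · intro hsg
            apply hIne _ ht
            have hsg' : p.1 = g := hsg
            have : p.1 * p.2 = p.1 * 1 := by rw [mul_one, hst, ← hsg']
            exact mul_left_cancel this
          · rw [hC, Subgroup.mem_centralizer_singleton_iff]
            -- p.1 * g = g * p.1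
            have h5 := hconj p.1 hs p.2 ht
            rw [hst, hIinv g hg] at h5
            calc p.1 * g = p.1 * g * p.1⁻¹ * p.1 := by group
              _ = g * p.1 := by rw [h5]
        · intro p hp q hq hpq
          exact hinj g p (Finset.mem_coe.mp hp) q (Finset.mem_coe.mp hq) hpq
      rw [Finset.card_erase_of_mem h1C, Finset.card_erase_of_mem hgC] at hle
      have hpos : 2 ≤ (Finset.univ.filter (fun x => x ∈ C)).card := by
        have := Finset.card_pos.mpr ⟨1, h1C⟩
        rw [Finset.card_erase_of_mem hgC] at this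
        omega
      omega
    -- (β g + 2) * A * N ≤ card C * A * N ≤ card C * 2 * idx * n^2 = 2 n^2 N
    have h4 : (β g + 2) * A * N ≤ 2 * n ^ 2 * N := by
      calc (β g + 2) * A * N ≤ Nat.card C * A * N := by
            exact Nat.mul_le_mul_right _ (Nat.mul_le_mul_right _ h3)
        _ = Nat.card C * (N * A) := by ring
        _ ≤ Nat.card C * (2 * C.index * n ^ 2) := Nat.mul_le_mul_left _ h1
        _ = 2 * n ^ 2 * (Nat.card C * C.index) := by ring
        _ = 2 * n ^ 2 * N := by rw [h2]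
    exact Nat.le_of_mul_le_mul_right h4 hNpos
  have hb3 : ∀ g : G, g ≠ 1 → g ∉ I → β g * A ≤ n ^ 2 := by
    intro g hg1 hgI
    by_cases hempty : (I ×ˢ I).filter (fun p => p.1 * p.2 = g) = ∅
    · rw [hβ, hempty, Finset.card_empty, zero_mul]; exact Nat.zero_le _
    obtain ⟨p₀, hp₀⟩ := Finset.nonempty_iff_ne_empty.mpr hempty
    obtain ⟨hs₀, ht₀, hst₀⟩ := hfib g p₀ hp₀
    obtain ⟨s₀, hs₀def⟩ : ∃ s₀ : G, s₀ = p₀.1 := ⟨_, rfl⟩
    have hs₀g : s₀ * g * s₀⁻¹ = g⁻¹ := by
      have := hconj p₀.1 hs₀ p₀.2 ht₀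
      rw [hst₀] at this
      rw [hs₀def]; exact this
    have hgne : g ≠ g⁻¹ := by
      intro h
      apply hgI
      apply hImem g hg1
      nth_rewrite 2 [h]
      exact mul_inv_cancel g
    obtain ⟨C, hC⟩ : ∃ C : Subgroup G, C = Subgroup.centralizer ({g} : Set G) := ⟨_, rfl⟩
    have hCmem : ∀ x : G, x ∈ C ↔ x * g * x⁻¹ = g := by
      intro x
      rw [hC, Subgroup.mem_centralizer_singleton_iff]
      constructor
      · intro h; rw [h]; group
      · intro h
        calc x * g = x * g * x⁻¹ * x := by group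
          _ = g * x := by rw [h]
    have hs₀C : s₀ ∉ C := by
      intro h
      rw [hCmem, hs₀g] at h
      exact hgne h.symm
    have hCtop : C ≠ ⊤ := by
      intro htop; apply hs₀C; rw [htop]; trivial
    have hCidx := (hcon C hCtop).1
    -- the extended centraliser
    have hSmem : ∀ x : G, x ∈ cstar g ↔ (x * g * x⁻¹ = g ∨ x * g * x⁻¹ = g⁻¹) := fun x => Iff.rfl
    have hStop : cstar g ≠ ⊤ := by
      intro htop
      apply hCidx
      rw [Subgroup.index_eq_two_iff]
      refine ⟨s₀, ?_⟩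
      intro b
      have hb : b ∈ cstar g := by rw [htop]; trivial
      have e : b * s₀ * g * (b * s₀)⁻¹ = b * (s₀ * g * s₀⁻¹) * b⁻¹ := by group
      have e' : b * g⁻¹ * b⁻¹ = (b * g * b⁻¹)⁻¹ := by group
      rcases (hSmem b).mp hb with h | h
      · right
        refine ⟨(hCmem b).mpr h, ?_⟩
        rw [hCmem, e, hs₀g, e', h]
        exact fun h' => hgne h'.symm
      · left
        refine ⟨?_, ?_⟩
        · rw [hCmem, e, hs₀g, e', h, inv_inv]
        · rw [hCmem, h]; exact fun h' => hgne h'.symm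
    have h1 := (hcon (cstar g) hStop).2
    have h2 : Nat.card (cstar g) * (cstar g).index = N := by
      rw [hN]; exact Subgroup.card_mul_index _
    -- 2 * β g ≤ card (cstar g)
    obtain ⟨T, hT⟩ : ∃ T : Finset G, ∀ x, x ∈ T ↔ x * g * x⁻¹ = g⁻¹ :=
      ⟨Finset.univ.filter (fun x => x * g * x⁻¹ = g⁻¹), by simp⟩
    obtain ⟨Cf, hCf⟩ : ∃ Cf : Finset G, ∀ x, x ∈ Cf ↔ x * g * x⁻¹ = g :=
      ⟨Finset.univ.filter (fun x => x * g * x⁻¹ = g), by simp⟩
    have hβT : β g ≤ T.card := by
      rw [hβ]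
      apply Finset.card_le_card_of_injOn (fun p => p.1)
      · intro p hp
        obtain ⟨hs, ht, hst⟩ := hfib g p (Finset.mem_coe.mp hp)
        rw [Finset.mem_coe, hT]
        have := hconj p.1 hs p.2 ht
        rw [hst] at this
        exact this
      · intro p hp q hq hpq
        exact hinj g p (Finset.mem_coe.mp hp) q (Finset.mem_coe.mp hq) hpq
    have hTC : T.card ≤ Cf.card := by
      apply Finset.card_le_card_of_injOn (fun x => s₀⁻¹ * x)
      · intro x hx
        rw [Finset.mem_coe, hT] at hx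
        rw [Finset.mem_coe, hCf]
        have e : s₀⁻¹ * x * g * (s₀⁻¹ * x)⁻¹ = s₀⁻¹ * (x * g * x⁻¹) * s₀⁻¹⁻¹ := by group
        rw [e, hx, ← hs₀g]; group
      · intro x _ y _ hxy
        exact mul_left_cancel hxy
    have hdisj : Disjoint Cf T := by
      rw [Finset.disjoint_left]
      intro x hx1 hx2
      rw [hCf] at hx1
      rw [hT] at hx2
      exact hgne (hx1.symm.trans hx2)
    have hunion : (Cf ∪ T).card ≤ Nat.card (cstar g) := by
      rw [hcard_sub (cstar g)]
      apply Finset.card_le_card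
      intro x hx
      rw [Finset.mem_filter]
      refine ⟨Finset.mem_univ _, ?_⟩
      rw [hSmem]
      rcases Finset.mem_union.mp hx with h | h
      · exact Or.inl ((hCf x).mp h)
      · exact Or.inr ((hT x).mp h)
    rw [Finset.card_union_of_disjoint hdisj] at hunion
    have h3 : 2 * β g ≤ Nat.card (cstar g) := by omega
    have h4 : β g * A * N ≤ n ^ 2 * N := by
      have h5 : 2 * (β g * A * N) ≤ 2 * (n ^ 2 * N) := by
        calc 2 * (β g * A * N) = (2 * β g) * (N * A) := by ring
          _ ≤ Nat.card (cstar g) * (2 * (cstar g).index * n ^ 2) := Nat.mul_le_mul h3 h1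
          _ = 2 * n ^ 2 * (Nat.card (cstar g) * (cstar g).index) := by ring
          _ = 2 * (n ^ 2 * N) := by rw [h2]; ring
      omega
    exact Nat.le_of_mul_le_mul_right h4 hNpos
  -- summation
  have hterm : ∀ g : G, β g * A + (if g ∈ I then 2 * A else 0) ≤
      n ^ 2 + (if g = 1 then n * A else 0) + (if g ∈ I then n ^ 2 else 0) := by
    intro g
    by_cases hg1 : g = 1
    · have hgI : g ∉ I := fun h => hIne g h hg1
      rw [if_neg hgI, if_pos hg1, if_neg hgI, hg1]
      have := Nat.mul_le_mul_right A hb1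
      omega
    · by_cases hgI : g ∈ I
      · rw [if_pos hgI, if_neg hg1, if_pos hgI]
        have := hb2 g hgI
        have e : (β g + 2) * A = β g * A + 2 * A := by ring
        omega
      · rw [if_neg hgI, if_neg hg1, if_neg hgI]
        have := hb3 g hg1 hgI
        omega
  have hS := Finset.sum_le_sum (fun g (_ : g ∈ (Finset.univ : Finset G)) => hterm g)
  rw [Finset.sum_add_distrib, Finset.sum_add_distrib, Finset.sum_add_distrib, ← Finset.sum_mul, hsum] at hS
  have hs1 : ∑ g : G, (if g ∈ I then 2 * A else 0) = n * (2 * A) := by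
    rw [← Finset.sum_filter, Finset.filter_mem_eq_inter, Finset.univ_inter, Finset.sum_const, hnI,
      smul_eq_mul]
  have hs2 : ∑ g : G, (if g ∈ I then n ^ 2 else 0) = n * n ^ 2 := by
    rw [← Finset.sum_filter, Finset.filter_mem_eq_inter, Finset.univ_inter, Finset.sum_const, hnI,
      smul_eq_mul]
  have hs3 : ∑ g : G, (if g = 1 then n * A else 0) = n * A := by
    rw [Finset.sum_ite_eq' Finset.univ (1 : G) (fun _ => n * A)]
    simp
  have hs4 : ∑ _g : G, n ^ 2 = N * n ^ 2 := by
    rw [Finset.sum_const, smul_eq_mul, Finset.card_univ, hN, Nat.card_eq_fintype_card]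
  rw [hs1, hs2, hs3, hs4] at hS
  -- n^2 * A + n * (2*A) ≤ N * n^2 + n * A + n * n^2
  have hnA : 0 < n * A := Nat.mul_pos hn1 (by omega)
  have e1 : N * n ^ 2 + n * n ^ 2 = n ^ 2 * A := by rw [hA]; ring
  have e2 : n * (2 * A) = n * A + n * A := by ring
  omega


end Cfsg.Agent.S0233
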