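import Cfsg.Statements.S0647
import Mathlib
-- import your own Cfsg.Agent.* helpers here

set_option autoImplicit false
open Cfsg

namespace Cfsg.Agent.S0647

/-- For a nonempty family of maximal abelian subgroups of a finite group, the intersection of the family is the centre of the subgroup it generates, which is also the full centralizer of that subgroup. -/
theorem result {S : Type*} [Group S] [Finite S] (𝒜 : Set (Subgroup S)) (hne : 𝒜.Nonempty) (hab : ∀ A ∈ 𝒜, IsMulCommutative A) (hmax : ∀ A ∈ 𝒜, ∀ B : Subgroup S, IsMulCommutative B → A ≤ B → B = A) : sInf 𝒜 = sSup 𝒜 ⊓ Subgroup.centralizer ((sSup 𝒜 : Subgroup S) : Set S) ∧ sInf 𝒜 = Subgroup.centralizer ((sSup 𝒜 : Subgroup S) : Set S) := by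
  classical
  have hZC : sInf 𝒜 ≤ Subgroup.centralizer ((sSup 𝒜 : Subgroup S) : Set S) := by
    intro z hz
    have hJ : sSup 𝒜 ≤ Subgroup.centralizer ({z} : Set S) := by
      apply sSup_le
      intro A hA a ha
      rw [Subgroup.mem_centralizer_iff]
      intro y hy
      rw [Set.mem_singleton_iff] at hy
      rw [hy]
      have hzA : z ∈ A := (Subgroup.mem_sInf.mp hz) A hA
      have := (hab A hA).is_comm.comm ⟨z, hzA⟩ ⟨a, ha⟩
      exact congrArg Subtype.val this
    rw [Subgroup.mem_centralizer_iff]
    intro h hh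
    have := hJ hh
    rw [Subgroup.mem_centralizer_iff] at this
    exact (this z (Set.mem_singleton z)).symm
  have hCZ : Subgroup.centralizer ((sSup 𝒜 : Subgroup S) : Set S) ≤ sInf 𝒜 := by
    intro c hc
    rw [Subgroup.mem_sInf]
    intro A hA
    have hcA : ∀ a ∈ A, a * c = c * a := by
      intro a ha
      rw [Subgroup.mem_centralizer_iff] at hc
      exact hc a ((le_sSup hA : A ≤ sSup 𝒜) ha)
    have hB : IsMulCommutative (Subgroup.closure ((A : Set S) ∪ {c})) := by
      apply Subgroup.isMulCommutative_closure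
      intro x hx y hy
      rcases hx with hx | hx <;> rcases hy with hy | hy
      · exact congrArg Subtype.val ((hab A hA).is_comm.comm ⟨x, hx⟩ ⟨y, hy⟩)
      · rw [Set.mem_singleton_iff] at hy; rw [hy]; exact hcA x hx
      · rw [Set.mem_singleton_iff] at hx; rw [hx]; exact (hcA y hy).symm
      · rw [Set.mem_singleton_iff] at hx hy; rw [hx, hy]
    have hAB : A ≤ Subgroup.closure ((A : Set S) ∪ {c}) := fun a ha =>
      Subgroup.subset_closure (Or.inl ha)
    have := hmax A hA _ hB hAB
    rw [← this]
    exact Subgroup.subset_closure (Or.inr (Set.mem_singleton c))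
  have hZ : sInf 𝒜 = Subgroup.centralizer ((sSup 𝒜 : Subgroup S) : Set S) := le_antisymm hZC hCZ
  refine ⟨?_, hZ⟩
  obtain ⟨A₀, hA₀⟩ := hne
  apply le_antisymm
  · exact le_inf (le_trans (sInf_le hA₀) (le_sSup hA₀)) hZC
  · exact le_trans inf_le_right hCZ

end Cfsg.Agent.S0647
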