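import Cfsg.Statements.S0652
import Cfsg.Agent.Helper3.GlaubFam

set_option autoImplicit false
open Cfsg

namespace Cfsg.Agent.S0652

/-- For odd p and D normal in the p-group S, the elementary abelian subgroups of D of largest order satisfy the replacement property for class-2 normal subgroups of S. -/
theorem result {S : Type*} [Group S] [Finite S] {p : ℕ} [Fact p.Prime] (hS : IsPGroup p S) (hp : p ≠ 2) (D : Subgroup S) [D.Normal] : ∀ (B : Subgroup S) [B.Normal], ⁅⁅B, B⁆, B⁆ = ⊥ → (∃ U ∈ (Set.image (fun A : Subgroup ↥D => A.map D.subtype) (Cfsg.maxElementaryAbelianSubgroups p ↥D)), ⁅B, B⁆ ≤ U ∧ ¬ B ≤ U) → ∃ A ∈ (Set.image (fun A : Subgroup ↥D => A.map D.subtype) (Cfsg.maxElementaryAbelianSubgroups p ↥D)), ⁅B, B⁆ ≤ A ∧ ¬ B ≤ A ∧ B ≤ Subgroup.normalizer (A : Set S) := by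
  intro B _ _ hU
  refine Helper3.GR.repl_family hS hp _ ?_ B ?_ hU
  · rintro _ ⟨A0, hA0, rfl⟩ x hx y hy
    obtain ⟨x0, hx0, rfl⟩ := hx
    obtain ⟨y0, hy0, rfl⟩ := hy
    haveI := hA0.1.1
    have h0 := congrArg Subtype.val (mul_comm' (⟨x0, hx0⟩ : A0) ⟨y0, hy0⟩)
    have h1 := congrArg Subtype.val h0
    exact h1
  · rintro _ ⟨A0, hA0, rfl⟩ b h hbA
    have hle : Helper3.GR.star (A0.map D.subtype) b ≤ D :=
      Helper3.GR.star_le_of_normal D h (Subgroup.map_subtype_le _)
    have hE0 : Cfsg.IsElementaryAbelian p (A0.map D.subtype) := Helper3.elemAb_map hA0.1 _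
    have hE : Cfsg.IsElementaryAbelian p (Helper3.GR.star (A0.map D.subtype) b) :=
      Helper3.elemAb_mk (h.star_comm hS (fun h2 => absurd h2 hp)) (h.star_pow hS hp hE0.2)
    refine ⟨(Helper3.GR.star (A0.map D.subtype) b).subgroupOf D,
      ⟨Helper3.elemAb_comap_of_injective hE D.subtype D.subtype_injective, ?_⟩,
      Subgroup.map_subgroupOf_eq_of_le hle⟩
    intro C hC
    rw [Nat.card_congr (Subgroup.subgroupOfEquivOfLe hle).toEquiv, h.card_star,
      Subgroup.card_map_of_injective D.subtype_injective]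
    exact hA0.2 C hC

end Cfsg.Agent.S0652
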