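import Cfsg.Statements.S0655
import Mathlib
import Cfsg.Agent.Helper6.ThompsonJ
-- import your own Cfsg.Agent.* helpers here

set_option autoImplicit false
open Cfsg

namespace Cfsg.Agent.S0655


theorem mem_of_centralizes {G : Type*} [Group G] [Finite G] (p : ℕ) (A : Subgroup G)
    (hA : A ∈ Cfsg.maxElementaryAbelianSubgroups p G) (x : G)
    (hxA : ∀ a ∈ A, a * x = x * a) (hxp : x ^ p = 1) : x ∈ A := by
  classical
  have hcomm : ∀ y ∈ (A : Set G) ∪ {x}, ∀ z ∈ (A : Set G) ∪ {x}, y * z = z * y := by
    intro y hy z hz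
    rcases hy with hy | hy <;> rcases hz with hz | hz
    · exact congrArg Subtype.val (hA.1.1.is_comm.comm ⟨y, hy⟩ ⟨z, hz⟩)
    · rw [Set.mem_singleton_iff] at hz; rw [hz]; exact hxA y hy
    · rw [Set.mem_singleton_iff] at hy; rw [hy]; exact (hxA z hz).symm
    · rw [Set.mem_singleton_iff] at hy hz; rw [hy, hz]
  have hB : IsMulCommutative (Subgroup.closure ((A : Set G) ∪ {x})) :=
    Subgroup.isMulCommutative_closure hcomm
  have hBe : Cfsg.IsElementaryAbelian p (Subgroup.closure ((A : Set G) ∪ {x})) := by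
    refine ⟨hB, ?_⟩
    intro b hb
    induction hb using Subgroup.closure_induction with
    | mem y hy =>
      rcases hy with hy | hy
      · exact hA.1.2 y hy
      · rw [Set.mem_singleton_iff] at hy; rw [hy]; exact hxp
    | one => exact one_pow p
    | mul y z hy hz ihy ihz =>
      have hc : Commute y z := congrArg Subtype.val (hB.is_comm.comm ⟨y, hy⟩ ⟨z, hz⟩)
      rw [hc.mul_pow, ihy, ihz, one_mul]
    | inv y hy ih => rw [inv_pow, ih, inv_one]
  have hAB : A ≤ Subgroup.closure ((A : Set G) ∪ {x}) := fun a ha =>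
    Subgroup.subset_closure (Or.inl ha)
  have hcard := hA.2 _ hBe
  have := Subgroup.eq_of_le_of_card_ge hAB hcard
  rw [this]
  exact Subgroup.subset_closure (Or.inr (Set.mem_singleton x))

/-- In a p-group the intersection of all elementary abelian subgroups of largest order is the subgroup generated by the elements of order dividing p in the centre (equivalently the centralizer) of the elementary-version Thompson subgroup. -/
theorem result {S : Type*} [Group S] [Finite S] {p : ℕ} [Fact p.Prime] (hS : IsPGroup p S) : sInf (Cfsg.maxElementaryAbelianSubgroups p S) = Cfsg.omegaCenterThompson p S ∧ Cfsg.omegaCenterThompson p S = Cfsg.omegaOne p (Subgroup.centralizer (Cfsg.thompsonSubgroup p S : Set S)) := by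
  classical
  obtain ⟨A₀, hA₀⟩ := Cfsg.Agent.Helper6.exists_maxElemAb p S
  have h1 : sInf (Cfsg.maxElementaryAbelianSubgroups p S) ≤ Cfsg.omegaCenterThompson p S := by
    intro z hz
    rw [Subgroup.mem_sInf] at hz
    show z ∈ Subgroup.closure {x : S | x ∈ Cfsg.thompsonSubgroup p S ⊓
      Subgroup.centralizer (Cfsg.thompsonSubgroup p S : Set S) ∧ x ^ p = 1}
    apply Subgroup.subset_closure
    refine ⟨Subgroup.mem_inf.mpr
      ⟨Cfsg.Agent.Helper6.maxElemAb_le_thompson p A₀ hA₀ (hz A₀ hA₀), ?_⟩,
      hA₀.1.2 z (hz A₀ hA₀)⟩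
    have hJ : Cfsg.thompsonSubgroup p S ≤ Subgroup.centralizer ({z} : Set S) := by
      apply Cfsg.Agent.Helper6.thompson_le_of_forall
      intro A hA a ha
      rw [Subgroup.mem_centralizer_iff]
      intro y hy
      rw [Set.mem_singleton_iff] at hy
      rw [hy]
      exact congrArg Subtype.val (hA.1.1.is_comm.comm ⟨z, hz A hA⟩ ⟨a, ha⟩)
    rw [Subgroup.mem_centralizer_iff]
    intro h hh
    have := hJ hh
    rw [Subgroup.mem_centralizer_iff] at this
    exact (this z (Set.mem_singleton z)).symm
  have h2 : Cfsg.omegaCenterThompson p S ≤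
      Cfsg.omegaOne p (Subgroup.centralizer (Cfsg.thompsonSubgroup p S : Set S)) := by
    unfold Cfsg.omegaCenterThompson Cfsg.omegaOne
    apply Subgroup.closure_mono
    rintro x ⟨hx, hxp⟩
    exact ⟨(Subgroup.mem_inf.mp hx).2, hxp⟩
  have h3 : Cfsg.omegaOne p (Subgroup.centralizer (Cfsg.thompsonSubgroup p S : Set S)) ≤
      sInf (Cfsg.maxElementaryAbelianSubgroups p S) := by
    unfold Cfsg.omegaOne
    rw [Subgroup.closure_le]
    rintro x ⟨hx, hxp⟩
    rw [SetLike.mem_coe, Subgroup.mem_sInf]
    intro A hA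
    apply mem_of_centralizes p A hA x _ hxp
    intro a ha
    rw [Subgroup.mem_centralizer_iff] at hx
    exact hx a (Cfsg.Agent.Helper6.maxElemAb_le_thompson p A hA ha)
  exact ⟨le_antisymm h1 (le_trans h2 h3), le_antisymm h2 (le_trans h3 h1)⟩

end Cfsg.Agent.S0655
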