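import Cfsg.Statements.S0663
import Mathlib
import Cfsg.Agent.S3803

set_option autoImplicit false
open Cfsg

namespace Cfsg.Agent.S0663

open scoped commutatorElement

theorem card_mul_relIndex {L : Type*} [Group L] (X Y : Subgroup L) (hXY : X ≤ Y) :
    Nat.card X * X.relIndex Y = Nat.card Y := by
  have h := Subgroup.relIndex_mul_relIndex ⊥ X Y bot_le hXY
  rwa [Subgroup.relIndex_bot_left, Subgroup.relIndex_bot_left] at h

theorem comm_le_of_index_prime {L : Type*} [Group L] {p : ℕ} [Fact p.Prime] (H K : Subgroup L)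
    (hKH : K ≤ H) (hnorm : H ≤ Subgroup.normalizer (K : Set L)) (hidx : K.relIndex H = p) :
    ∀ a ∈ H, ∀ b ∈ H, a * b * a⁻¹ * b⁻¹ ∈ K := by
  intro a ha b hb
  haveI : (K.subgroupOf H).Normal :=
    (Subgroup.normal_subgroupOf_iff_le_normalizer hKH).mpr hnorm
  have hcard : Nat.card (↥H ⧸ K.subgroupOf H) = p := by
    rw [← Subgroup.index_eq_card]; exact hidx
  haveI : IsCyclic (↥H ⧸ K.subgroupOf H) := isCyclic_of_prime_card hcard
  obtain ⟨q, hq⟩ := IsCyclic.exists_generator (α := ↥H ⧸ K.subgroupOf H)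
  obtain ⟨i, hi⟩ := Subgroup.mem_zpowers_iff.mp (hq (QuotientGroup.mk (⟨a, ha⟩ : H)))
  obtain ⟨j, hj⟩ := Subgroup.mem_zpowers_iff.mp (hq (QuotientGroup.mk (⟨b, hb⟩ : H)))
  have h1 : (QuotientGroup.mk ((⟨a, ha⟩ : H) * ⟨b, hb⟩ * (⟨a, ha⟩ : H)⁻¹ * (⟨b, hb⟩ : H)⁻¹) :
      ↥H ⧸ K.subgroupOf H) = 1 := by
    rw [QuotientGroup.mk_mul, QuotientGroup.mk_mul, QuotientGroup.mk_mul, QuotientGroup.mk_inv,
      QuotientGroup.mk_inv, ← hi, ← hj, zpow_mul_comm q i j, mul_inv_cancel_right,
      mul_inv_cancel]
  have h2 := (QuotientGroup.eq_one_iff (N := K.subgroupOf H) _).mp h1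
  exact Subgroup.mem_subgroupOf.mp h2

/-- A p-group acts uniserially on a p-group N of order p^n exactly when the iterated commutator chain from N has length n; in that case the chain terms are all the invariant subgroups of N and they are normal in N. -/
theorem result {L : Type*} [Group L] [Finite L] {p : ℕ} [Fact p.Prime] (N G : Subgroup L) (hN : IsPGroup p N) (hG : IsPGroup p G) (hGN : G ≤ Subgroup.normalizer (N : Set L)) (n : ℕ) (hn : Nat.card N = p ^ n) : ((∀ H : Subgroup L, H ≤ N → G ≤ Subgroup.normalizer (H : Set L) → H ≠ ⊥ → (⁅H, G⁆).relIndex H = p) ↔ Cfsg.iterCommutator N G (n - 1) ≠ ⊥ ∨ n = 0) ∧ ((∀ H : Subgroup L, H ≤ N → G ≤ Subgroup.normalizer (H : Set L) → H ≠ ⊥ → (⁅H, G⁆).relIndex H = p) → ∀ H : Subgroup L, H ≤ N → G ≤ Subgroup.normalizer (H : Set L) → (∃ i ≤ n, H = Cfsg.iterCommutator N G i) ∧ N ≤ Subgroup.normalizer (H : Set L)) := by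
  classical
  have hpp : p.Prime := Fact.out
  obtain ⟨Ns, hNsdef⟩ : ∃ Ns : ℕ → Subgroup L, Ns = Cfsg.iterCommutator N G := ⟨_, rfl⟩
  rw [← hNsdef]
  have hNs0 : Ns 0 = N := by subst hNsdef; rfl
  have hNss : ∀ k, Ns (k + 1) = ⁅Ns k, G⁆ := by intro k; subst hNsdef; rfl
  have hF1 : ∀ H : Subgroup L, G ≤ Subgroup.normalizer (H : Set L) → ⁅H, G⁆ ≤ H := by
    intro H hH
    rw [Subgroup.commutator_le]
    intro h hh g hg
    have h1 : g * h⁻¹ * g⁻¹ ∈ H :=
      ((S3183.mem_normalizer_iff' H g).mp (hH hg) h⁻¹).mp (H.inv_mem hh)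
    have e : ⁅h, g⁆ = h * (g * h⁻¹ * g⁻¹) := by rw [commutatorElement_def]; group
    rw [e]; exact H.mul_mem hh h1
  have hF2a : ∀ H : Subgroup L, G ≤ Subgroup.normalizer (H : Set L) →
      G ≤ Subgroup.normalizer ((⁅H, G⁆ : Subgroup L) : Set L) := by
    intro H hH g hg
    apply S3803.mem_normalizer_of_fwd
    have hle : ⁅H, G⁆ ≤ (⁅H, G⁆ : Subgroup L).comap (MulAut.conj g).toMonoidHom := by
      rw [Subgroup.commutator_le]
      intro h hh g' hg'
      have h1 : g * h * g⁻¹ ∈ H := ((S3183.mem_normalizer_iff' H g).mp (hH hg) h).mp hh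
      have h2 : g * g' * g⁻¹ ∈ G := G.mul_mem (G.mul_mem hg hg') (G.inv_mem hg)
      have e : g * ⁅h, g'⁆ * g⁻¹ = ⁅g * h * g⁻¹, g * g' * g⁻¹⁆ := by
        simp only [commutatorElement_def]; group
      show g * ⁅h, g'⁆ * g⁻¹ ∈ ⁅H, G⁆
      rw [e]; exact Subgroup.commutator_mem_commutator h1 h2
    exact fun y hy => hle hy
  have hF2b : ∀ H : Subgroup L, H ≤ Subgroup.normalizer ((⁅H, G⁆ : Subgroup L) : Set L) := by
    intro H h' hh'
    apply S3803.mem_normalizer_of_fwd
    have hle : ⁅H, G⁆ ≤ (⁅H, G⁆ : Subgroup L).comap (MulAut.conj h').toMonoidHom := by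
      rw [Subgroup.commutator_le]
      intro h hh g hg
      have e : h' * ⁅h, g⁆ * h'⁻¹ = ⁅h' * h, g⁆ * ⁅h', g⁆⁻¹ := by
        simp only [commutatorElement_def]; group
      show h' * ⁅h, g⁆ * h'⁻¹ ∈ ⁅H, G⁆
      rw [e]
      exact Subgroup.mul_mem _ (Subgroup.commutator_mem_commutator (H.mul_mem hh' hh) hg)
        (Subgroup.inv_mem _ (Subgroup.commutator_mem_commutator hh' hg))
    exact fun y hy => hle hy
  have hinv : ∀ k, Ns k ≤ N ∧ G ≤ Subgroup.normalizer (Ns k : Set L) := by
    intro k
    induction k with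
    | zero => rw [hNs0]; exact ⟨le_rfl, hGN⟩
    | succ k ih =>
      rw [hNss]
      exact ⟨(hF1 _ ih.2).trans ih.1, hF2a _ ih.2⟩
  have hstep : ∀ k, Ns (k + 1) ≤ Ns k := by
    intro k; rw [hNss]; exact hF1 _ (hinv k).2
  have hanti : Antitone Ns := antitone_nat_of_succ_le hstep
  have hnorm1 : ∀ k, Ns k ≤ Subgroup.normalizer (Ns (k + 1) : Set L) := by
    intro k; rw [hNss]; exact hF2b _
  have hbotex : ∃ m, Ns m = ⊥ := by
    have hK : IsPGroup p (N ⊔ G : Subgroup L) := hN.to_sup_of_normal_left' hG hGN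
    haveI : Group.IsNilpotent (N ⊔ G : Subgroup L) := hK.isNilpotent
    obtain ⟨m, hm⟩ := (Subgroup.isNilpotent_iff_lowerCentralSeries (N ⊔ G)).mp inferInstance
    refine ⟨m, ?_⟩
    have hle : ∀ k, Ns k ≤ (N ⊔ G).lowerCentralSeries k := by
      intro k
      induction k with
      | zero => rw [hNs0, Subgroup.lowerCentralSeries_zero]; exact le_sup_left
      | succ k ih =>
        rw [hNss, Subgroup.lowerCentralSeries_succ]
        exact Subgroup.commutator_mono ih le_sup_right
    have h1 := hle m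
    rw [hm] at h1
    exact le_bot_iff.mp h1
  have hstrict : ∀ i, Ns i ≠ ⊥ → Ns (i + 1) ≠ Ns i := by
    intro i hne heq
    obtain ⟨m, hm⟩ := hbotex
    have hconst : ∀ k, Ns (i + k) = Ns i := by
      intro k
      induction k with
      | zero => rfl
      | succ k ih =>
        have e : i + (k + 1) = (i + k) + 1 := by omega
        rw [e, hNss, ih, ← hNss, heq]
    have h1 : Ns (i + m) ≤ Ns m := hanti (by omega)
    rw [hconst m, hm] at h1
    exact hne (le_bot_iff.mp h1)
  have hcardN : ∀ k, ∃ a, a ≤ n ∧ Nat.card (Ns k) = p ^ a := by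
    intro k
    have hd : Nat.card (Ns k) ∣ p ^ n := by
      rw [← hn]; exact Subgroup.card_dvd_of_le (hinv k).1
    exact (Nat.dvd_prime_pow hpp).mp hd
  choose a ha1 ha2 using hcardN
  have ha0 : a 0 = n := by
    have h := ha2 0
    rw [hNs0, hn] at h
    exact (Nat.pow_right_injective hpp.two_le h).symm
  have hamono : ∀ k, a (k + 1) ≤ a k := by
    intro k
    have h := Subgroup.card_le_of_le (hstep k)
    rw [ha2, ha2] at h
    exact (Nat.pow_le_pow_iff_right hpp.one_lt).mp h
  have habot : ∀ k, Ns k = ⊥ ↔ a k = 0 := by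
    intro k
    constructor
    · intro h
      have h2 := ha2 k
      rw [h, Subgroup.card_bot] at h2
      by_contra hne
      have h3 : 1 < p ^ a k := Nat.one_lt_pow hne hpp.one_lt
      omega
    · intro h
      apply Subgroup.eq_bot_of_card_eq
      rw [ha2, h, pow_zero]
  have hastrict : ∀ k, Ns k ≠ ⊥ → a (k + 1) < a k := by
    intro k hk
    rcases Nat.lt_or_ge (a (k + 1)) (a k) with h | h
    · exact h
    · exfalso
      apply hstrict k hk
      apply Subgroup.eq_of_le_of_card_ge (hstep k)
      rw [ha2, ha2]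
      exact Nat.pow_le_pow_right hpp.pos h
  have hmain : (∀ i, i ≤ n → a i = n - i) →
      ((∀ H : Subgroup L, H ≤ N → G ≤ Subgroup.normalizer (H : Set L) → H ≠ ⊥ →
          (⁅H, G⁆).relIndex H = p) ∧
       (∀ H : Subgroup L, H ≤ N → G ≤ Subgroup.normalizer (H : Set L) →
          (∃ i ≤ n, H = Ns i) ∧ N ≤ Subgroup.normalizer (H : Set L))) := by
    intro Hlen
    have hcard : ∀ i, i ≤ n → Nat.card (Ns i) = p ^ (n - i) := fun i hi => by
      rw [ha2, Hlen i hi]
    have hbotk : ∀ k, n ≤ k → Ns k = ⊥ := by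
      intro k hk
      have h1 : Ns k ≤ Ns n := hanti hk
      have h2 : Ns n = ⊥ := (habot n).mpr (by have := Hlen n le_rfl; omega)
      rw [h2] at h1
      exact le_bot_iff.mp h1
    have hrel : ∀ i, i + 1 ≤ n → (Ns (i + 1)).relIndex (Ns i) = p := by
      intro i hi
      have h1 := card_mul_relIndex (Ns (i + 1)) (Ns i) (hstep i)
      rw [hcard (i + 1) hi, hcard i (by omega)] at h1
      have h2 : p ^ (n - i) = p ^ (n - (i + 1)) * p := by rw [← pow_succ]; congr 1; omega
      rw [h2] at h1
      exact Nat.eq_of_mul_eq_mul_left (pow_pos hpp.pos _) h1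
    have hder : ∀ k, ∀ x ∈ Ns (k + 1), ∀ y ∈ Ns (k + 1),
        x * y * x⁻¹ * y⁻¹ ∈ Ns (k + 1 + 1) := by
      intro k x hx y hy
      rcases Nat.lt_or_ge (k + 1) n with hk | hk
      · exact comm_le_of_index_prime (Ns (k + 1)) (Ns (k + 1 + 1)) (hstep (k + 1))
          (hnorm1 (k + 1)) (hrel (k + 1) (by omega)) x hx y hy
      · rw [hbotk (k + 1) hk, Subgroup.mem_bot] at hx hy
        rw [hx, hy]
        simp
    have hnorm2 : ∀ k, Ns k ≤ Subgroup.normalizer (Ns (k + 1 + 1) : Set L) := by
      intro k x hx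
      apply S3803.mem_normalizer_of_fwd
      have hle : Ns (k + 1 + 1) ≤ (Ns (k + 1 + 1)).comap (MulAut.conj x).toMonoidHom := by
        rw [hNss (k + 1), Subgroup.commutator_le]
        intro m hm g hg
        have hm' : x * m * x⁻¹ ∈ Ns (k + 1) :=
          ((S3183.mem_normalizer_iff' _ x).mp (hnorm1 k hx) m).mp hm
        have hc : x * g * x⁻¹ * g⁻¹ ∈ Ns (k + 1) := by
          have h0 := Subgroup.commutator_mem_commutator hx hg
          rw [← hNss, commutatorElement_def] at h0
          exact h0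
        have e : x * ⁅m, g⁆ * x⁻¹ =
            ((x * m * x⁻¹) * (x * g * x⁻¹ * g⁻¹) * (x * m * x⁻¹)⁻¹ * (x * g * x⁻¹ * g⁻¹)⁻¹) *
            ((x * g * x⁻¹ * g⁻¹) * ⁅x * m * x⁻¹, g⁆ * (x * g * x⁻¹ * g⁻¹)⁻¹) := by
          simp only [commutatorElement_def]; group
        show x * ⁅m, g⁆ * x⁻¹ ∈ ⁅Ns (k + 1), G⁆
        rw [e, ← hNss (k + 1)]
        refine Subgroup.mul_mem _ (hder k _ hm' _ hc) ?_
        have h3 : ⁅x * m * x⁻¹, g⁆ ∈ Ns (k + 1 + 1) := by
          rw [hNss (k + 1)]; exact Subgroup.commutator_mem_commutator hm' hg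
        exact ((S3183.mem_normalizer_iff' _ _).mp (hnorm1 (k + 1) hc) _).mp h3
      exact fun y hy => hle hy
    have hbetween : ∀ i, i + 1 ≤ n → ∀ X : Subgroup L, Ns (i + 1) ≤ X → X ≤ Ns i →
        ¬ X ≤ Ns (i + 1) → X = Ns i := by
      intro i hi X h1 h2 h3
      have hd : Nat.card X ∣ p ^ (n - i) := by
        rw [← hcard i (by omega)]; exact Subgroup.card_dvd_of_le h2
      obtain ⟨c, hc, hXc⟩ := (Nat.dvd_prime_pow hpp).mp hd
      have hle : p ^ (n - (i + 1)) ≤ p ^ c := by
        rw [← hcard (i + 1) hi, ← hXc]; exact Subgroup.card_le_of_le h1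
      have hc1 : n - (i + 1) ≤ c := (Nat.pow_le_pow_iff_right hpp.one_lt).mp hle
      have hc2 : c = n - i := by
        by_contra hne
        have hc3 : c = n - (i + 1) := by omega
        apply h3
        have h4 : Ns (i + 1) = X :=
          Subgroup.eq_of_le_of_card_ge h1 (le_of_eq (by rw [hXc, hc3, hcard (i + 1) hi]))
        exact le_of_eq h4.symm
      exact Subgroup.eq_of_le_of_card_ge h2 (le_of_eq (by rw [hXc, hc2, hcard i (by omega)]))
    have hQ : ∀ d, ∀ i, i + d = n → 1 ≤ d → ∀ H : Subgroup L, H ≤ Ns i →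
        G ≤ Subgroup.normalizer (H : Set L) → ¬ H ≤ Ns (i + 1) → H = Ns i := by
      intro d
      induction d with
      | zero => intro i _ h; omega
      | succ d ih =>
        intro i hi _ H hH hHG hnot
        have hMH : Ns (i + 1) ≤ H := by
          rcases Nat.eq_zero_or_pos d with hd0 | hdpos
          · rw [hbotk (i + 1) (by omega)]; exact bot_le
          · have hHnorm : H ≤ Subgroup.normalizer (Ns (i + 1) : Set L) := hH.trans (hnorm1 i)
            obtain ⟨T, hT⟩ : ∃ T : Subgroup L, ∀ y, y ∈ T ↔ ∃ h ∈ H, ∃ m ∈ Ns (i + 1), y = h * m :=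
              ⟨{ carrier := {y | ∃ h ∈ H, ∃ m ∈ Ns (i + 1), y = h * m}
                 mul_mem' := by
                   rintro _ _ ⟨h, hh, m, hm, rfl⟩ ⟨h', hh', m', hm', rfl⟩
                   have h1 : h'⁻¹ * m * h'⁻¹⁻¹ ∈ Ns (i + 1) :=
                     ((S3183.mem_normalizer_iff' _ _).mp (hHnorm (H.inv_mem hh')) m).mp hm
                   exact ⟨h * h', H.mul_mem hh hh', h'⁻¹ * m * h'⁻¹⁻¹ * m',
                     Subgroup.mul_mem _ h1 hm', by group⟩
                 one_mem' := ⟨1, H.one_mem, 1, Subgroup.one_mem _, (mul_one 1).symm⟩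
                 inv_mem' := by
                   rintro _ ⟨h, hh, m, hm, rfl⟩
                   have h1 : h * m⁻¹ * h⁻¹ ∈ Ns (i + 1) :=
                     ((S3183.mem_normalizer_iff' _ _).mp (hHnorm hh) m⁻¹).mp
                       (Subgroup.inv_mem _ hm)
                   exact ⟨h⁻¹, H.inv_mem hh, h * m⁻¹ * h⁻¹, h1, by group⟩ }, fun y => Iff.rfl⟩
            have hT1 : Ns (i + 1) ≤ T := fun m hm =>
              (hT m).mpr ⟨1, H.one_mem, m, hm, (one_mul m).symm⟩
            have hT2 : H ≤ T := fun h hh =>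
              (hT h).mpr ⟨h, hh, 1, Subgroup.one_mem _, (mul_one h).symm⟩
            have hT3 : T ≤ Ns i := by
              intro y hy
              obtain ⟨h, hh, m, hm, rfl⟩ := (hT y).mp hy
              exact Subgroup.mul_mem _ (hH hh) (hstep i hm)
            have hTeq : T = Ns i :=
              hbetween i (by omega) T hT1 hT3 (fun hc => hnot (hT2.trans hc))
            have hMle' : ⁅Ns i, G⁆ ≤ (H ⊓ Ns (i + 1)) ⊔ Ns (i + 1 + 1) := by
              rw [Subgroup.commutator_le]
              intro y hy g hg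
              have hyT : y ∈ T := by rw [hTeq]; exact hy
              obtain ⟨h, hh, m, hm, rfl⟩ := (hT y).mp hyT
              have e : ⁅h * m, g⁆ = (h * ⁅m, g⁆ * h⁻¹) * ⁅h, g⁆ := by
                simp only [commutatorElement_def]; group
              rw [e]
              have h1 : ⁅m, g⁆ ∈ Ns (i + 1 + 1) := by
                rw [hNss (i + 1)]; exact Subgroup.commutator_mem_commutator hm hg
              have h2 : h * ⁅m, g⁆ * h⁻¹ ∈ Ns (i + 1 + 1) :=
                ((S3183.mem_normalizer_iff' _ _).mp (hnorm2 i (hH hh)) _).mp h1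
              have h3 : ⁅h, g⁆ ∈ H := hF1 H hHG (Subgroup.commutator_mem_commutator hh hg)
              have h4 : ⁅h, g⁆ ∈ Ns (i + 1) := by
                rw [hNss i]; exact Subgroup.commutator_mem_commutator (hH hh) hg
              exact Subgroup.mul_mem _ (Subgroup.mem_sup_right h2)
                (Subgroup.mem_sup_left (Subgroup.mem_inf.mpr ⟨h3, h4⟩))
            have hMle : Ns (i + 1) ≤ (H ⊓ Ns (i + 1)) ⊔ Ns (i + 1 + 1) :=
              (le_of_eq (hNss i)).trans hMle'
            have hH'G : G ≤ Subgroup.normalizer ((H ⊓ Ns (i + 1) : Subgroup L) : Set L) := by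
              intro g hg
              rw [S3183.mem_normalizer_iff']
              intro y
              have h1 := (S3183.mem_normalizer_iff' H g).mp (hHG hg) y
              have h2 := (S3183.mem_normalizer_iff' _ g).mp ((hinv (i + 1)).2 hg) y
              rw [Subgroup.mem_inf, Subgroup.mem_inf, h1, h2]
            have hH'not : ¬ (H ⊓ Ns (i + 1)) ≤ Ns (i + 1 + 1) := by
              intro hc
              have h1 : Ns (i + 1) ≤ Ns (i + 1 + 1) := hMle.trans (sup_le hc le_rfl)
              have h2 := Subgroup.card_le_of_le h1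
              rw [hcard (i + 1) (by omega), hcard (i + 1 + 1) (by omega)] at h2
              have h3 := (Nat.pow_le_pow_iff_right hpp.one_lt).mp h2
              omega
            have h5 := ih (i + 1) (by omega) hdpos (H ⊓ Ns (i + 1)) inf_le_right hH'G hH'not
            exact (le_of_eq h5.symm).trans inf_le_left
        exact hbetween i (by omega) H hMH hH hnot
    have hC : ∀ H : Subgroup L, H ≤ N → G ≤ Subgroup.normalizer (H : Set L) →
        ∃ i ≤ n, H = Ns i := by
      intro H hH hHG
      by_cases hbot : H = ⊥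
      · exact ⟨n, le_rfl, by rw [hbot, hbotk n le_rfl]⟩
      · have hex : ∃ j, ¬ H ≤ Ns j :=
          ⟨n, by rw [hbotk n le_rfl]; exact fun hc => hbot (le_bot_iff.mp hc)⟩
        obtain ⟨j, hj, hjmin⟩ : ∃ j, ¬ H ≤ Ns j ∧ ∀ k < j, H ≤ Ns k :=
          ⟨Nat.find hex, Nat.find_spec hex, fun k hk => not_not.mp (Nat.find_min hex hk)⟩
        have hj0 : j ≠ 0 := by
          intro h0
          apply hj
          rw [h0, hNs0]; exact hH
        have hjn : j ≤ n := by
          by_contra hlt
          have h1 := hjmin n (by omega)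
          rw [hbotk n le_rfl] at h1
          exact hbot (le_bot_iff.mp h1)
        obtain ⟨i, rfl⟩ : ∃ i, j = i + 1 := ⟨j - 1, by omega⟩
        refine ⟨i, by omega, ?_⟩
        exact hQ (n - i) i (by omega) (by omega) H (hjmin i (by omega)) hHG hj
    refine ⟨?_, ?_⟩
    · intro H hH hHG hHne
      obtain ⟨i, hi, rfl⟩ := hC H hH hHG
      have hi' : i < n := by
        by_contra hge
        exact hHne (hbotk i (by omega))
      rw [← hNss i]
      exact hrel i (by omega)
    · intro H hH hHG
      refine ⟨hC H hH hHG, ?_⟩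
      have hdown : ∀ j, j ≤ n → Ns (n - j) ≤ Subgroup.normalizer (H : Set L) := by
        intro j
        induction j with
        | zero =>
          intro _
          rw [hbotk (n - 0) (by omega)]; exact bot_le
        | succ j ih =>
          intro hj
          have ih' := ih (by omega)
          have e : n - j = (n - (j + 1)) + 1 := by omega
          rw [e] at ih'
          intro x hx
          obtain ⟨Hx, hHxdef⟩ : ∃ Hx : Subgroup L, Hx = H.map (MulAut.conj x).toMonoidHom :=
            ⟨_, rfl⟩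
          have hmemHx : ∀ y, y ∈ Hx ↔ ∃ h ∈ H, x * h * x⁻¹ = y := by
            intro y; rw [hHxdef]; exact Subgroup.mem_map
          have hHxN : Hx ≤ N := by
            intro y hy
            obtain ⟨h, hh, rfl⟩ := (hmemHx y).mp hy
            have hxN : x ∈ N := (hinv _).1 hx
            exact N.mul_mem (N.mul_mem hxN (hH hh)) (N.inv_mem hxN)
          have hHxG : G ≤ Subgroup.normalizer (Hx : Set L) := by
            intro g hg
            apply S3803.mem_normalizer_of_fwd
            intro y hy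
            obtain ⟨h, hh, rfl⟩ := (hmemHx y).mp hy
            have hc : x⁻¹ * g * x⁻¹⁻¹ * g⁻¹ ∈ Ns (n - (j + 1) + 1) := by
              have h0 := Subgroup.commutator_mem_commutator (Subgroup.inv_mem _ hx) hg
              rw [← hNss, commutatorElement_def] at h0
              exact h0
            have h1 : g * h * g⁻¹ ∈ H := ((S3183.mem_normalizer_iff' H g).mp (hHG hg) h).mp hh
            have h2 : (x⁻¹ * g * x⁻¹⁻¹ * g⁻¹) * (g * h * g⁻¹) * (x⁻¹ * g * x⁻¹⁻¹ * g⁻¹)⁻¹ ∈ H :=
              ((S3183.mem_normalizer_iff' H _).mp (ih' hc) _).mp h1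
            rw [hmemHx]
            exact ⟨_, h2, by group⟩
          have hcardHx : Nat.card Hx = Nat.card H := by
            rw [hHxdef]; exact Subgroup.card_map_of_injective (MulAut.conj x).injective
          obtain ⟨i1, hi1, hH1⟩ := hC H hH hHG
          obtain ⟨i2, hi2, hH2⟩ := hC Hx hHxN hHxG
          have hii : i1 = i2 := by
            have h1 := hcard i1 hi1
            have h2 := hcard i2 hi2
            rw [← hH1] at h1
            rw [← hH2, hcardHx, h1] at h2
            have h3 := Nat.pow_right_injective hpp.two_le h2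
            omega
          have hHxH : Hx = H := by rw [hH2, hH1, hii]
          apply S3803.mem_normalizer_of_fwd
          intro y hy
          rw [← hHxH, hmemHx]
          exact ⟨y, hy, rfl⟩
      have h0 := hdown n le_rfl
      rw [Nat.sub_self, hNs0] at h0
      exact h0
  have hUtoLen : (∀ H : Subgroup L, H ≤ N → G ≤ Subgroup.normalizer (H : Set L) → H ≠ ⊥ →
      (⁅H, G⁆).relIndex H = p) → ∀ i, i ≤ n → a i = n - i := by
    intro hU i
    induction i with
    | zero => intro _; exact ha0.trans (Nat.sub_zero n).symm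
    | succ i ih =>
      intro hi
      have hai := ih (by omega)
      have hne : Ns i ≠ ⊥ := by
        intro h
        have h0 := (habot i).mp h
        omega
      have h1 := hU (Ns i) (hinv i).1 (hinv i).2 hne
      rw [← hNss i] at h1
      have h2 := card_mul_relIndex (Ns (i + 1)) (Ns i) (hstep i)
      rw [h1, ha2, ha2, hai, ← pow_succ] at h2
      have h3 := Nat.pow_right_injective hpp.two_le h2
      omega
  have hBtoLen : (Ns (n - 1) ≠ ⊥ ∨ n = 0) → ∀ i, i ≤ n → a i = n - i := by
    intro h i hi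
    by_cases hn0 : n = 0
    · have hi0 : i = 0 := by omega
      subst hi0
      exact ha0.trans (Nat.sub_zero n).symm
    · rcases h with h | h
      · have hne : ∀ k, k ≤ n - 1 → Ns k ≠ ⊥ := by
          intro k hk hbot
          have h1 : Ns (n - 1) ≤ Ns k := hanti hk
          rw [hbot] at h1
          exact h (le_bot_iff.mp h1)
        have hchain : ∀ j k, k + j ≤ n → a (k + j) + j ≤ a k := by
          intro j
          induction j with
          | zero => intro k _; simp
          | succ j ih =>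
            intro k hk
            have h1 := ih k (by omega)
            have h2 := hastrict (k + j) (hne (k + j) (by omega))
            have e : k + (j + 1) = k + j + 1 := by omega
            rw [e]
            omega
        have hup := hchain i 0 (by omega)
        rw [zero_add, ha0] at hup
        rcases Nat.lt_or_ge i n with hlt | hge
        · have hlow := hchain (n - 1 - i) i (by omega)
          have e : i + (n - 1 - i) = n - 1 := by omega
          rw [e] at hlow
          have h3 : 1 ≤ a (n - 1) := by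
            by_contra hc
            exact h ((habot (n - 1)).mpr (by omega))
          omega
        · omega
      · exact absurd h hn0
  have hLenB : (∀ i, i ≤ n → a i = n - i) → (Ns (n - 1) ≠ ⊥ ∨ n = 0) := by
    intro Hlen
    by_cases hn0 : n = 0
    · exact Or.inr hn0
    · left
      intro hbot
      have h1 := (habot (n - 1)).mp hbot
      have h2 := Hlen (n - 1) (by omega)
      omega
  exact ⟨⟨fun hU => hLenB (hUtoLen hU), fun hB => (hmain (hBtoLen hB)).1⟩,
    fun hU => (hmain (hUtoLen hU)).2⟩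


end Cfsg.Agent.S0663
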