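import Cfsg.Statements.S0662
import Mathlib
import Cfsg.Agent.Lead.PLcs
import Cfsg.Agent.S0663

set_option autoImplicit false
open Cfsg

namespace Cfsg.Agent.S0662

open scoped commutatorElement

/-- In a p-group of maximal class of order at least p³ the normal subgroups of index at least p² are exactly the terms of the lower central series, and there are exactly p + 1 normal subgroups of index p. -/
theorem result {G : Type*} [Group G] [Finite G] {p : ℕ} [Fact p.Prime] (n : ℕ) (hG : Nat.card G = p ^ n) (hcl : Group.nilpotencyClass G = n - 1) (hn : 3 ≤ n) : (∀ (N : Subgroup G) [N.Normal] (r : ℕ), 2 ≤ r → N.index = p ^ r → N = (⊤ : Subgroup G).lowerCentralSeries (r - 1)) ∧ Nat.card {N : Subgroup G // N.Normal ∧ N.index = p} = p + 1 := by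
  classical
  have hpp : p.Prime := Fact.out
  have hQ : IsPGroup p G := IsPGroup.of_card hG
  haveI : Group.IsNilpotent G := hQ.isNilpotent
  have hne : (⊤ : Subgroup G).lowerCentralSeries (n - 2) ≠ ⊥ := by
    intro h
    have h1 := Subgroup.lowerCentralSeries_eq_bot_iff_nilpotencyClass_le.mp h
    omega
  have hcards := Lead.PLcs.maxclass_card hQ n hn hG hne
  constructor
  · intro N _ r hr hidx
    have hmul := Subgroup.card_mul_index N
    rw [hidx, hG] at hmul
    obtain ⟨c, hc⟩ := Lead.PLcs.card_pow hQ N
    rw [hc, ← pow_add] at hmul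
    have hcr : c + r = n := Nat.pow_right_injective hpp.two_le hmul
    have hle : (⊤ : Subgroup G).lowerCentralSeries (r - 1) ≤ N := by
      have hQq : IsPGroup p (G ⧸ N) := hQ.to_quotient N
      have hcq : Nat.card (G ⧸ N) = p ^ r := by rw [← Subgroup.index_eq_card]; exact hidx
      have hbot := Lead.PLcs.lcs_eq_bot hQq r hcq hr
      have hmap := Subgroup.map_lowerCentralSeries (⊤ : Subgroup G) (QuotientGroup.mk' N) (r - 1)
      rw [Subgroup.map_top_of_surjective (QuotientGroup.mk' N) (QuotientGroup.mk'_surjective N),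
        hbot] at hmap
      have h2 := (Subgroup.map_eq_bot_iff _).mp hmap
      rwa [QuotientGroup.ker_mk'] at h2
    have hcl' := hcards (r - 1) (by omega) (by omega)
    symm
    apply Subgroup.eq_of_le_of_card_ge hle
    rw [hcl', hc]
    exact Nat.pow_le_pow_right hpp.pos (by omega)
  · obtain ⟨D, hDdef⟩ : ∃ D : Subgroup G, D = (⊤ : Subgroup G).lowerCentralSeries 1 := ⟨_, rfl⟩
    have hD1 : D = ⁅(⊤ : Subgroup G), (⊤ : Subgroup G)⁆ := by rw [hDdef]; rfl
    obtain ⟨q, hqdef⟩ : ∃ q : ℕ, q = p ^ (n - 2) := ⟨_, rfl⟩
    have hqpos : 0 < q := by rw [hqdef]; exact pow_pos hpp.pos _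
    have hDcard : Nat.card D = q := by
      rw [hDdef, hcards 1 le_rfl (by omega), hqdef, show n - 1 - 1 = n - 2 by omega]
    have hGq : Nat.card G = q * p * p := by
      rw [hG, hqdef, ← pow_succ, ← pow_succ]
      congr 1
      omega
    have hDne : D ≠ ⊥ := by
      intro h
      rw [h, Subgroup.card_bot, hqdef] at hDcard
      have h1 : 1 < p ^ (n - 2) := Nat.one_lt_pow (by omega) hpp.one_lt
      omega
    have hDle : ∀ M : Subgroup G, M.Normal → M.index = p → D ≤ M := by
      intro M hMn hMi
      rw [hD1, Subgroup.commutator_le]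
      intro x _ y _
      have h1 := S0663.comm_le_of_index_prime (p := p) (⊤ : Subgroup G) M le_top
        (le_of_eq (Subgroup.normalizer_eq_top_iff.mpr hMn).symm)
        (by rw [Subgroup.relIndex_top_right]; exact hMi) x (Subgroup.mem_top x) y
        (Subgroup.mem_top y)
      rw [commutatorElement_def]; exact h1
    have hnormal : ∀ M : Subgroup G, D ≤ M → M.Normal := by
      intro M hDM
      constructor
      intro m hm g
      have h1 : ⁅g, m⁆ ∈ D := by
        rw [hD1]
        exact Subgroup.commutator_mem_commutator (Subgroup.mem_top g) (Subgroup.mem_top m)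
      have e : g * m * g⁻¹ = ⁅g, m⁆ * m := by rw [commutatorElement_def]; group
      rw [e]
      exact M.mul_mem (hDM h1) hm
    have hDidx : D.index = p ^ 2 := by
      have hmul := Subgroup.card_mul_index D
      rw [hDcard, hGq] at hmul
      have h2 : q * p * p = q * p ^ 2 := by ring
      rw [h2] at hmul
      exact Nat.eq_of_mul_eq_mul_left hqpos hmul
    have hMx : ∀ x : G, x ∉ D → (D ⊔ Subgroup.zpowers x).index = p := by
      intro x hx
      have hd : (D ⊔ Subgroup.zpowers x).index ∣ p ^ 2 := by
        rw [← hDidx]; exact Subgroup.index_dvd_of_le le_sup_left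
      obtain ⟨j, hj, hjj⟩ := (Nat.dvd_prime_pow hpp).mp hd
      have hj0 : j ≠ 0 := by
        intro h0
        rw [h0, pow_zero] at hjj
        have htop := Subgroup.index_eq_one.mp hjj
        rw [hDdef] at htop
        have hle := Lead.PLcs.comm_le_of_sup_zpowers x htop
        have hle2 : ⁅(⊤ : Subgroup G).lowerCentralSeries 1, (⊤ : Subgroup G)⁆ ≤
            (⊤ : Subgroup G).lowerCentralSeries 1 := by
          rw [← Subgroup.lowerCentralSeries_succ]
          exact Subgroup.lowerCentralSeries_antitone _ (Nat.le_succ 1)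
        exact Lead.PLcs.comm_ne_self hQ _ (hDdef ▸ hDne) (le_antisymm hle2 hle)
      have hj2 : j ≠ 2 := by
        intro h2
        rw [h2] at hjj
        have h3 := Subgroup.relIndex_mul_index (le_sup_left : D ≤ D ⊔ Subgroup.zpowers x)
        rw [hjj, hDidx] at h3
        have h4 : D.relIndex (D ⊔ Subgroup.zpowers x) = 1 :=
          Nat.eq_of_mul_eq_mul_right (pow_pos hpp.pos 2) (h3.trans (one_mul _).symm)
        exact hx (Subgroup.relIndex_eq_one.mp h4
          ((le_sup_right : Subgroup.zpowers x ≤ _) (Subgroup.mem_zpowers x)))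
      have hj1 : j = 1 := by omega
      rw [hjj, hj1, pow_one]
    haveI : Fintype G := Fintype.ofFinite G
    haveI : Fintype (Subgroup G) := Fintype.ofFinite _
    obtain ⟨T, hTmem⟩ : ∃ T : Finset (Subgroup G), ∀ M, M ∈ T ↔ (M.Normal ∧ M.index = p) :=
      ⟨Finset.univ.filter (fun M => M.Normal ∧ M.index = p), fun M => by simp⟩
    obtain ⟨s, hsmem⟩ : ∃ s : Finset G, ∀ x, x ∈ s ↔ x ∉ D :=
      ⟨Finset.univ.filter (fun x => x ∉ D), fun x => by simp⟩
    have hTcard : Nat.card {N : Subgroup G // N.Normal ∧ N.index = p} = T.card :=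
      Nat.subtype_card T hTmem
    rw [hTcard]
    obtain ⟨e, he⟩ : ∃ e, p = e + 1 := ⟨p - 1, by have h1 := hpp.pos; omega⟩
    have he1 : 1 ≤ e := by have h1 := hpp.two_le; omega
    have hqp : q * p = q * e + q := by
      calc q * p = q * (e + 1) := by rw [← he]
        _ = q * e + q := by ring
    have hqpp : q * p * p = q * e * (e + 2) + q := by
      calc q * p * p = q * (e + 1) * (e + 1) := by rw [← he]
        _ = q * e * (e + 2) + q := by ring
    have hnc : ∀ H : Subgroup G, (H : Set G).ncard = Nat.card H :=
      fun H => (Nat.card_coe_set_eq (H : Set G)).symm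
    have hfT : ∀ x ∈ s, D ⊔ Subgroup.zpowers x ∈ T := by
      intro x hx
      rw [hTmem]
      exact ⟨hnormal _ le_sup_left, hMx x ((hsmem x).mp hx)⟩
    have hfibc : ∀ (M : Subgroup G) (hM : M ∈ T)
        (inst : DecidablePred (fun a => D ⊔ Subgroup.zpowers a = M)),
        (@Finset.filter G (fun a => D ⊔ Subgroup.zpowers a = M) inst s).card = q * e := by
      intro M hM inst
      obtain ⟨hMn, hMi⟩ := (hTmem M).mp hM
      have hDM := hDle M hMn hMi
      have hset : ((@Finset.filter G (fun a => D ⊔ Subgroup.zpowers a = M) inst s : Finset G) :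
          Set G) = (M : Set G) \ (D : Set G) := by
        ext x
        simp only [Finset.mem_coe, Finset.mem_filter, hsmem, Set.mem_diff, SetLike.mem_coe]
        constructor
        · rintro ⟨hxD, hxM⟩
          refine ⟨?_, hxD⟩
          rw [← hxM]
          exact (le_sup_right : Subgroup.zpowers x ≤ _) (Subgroup.mem_zpowers x)
        · rintro ⟨hxM, hxD⟩
          refine ⟨hxD, ?_⟩
          have hle : D ⊔ Subgroup.zpowers x ≤ M := sup_le hDM (Subgroup.zpowers_le.mpr hxM)
          rcases S3918.max_of_index_prime hpp _ _ (hMx x hxD) hle with h | h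
          · exact h.symm
          · exfalso; rw [h, Subgroup.index_top] at hMi; exact hpp.one_lt.ne hMi
      have hMcard : Nat.card M = q * p := by
        have hmul := Subgroup.card_mul_index M
        rw [hMi, hGq] at hmul
        exact Nat.eq_of_mul_eq_mul_right hpp.pos hmul
      have h1 := Set.ncard_sdiff_add_ncard_of_subset (SetLike.coe_subset_coe.mpr hDM)
      rw [← hset, Set.ncard_coe_finset, hnc M, hnc D, hDcard, hMcard] at h1
      omega
    have hscard : s.card = q * e * (e + 2) := by
      have hsset : (s : Set G) = (Set.univ : Set G) \ (D : Set G) := by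
        ext x
        simp only [Finset.mem_coe, hsmem, Set.mem_diff, Set.mem_univ, true_and, SetLike.mem_coe]
      have h1 := Set.ncard_sdiff_add_ncard_of_subset (Set.subset_univ (D : Set G))
      rw [← hsset, Set.ncard_coe_finset, hnc D, hDcard, Set.ncard_univ, hGq] at h1
      omega
    have hfib : s.card = T.card * (q * e) :=
      (Finset.card_eq_sum_card_fiberwise (f := fun x => D ⊔ Subgroup.zpowers x) (s := s)
        (t := T) hfT).trans (Finset.sum_const_nat (fun M hM => hfibc M hM _))
    rw [hscard] at hfib
    have hpos : 0 < q * e := Nat.mul_pos hqpos he1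
    have h5 : (e + 2) * (q * e) = T.card * (q * e) := by rw [← hfib]; ring
    have h6 := Nat.eq_of_mul_eq_mul_right hpos h5
    omega


end Cfsg.Agent.S0662
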