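import Cfsg.Statements.S0692
import Mathlib
import Cfsg.Agent.Helper6.M2
-- import your own Cfsg.Agent.* helpers here

set_option autoImplicit false
open Cfsg

namespace Cfsg.Agent.S0692

open Cfsg.Agent.Helper6.M2

def gens : List (List ℕ) := [[0, 10, 1, 0], [2, 4, 1, 8]]

def ginv : List (List ℕ) := [[0, 1, 10, 0], [8, 7, 10, 2]]

def L : List (List ℕ) := [
  [0, 1, 10, 0],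
  [0, 2, 5, 7],
  [0, 3, 7, 10],
  [0, 4, 8, 1],
  [0, 5, 2, 7],
  [0, 6, 9, 4],
  [0, 7, 3, 10],
  [0, 8, 4, 1],
  [0, 9, 6, 4],
  [0, 10, 1, 0],
  [1, 0, 0, 1],
  [1, 1, 1, 2],
  [1, 2, 10, 10],
  [1, 3, 7, 0],
  [1, 4, 4, 6],
  [1, 5, 6, 9],
  [1, 6, 5, 9],
  [1, 7, 3, 0],
  [1, 8, 9, 7],
  [1, 9, 8, 7],
  [1, 10, 2, 10],
  [2, 0, 7, 6],
  [2, 1, 4, 8],
  [2, 2, 2, 8],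
  [2, 3, 3, 5],
  [2, 4, 1, 8],
  [2, 5, 6, 10],
  [2, 6, 5, 10],
  [2, 7, 0, 6],
  [2, 8, 9, 9],
  [2, 9, 8, 9],
  [2, 10, 10, 1],
  [3, 0, 10, 4],
  [3, 1, 4, 9],
  [3, 2, 2, 9],
  [3, 3, 3, 7],
  [3, 4, 1, 9],
  [3, 5, 9, 8],
  [3, 6, 6, 5],
  [3, 7, 8, 8],
  [3, 8, 7, 8],
  [3, 9, 5, 8],
  [3, 10, 0, 4],
  [4, 0, 1, 3],
  [4, 1, 0, 3],
  [4, 2, 5, 0],
  [4, 3, 3, 8],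
  [4, 4, 4, 7],
  [4, 5, 2, 0],
  [4, 6, 10, 7],
  [4, 7, 7, 7],
  [4, 8, 9, 10],
  [4, 9, 8, 10],
  [4, 10, 6, 7],
  [5, 0, 7, 9],
  [5, 1, 2, 5],
  [5, 2, 1, 5],
  [5, 3, 6, 6],
  [5, 4, 4, 10],
  [5, 5, 5, 3],
  [5, 6, 3, 6],
  [5, 7, 0, 9],
  [5, 8, 8, 2],
  [5, 9, 10, 5],
  [5, 10, 9, 5],
  [6, 0, 4, 2],
  [6, 1, 2, 6],
  [6, 2, 1, 6],
  [6, 3, 3, 9],
  [6, 4, 0, 2],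
  [6, 5, 8, 5],
  [6, 6, 6, 8],
  [6, 7, 7, 1],
  [6, 8, 5, 5],
  [6, 9, 10, 6],
  [6, 10, 9, 6],
  [7, 0, 10, 8],
  [7, 1, 5, 4],
  [7, 2, 3, 1],
  [7, 3, 2, 1],
  [7, 4, 4, 4],
  [7, 5, 1, 4],
  [7, 6, 9, 0],
  [7, 7, 7, 4],
  [7, 8, 8, 3],
  [7, 9, 6, 0],
  [7, 10, 0, 8],
  [8, 0, 1, 7],
  [8, 1, 0, 7],
  [8, 2, 6, 3],
  [8, 3, 4, 3],
  [8, 4, 3, 3],
  [8, 5, 5, 6],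
  [8, 6, 2, 3],
  [8, 7, 10, 2],
  [8, 8, 8, 4],
  [8, 9, 9, 2],
  [8, 10, 7, 2],
  [9, 0, 4, 5],
  [9, 1, 1, 10],
  [9, 2, 3, 2],
  [9, 3, 2, 2],
  [9, 4, 0, 5],
  [9, 5, 6, 1],
  [9, 6, 5, 1],
  [9, 7, 10, 3],
  [9, 8, 8, 6],
  [9, 9, 9, 3],
  [9, 10, 7, 3],
  [10, 0, 0, 10],
  [10, 1, 9, 1],
  [10, 2, 3, 4],
  [10, 3, 2, 4],
  [10, 4, 8, 0],
  [10, 5, 6, 2],
  [10, 6, 5, 2],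
  [10, 7, 7, 5],
  [10, 8, 4, 0],
  [10, 9, 1, 1],
  [10, 10, 10, 9]]

def W : List (List ℕ) := [
  [0, 0, 0],
  [1, 1, 0, 1, 1, 0],
  [1, 0, 1, 1, 0, 1, 0, 0, 0],
  [1, 1, 0, 1, 0, 1, 1, 0, 0, 0],
  [1, 0, 1, 0],
  [1, 0, 1, 0, 0, 0],
  [1, 1, 0, 1, 0, 1, 1, 0],
  [1, 0, 1, 1, 0, 1, 0],
  [1, 1, 0, 1, 1, 0, 0, 0],
  [0],
  [],
  [0, 1, 0, 1, 1],
  [1, 0, 1, 1],
  [0, 1, 1, 0, 1, 0, 1, 1, 0, 0],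
  [1, 1, 0, 1, 0, 1, 1, 0, 1, 0],
  [1, 1, 0, 1, 0, 1, 0, 0],
  [1, 0, 1, 0, 1, 1, 0, 0, 0],
  [0, 1, 0, 1, 1, 0, 1],
  [0, 1, 0, 0],
  [0, 1, 1],
  [0, 1, 0, 1, 1, 0],
  [1, 1, 0, 1, 1, 0, 0],
  [0, 1, 1, 0, 0, 0],
  [0, 1, 0, 1, 1, 0, 1, 0, 1, 0, 0, 0],
  [0, 1, 0, 1, 1, 0, 1, 0, 1, 1],
  [1],
  [1, 1, 0, 1, 1, 0, 1],
  [0, 1, 1, 0, 1, 0, 1, 0, 0, 0],
  [0, 1, 0, 1, 0, 0, 0],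
  [1, 0, 1, 1, 0, 1, 0, 1, 0, 0, 0],
  [0, 1, 0, 1, 1, 0, 1, 0, 1],
  [1, 0, 1, 1, 0],
  [1, 0, 1, 1, 0, 1],
  [0, 1, 0],
  [1, 0, 1, 1, 0, 1, 0, 1, 0, 0],
  [1, 0, 1, 0, 1, 1, 0, 1],
  [1, 1, 0, 0],
  [1, 0, 1, 1, 0, 1, 0, 1, 1],
  [1, 1, 0, 1, 0, 0, 0],
  [1, 1, 0, 1, 1, 0, 1, 0, 1, 0, 0],
  [1, 0, 1, 0, 1, 1, 0, 1, 0],
  [0, 1, 0, 1, 1, 0, 1, 0, 1, 1, 0],
  [1, 0, 1, 0, 1, 1, 0, 1, 0, 1],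
  [1, 1, 0, 1, 0, 1, 1],
  [0, 1, 0, 1, 1, 0, 1, 0, 0, 0],
  [0, 1, 0, 1, 0, 0],
  [1, 1, 0, 1, 1, 0, 1, 0, 1, 0],
  [1, 1, 0, 1, 0, 1, 1, 0, 1, 0, 1, 1],
  [1, 0, 1, 0, 1, 0, 0, 0],
  [1, 0, 1, 0, 1, 1, 0, 1, 0, 1, 1, 0],
  [0, 1, 0, 1, 1, 0, 1, 0, 1, 1, 0, 1],
  [1, 1, 0, 0, 0],
  [1, 0],
  [1, 1, 0, 1, 0, 1, 1, 0, 1, 0, 0],
  [1, 0, 1, 0, 0],
  [1, 0, 1, 0, 1, 1, 0, 0],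
  [0, 1, 1, 0, 1, 0, 1, 0, 0],
  [1, 1, 0, 1, 0, 0],
  [1, 0, 1, 0, 1, 1, 0, 1, 0, 1, 1],
  [0, 1, 1, 0, 1, 0, 0],
  [0, 1, 1, 0, 1, 0, 0, 0],
  [1, 0, 1, 0, 1],
  [1, 0, 1, 1, 0, 1, 0, 1, 1, 0],
  [1, 1, 0, 1, 1, 0, 1, 0],
  [1, 1, 0, 1, 0, 1, 0, 0, 0],
  [1, 0, 1],
  [1, 1, 0, 1, 0, 1, 0],
  [1, 1, 0, 1, 1, 0, 1, 0, 0, 0],
  [1, 1, 0, 1, 0, 1, 1, 0, 1, 0, 1],
  [1, 0, 1, 0, 1, 0, 0],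
  [0, 1, 1, 0, 1, 0],
  [0, 1, 1, 0, 1],
  [0, 1, 1, 0, 1, 0, 1, 1, 0, 1],
  [1, 1, 0, 1],
  [0, 1, 1, 0, 1, 0, 1],
  [1, 0, 1, 0, 1, 1],
  [1, 1, 0, 1, 0, 1, 1, 0, 0],
  [1, 1, 0, 1, 0, 1, 1, 0, 1],
  [1, 0, 0, 0],
  [1, 1, 0],
  [1, 0, 1, 1, 0, 1, 0, 1, 1, 0, 1, 0],
  [0, 1, 1, 0, 1, 0, 1, 1, 0, 1, 0],
  [1, 0, 1, 0, 1, 0],
  [1, 0, 1, 1, 0, 1, 0, 1, 1, 0, 1],
  [1, 1, 0, 1, 1, 0, 1, 0, 1, 0, 0, 0],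
  [0, 1, 0, 1],
  [0, 1, 0, 1, 1, 0, 1, 0],
  [1, 0, 1, 1, 0, 1, 0, 0],
  [0, 1, 1, 0, 1, 0, 1, 1, 0],
  [0, 1, 1, 0, 1, 0, 1, 1, 0, 1, 0, 1],
  [1, 0, 1, 0, 1, 1, 0, 1, 0, 0, 0],
  [1, 1, 0, 1, 1, 0, 1, 0, 1],
  [1, 1, 0, 1, 0],
  [1, 0, 1, 1, 0, 1, 0, 1, 1, 0, 0],
  [1, 1],
  [1, 0, 1, 0, 1, 1, 0, 1, 0, 0],
  [1, 0, 1, 1, 0, 1, 0, 1],
  [0, 1, 0, 0, 0],
  [1, 1, 0, 1, 1],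
  [1, 0, 1, 1, 0, 0, 0],
  [0, 1, 0, 1, 1, 0, 1, 0, 1, 0, 0],
  [1, 0, 1, 1, 0, 1, 0, 1, 0],
  [0, 1, 0, 1, 0],
  [0, 1, 1, 0, 1, 0, 1, 0],
  [1, 1, 0, 1, 1, 0, 1, 0, 0],
  [1, 0, 0],
  [0, 1, 0, 1, 1, 0, 1, 0, 1, 1, 0, 0],
  [0, 1, 0, 1, 1, 0, 1, 0, 1, 0],
  [0, 1, 1, 0],
  [0, 0],
  [0, 1, 0, 1, 1, 0, 0, 0],
  [0, 1, 1, 0, 0],
  [0, 1],
  [0, 1, 0, 1, 1, 0, 1, 0, 0],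
  [1, 0, 1, 0, 1, 1, 0],
  [1, 1, 0, 1, 0, 1],
  [1, 1, 0, 1, 0, 1, 1, 0, 1, 0, 0, 0],
  [0, 1, 1, 0, 1, 0, 1, 1],
  [1, 0, 1, 1, 0, 0],
  [0, 1, 0, 1, 1, 0, 0]]

theorem one_mem : oneC ∈ L := by decide +kernel
theorem clos : ∀ c ∈ gens ++ ginv, ∀ d ∈ L, mulC 11 c d ∈ L := by decide +kernel
theorem hW : L = W.map (evalW 11 gens) := by decide +kernel
theorem hfix : ∀ c ∈ L, c = oneC ∨ fixdet 11 c % 11 ≠ 0 := by decide +kernel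
theorem hcol : ∀ x < 11, ∀ y < 11, (x ≠ 0 ∨ y ≠ 0) → ∃ c ∈ L, g c 0 % 11 = x ∧ g c 2 % 11 = y := by
  decide +kernel
theorem inv0 : mulC 11 [0, 1, 10, 0] [0, 10, 1, 0] = oneC := by decide +kernel
theorem inv1 : mulC 11 [8, 7, 10, 2] [2, 4, 1, 8] = oneC := by decide +kernel

/-- An exceptional sharply doubly transitive group of degree 11^2: the listed matrices generate a subgroup of GL(2,11) of order 120 acting regularly on the non-zero vectors. -/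
theorem result (A : Matrix.GeneralLinearGroup (Fin 2) (ZMod 11)) (B : Matrix.GeneralLinearGroup (Fin 2) (ZMod 11)) (hA : (A : Matrix (Fin 2) (Fin 2) (ZMod 11)) = !![0, -1; 1, 0]) (hB : (B : Matrix (Fin 2) (Fin 2) (ZMod 11)) = !![2, 4; 1, -3]) : Nat.card (Subgroup.closure ({A, B} : Set (Matrix.GeneralLinearGroup (Fin 2) (ZMod 11)))) = 120 ∧ ∀ v w : Fin 2 → ZMod 11, v ≠ 0 → w ≠ 0 → ∃! h : Subgroup.closure ({A, B} : Set (Matrix.GeneralLinearGroup (Fin 2) (ZMod 11))), Matrix.mulVec ((h : Matrix.GeneralLinearGroup (Fin 2) (ZMod 11)) : Matrix (Fin 2) (Fin 2) (ZMod 11)) v = w := by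
  haveI : Fact (Nat.Prime 11) := ⟨by norm_num⟩
  have eA : A.val = toMat 11 [0, 10, 1, 0] := by rw [hA]; decide
  have eB : B.val = toMat 11 [2, 4, 1, 8] := by rw [hB]; decide
  have hmain := main 11 ({A, B} : Set (GL2 11)) gens L W one_mem ?_ ?_ hW hfix hcol
  · exact hmain
  · intro s hs
    simp only [Set.mem_insert_iff, Set.mem_singleton_iff] at hs
    rcases hs with rfl | rfl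
    · exact gen_ok 11 L _ _ _ eA inv0 (clos _ (by decide)) (clos _ (by decide))
    · exact gen_ok 11 L _ _ _ eB inv1 (clos _ (by decide)) (clos _ (by decide))
  · intro c hc
    simp only [gens, List.mem_cons, List.not_mem_nil, or_false] at hc
    rcases hc with rfl | rfl
    · exact ⟨A, by simp, eA⟩
    · exact ⟨B, by simp, eB⟩

end Cfsg.Agent.S0692
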