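import Cfsg.Statements.S0994
import Mathlib
import Cfsg.Agent.Helper2.SylowCard
import Cfsg.Agent.Lead.UniqSub

set_option autoImplicit false
open Cfsg

namespace Cfsg.Agent.S0994

theorem conj_pow_iter {G : Type*} [Group G] (g x : G) (k : ℕ) (h : g * x * g⁻¹ = x ^ k) (m : ℕ) :
    g ^ m * x * (g ^ m)⁻¹ = x ^ (k ^ m) := by
  induction m with
  | zero => simp
  | succ m ih =>
    have e : g ^ (m + 1) * x * (g ^ (m + 1))⁻¹ = g * (g ^ m * x * (g ^ m)⁻¹) * g⁻¹ := by
      rw [pow_succ']; simp only [mul_inv_rev, mul_assoc]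
    rw [e, ih]
    have e2 : g * x ^ (k ^ m) * g⁻¹ = (g * x * g⁻¹) ^ (k ^ m) := conj_pow.symm
    rw [e2, h, ← pow_mul, ← pow_succ']

/-- If `P` is a cyclic Sylow `p`-subgroup of prime order whose normalizer has order coprime
to `p - 1`, then the normalizer centralizes `P`. -/
theorem normalizer_le_centralizer_of_coprime {G : Type*} [Group G] [Finite G] (p : ℕ)
    [Fact p.Prime] (P : Subgroup G) (hP : Nat.card P = p)
    (hcop : Nat.Coprime (Nat.card (Subgroup.normalizer (P : Set G))) (p - 1)) :
    Subgroup.normalizer (P : Set G) ≤ Subgroup.centralizer (P : Set G) := by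
  have hp : p.Prime := Fact.out
  obtain ⟨x, hxo⟩ := exists_prime_orderOf_dvd_card' (G := P) p (dvd_of_eq hP.symm)
  have hx11 : orderOf (x : G) = p := by rw [Subgroup.orderOf_coe, hxo]
  have hPz : P = Subgroup.zpowers (x : G) := by
    symm
    apply Subgroup.eq_of_le_of_card_ge
    · rw [Subgroup.zpowers_le]; exact x.2
    · rw [Nat.card_zpowers, hx11, hP]
  intro g hg
  have h1 : g * (x : G) * g⁻¹ ∈ Subgroup.zpowers (x : G) := by
    rw [← hPz]; exact (Subgroup.mem_normalizer_iff.mp hg x).mp x.2
  obtain ⟨k, hk⟩ := Cfsg.Agent.Lead.exists_pow_of_mem_zpowers h1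
  have hm := conj_pow_iter g (x : G) k hk.symm (orderOf g)
  rw [pow_orderOf_eq_one, inv_one, one_mul, mul_one] at hm
  have hmod : k ^ orderOf g ≡ 1 [MOD p] := by
    have h2 : (x : G) ^ (k ^ orderOf g) = (x : G) ^ 1 := by rw [pow_one]; exact hm.symm
    rw [pow_eq_pow_iff_modEq, hx11] at h2
    exact h2
  have hz : ((k : ZMod p)) ^ orderOf g = 1 := by
    have := (ZMod.natCast_eq_natCast_iff _ _ p).mpr hmod
    simpa using this
  have hk0 : (k : ZMod p) ≠ 0 := by
    intro h0
    rw [h0, zero_pow (orderOf_pos g).ne'] at hz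
    exact zero_ne_one hz
  have h10 : (k : ZMod p) ^ (p - 1) = 1 := ZMod.pow_card_sub_one_eq_one hk0
  have hcop' : Nat.Coprime (orderOf g) (p - 1) :=
    Nat.Coprime.coprime_dvd_left (Subgroup.orderOf_dvd_natCard _ hg) hcop
  have hk1 : (k : ZMod p) = 1 := by
    have := pow_gcd_eq_one.mpr ⟨hz, h10⟩
    rw [Nat.Coprime.gcd_eq_one hcop', pow_one] at this
    exact this
  have hk1' : k ≡ 1 [MOD p] := by
    have : ((k : ℕ) : ZMod p) = ((1 : ℕ) : ZMod p) := by rw [hk1]; simp
    exact (ZMod.natCast_eq_natCast_iff _ _ p).mp this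
  have hxk : (x : G) ^ k = (x : G) := by
    have : (x : G) ^ k = (x : G) ^ 1 := by rw [pow_eq_pow_iff_modEq, hx11]; exact hk1'
    rw [this, pow_one]
  have hgx : g * (x : G) = (x : G) * g := by
    have : g * (x : G) * g⁻¹ = (x : G) := by rw [← hk, hxk]
    calc g * (x : G) = g * (x : G) * g⁻¹ * g := by group
      _ = (x : G) * g := by rw [this]
  rw [Subgroup.mem_centralizer_iff]
  intro h hh
  have hh' : h ∈ Subgroup.zpowers (x : G) := by rw [← hPz]; exact hh
  obtain ⟨j, rfl⟩ := hh'
  exact ((Commute.zpow_right (show Commute g (x : G) from hgx) j).eq).symm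

/-- No finite simple group has order 1188 = 2^2 * 3^3 * 11. -/
theorem result {G : Type*} [Group G] [Finite G] [IsSimpleGroup G] : Nat.card G ≠ 1188 := by
  intro hG
  classical
  haveI : Fact (Nat.Prime 11) := ⟨by norm_num⟩
  obtain ⟨P⟩ : Nonempty (Sylow 11 G) := inferInstance
  have hP : Nat.card (P : Subgroup G) = 11 :=
    Cfsg.Agent.Helper2.card_sylow_eq_prime 11 108 (by rw [hG]) (by norm_num) P
  have hsimple : ∀ N : Subgroup G, N.Normal → N = ⊥ ∨ N = ⊤ := fun N hN => hN.eq_bot_or_eq_top
  have hmod := card_sylow_modEq_one 11 G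
  have hdvd := Sylow.card_dvd_index P
  have hidx : (P : Subgroup G).index = 108 := by
    have := (P : Subgroup G).card_mul_index
    rw [hP, hG] at this
    omega
  rw [hidx] at hdvd
  have key : ∀ n : ℕ, n ≤ 108 → n % 11 = 1 → n ∣ 108 → n = 1 ∨ n = 12 := by decide
  have h112 : Nat.card (Sylow 11 G) = 1 ∨ Nat.card (Sylow 11 G) = 12 :=
    key _ (Nat.le_of_dvd (by norm_num) hdvd) hmod hdvd
  rcases h112 with h1 | h12
  · have hPn := Cfsg.Agent.Helper2.sylow_normal_of_card_eq_one 11 P h1
    rcases hsimple _ hPn with h | h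
    · rw [h, Subgroup.card_bot] at hP; omega
    · rw [h, Subgroup.card_top, hG] at hP; omega
  · have hNidx : (Subgroup.normalizer ((P : Subgroup G) : Set G)).index = 12 := by
      have := Sylow.card_eq_index_normalizer P
      rw [h12] at this
      exact this.symm
    have hNcard : Nat.card (Subgroup.normalizer ((P : Subgroup G) : Set G)) = 99 := by
      have := (Subgroup.normalizer ((P : Subgroup G) : Set G)).card_mul_index
      rw [hNidx, hG] at this
      omega
    have hNC : Subgroup.normalizer ((P : Subgroup G) : Set G) ≤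
        Subgroup.centralizer ((P : Subgroup G) : Set G) :=
      normalizer_le_centralizer_of_coprime 11 (P : Subgroup G) hP (by rw [hNcard]; norm_num)
    have hcompl := MonoidHom.ker_transferSylow_isComplement' P hNC
    have hker_normal : (MonoidHom.transferSylow P hNC).ker.Normal := MonoidHom.normal_ker _
    have hcard := hcompl.card_mul_card
    rw [hP, hG] at hcard
    rcases hsimple _ hker_normal with h | h
    · rw [h, Subgroup.card_bot] at hcard; omega
    · rw [h, Subgroup.card_top, hG] at hcard; omega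


end Cfsg.Agent.S0994
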