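import Mathlib
import Cfsg.Agent.Helper2.Conj
import Cfsg.Statements.S1249

set_option autoImplicit false
open Cfsg

namespace Cfsg.Agent.S1249

/-- Let P and Q be Sylow p-subgroups of the finite group G both containing the subgroup A. If A is strongly closed in P, then A is strongly closed in Q. -/
theorem result {G : Type*} [Group G] [Finite G] {p : ℕ} [Fact p.Prime] (P Q : Sylow p G) (A : Subgroup G) (hAQ : A ≤ Q) (hA : Cfsg.IsStronglyClosed A (P : Subgroup G)) : Cfsg.IsStronglyClosed A (Q : Subgroup G) := by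
  obtain ⟨g, hg⟩ := Cfsg.Agent.Helper2.sylow_exists_conj P Q
  refine ⟨hAQ, ?_⟩
  have h1 : ∀ a ∈ A, g⁻¹ * a * g⁻¹⁻¹ ∈ A := by
    intro a ha
    apply hA.2 a ha g⁻¹
    rw [inv_inv]; exact (hg a).mp (hAQ ha)
  have h2 : ∀ a ∈ A, g⁻¹⁻¹ * a * g⁻¹ ∈ A := Cfsg.Agent.Helper2.conj_inv_mem_of_conj_mem A g⁻¹ h1
  intro x hx h hxQ
  have h3 : (g⁻¹ * h) * x * (g⁻¹ * h)⁻¹ ∈ A := by
    apply hA.2 x hx
    have := (hg _).mp hxQ
    have e : g⁻¹ * h * x * (g⁻¹ * h)⁻¹ = g⁻¹ * (h * x * h⁻¹) * g := by group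
    rw [e]; exact this
  have := h2 _ h3
  have e : g⁻¹⁻¹ * (g⁻¹ * h * x * (g⁻¹ * h)⁻¹) * g⁻¹ = h * x * h⁻¹ := by group
  rw [e] at this; exact this


end Cfsg.Agent.S1249
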