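import Mathlib
import Cfsg.Agent.Helper2.Conj
import Cfsg.Statements.S1250

set_option autoImplicit false
open Cfsg

namespace Cfsg.Agent.S1250

/-- Let S be a Sylow p-subgroup of the finite group G, A ≤ S strongly closed in S, and N a normal subgroup. Then the image of A in G ⧸ N is strongly closed in the image of S (which is a Sylow p-subgroup of G ⧸ N). -/
theorem result {G : Type*} [Group G] [Finite G] {p : ℕ} [Fact p.Prime] (S : Sylow p G) (A : Subgroup G) (hA : Cfsg.IsStronglyClosed A (S : Subgroup G)) (N : Subgroup G) [N.Normal] : Cfsg.IsStronglyClosed (A.map (QuotientGroup.mk' N)) ((S : Subgroup G).map (QuotientGroup.mk' N)) := by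
  obtain ⟨hAS, hsc⟩ := hA
  refine ⟨Subgroup.map_mono hAS, ?_⟩
  rintro _ ⟨a, ha, rfl⟩ gbar hmem
  obtain ⟨g, rfl⟩ := QuotientGroup.mk'_surjective N gbar
  obtain ⟨s, hs, hse⟩ := hmem
  set y := g * a * g⁻¹ with hy
  have hys : s⁻¹ * y ∈ N := by
    rw [← QuotientGroup.eq_one_iff, ← QuotientGroup.mk'_apply, map_mul, map_inv, hse, hy]
    simp only [map_mul, map_inv]
    group
  have hyM : y ∈ (S : Subgroup G) ⊔ N := by
    have : y = s * (s⁻¹ * y) := by group
    rw [this]; exact Subgroup.mul_mem_sup hs hys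
  have hSM : (S : Subgroup G) ≤ (S : Subgroup G) ⊔ N := le_sup_left
  have hyp : IsPGroup p (Subgroup.zpowers y) := by
    have hap : IsPGroup p (Subgroup.zpowers a) :=
      S.isPGroup'.to_le (by rw [Subgroup.zpowers_le]; exact hAS ha)
    have : Subgroup.zpowers y = (Subgroup.zpowers a).map (MulAut.conj g).toMonoidHom := by
      rw [MonoidHom.map_zpowers]; simp [hy, MulAut.conj_apply]
    rw [this]; exact hap.map _
  have hyp' : IsPGroup p ((Subgroup.zpowers y).subgroupOf ((S : Subgroup G) ⊔ N)) :=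
    hyp.comap_of_injective _ (Subgroup.subtype_injective _)
  obtain ⟨m, hm⟩ := Cfsg.Agent.Helper2.pgroup_exists_conj_le_sylow hyp' (S.subtype hSM)
  have h1 : (m : G) * y * (m : G)⁻¹ ∈ (S : Subgroup G) := by
    have := hm ⟨y, hyM⟩ (by rw [Subgroup.mem_subgroupOf]; exact Subgroup.mem_zpowers y)
    have h' : m * ⟨y, hyM⟩ * m⁻¹ ∈ (S : Subgroup G).subgroupOf ((S : Subgroup G) ⊔ N) := this
    rw [Subgroup.mem_subgroupOf] at h'
    simpa using h'
  have hm' : (m : G) ∈ ((S : Subgroup G) ⊔ N : Subgroup G) := m.2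
  rw [← SetLike.mem_coe, Subgroup.mul_normal] at hm'
  obtain ⟨s₁, hs₁, n₁, hn₁, hmn⟩ := Set.mem_mul.mp hm'
  have h2 : n₁ * y * n₁⁻¹ ∈ (S : Subgroup G) := by
    have : n₁ * y * n₁⁻¹ = s₁⁻¹ * (m * y * (m : G)⁻¹) * s₁ := by rw [← hmn]; group
    rw [this]; exact Subgroup.mul_mem _ (Subgroup.mul_mem _ (Subgroup.inv_mem _ hs₁) h1) hs₁
  have h3 : (n₁ * g) * a * (n₁ * g)⁻¹ ∈ A := by
    apply hsc a ha
    have : n₁ * g * a * (n₁ * g)⁻¹ = n₁ * y * n₁⁻¹ := by rw [hy]; group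
    rw [this]; exact h2
  refine ⟨(n₁ * g) * a * (n₁ * g)⁻¹, h3, ?_⟩
  simp only [map_mul, map_inv]
  have : (QuotientGroup.mk' N) n₁ = 1 := (QuotientGroup.eq_one_iff n₁).mpr hn₁
  rw [this]; group


end Cfsg.Agent.S1250
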