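import Cfsg.Statements.S1292
import Cfsg.Agent.Helper3.Local3

set_option autoImplicit false
open Cfsg

namespace Cfsg.Agent.S1292

/-- Let G be a finite group such that F*(C_G(t)) = O_2(C_G(t)) for every involution t. Then F*(N_G(T)) = O_2(N_G(T)) for every nontrivial 2-subgroup T of G. -/
theorem result {G : Type*} [Group G] [Finite G] (h : ∀ t : G, orderOf t = 2 → Cfsg.generalizedFittingSubgroup ↥(Subgroup.centralizer ({t} : Set G)) = Cfsg.pCore 2 ↥(Subgroup.centralizer ({t} : Set G))) (T : Subgroup G) (hT : IsPGroup 2 ↥T) (hT1 : T ≠ ⊥) : Cfsg.generalizedFittingSubgroup ↥(Subgroup.normalizer (T : Set G)) = Cfsg.pCore 2 ↥(Subgroup.normalizer (T : Set G)) := by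
  classical
  -- find a central involution of T
  haveI : Nontrivial ↥T := (Subgroup.nontrivial_iff_ne_bot T).mpr hT1
  haveI : Fact (Nat.Prime 2) := ⟨Nat.prime_two⟩
  haveI hZnt : Nontrivial (Subgroup.center ↥T) := hT.center_nontrivial
  have hZ2 : IsPGroup 2 (Subgroup.center ↥T) := hT.to_subgroup _
  have hdvd : 2 ∣ Nat.card (Subgroup.center ↥T) := by
    obtain ⟨n, hn⟩ := IsPGroup.iff_card.mp hZ2
    have h1 : 1 < Nat.card (Subgroup.center ↥T) := Finite.one_lt_card
    rw [hn] at h1 ⊢
    rcases n with _ | n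
    · simp at h1
    · exact dvd_pow_self 2 (Nat.succ_ne_zero n)
  obtain ⟨z, hz⟩ := exists_prime_orderOf_dvd_card' 2 hdvd
  set t : G := ((z : ↥T) : G) with ht
  have ht2 : orderOf t = 2 := by
    rw [ht, Subgroup.orderOf_coe, Subgroup.orderOf_coe]; exact hz
  have htT : t ∈ T := (z : ↥T).2
  have hcomm : ∀ x ∈ T, x * t = t * x := by
    intro x hx
    have := Subgroup.mem_center_iff.mp z.2 ⟨x, hx⟩
    have h2 := congrArg (Subtype.val) this
    simpa using h2
  set C : Subgroup G := Subgroup.centralizer ({t} : Set G) with hC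
  have hTC : T ≤ C := by
    intro x hx
    rw [hC, Subgroup.mem_centralizer_iff]
    intro y hy
    rw [Set.mem_singleton_iff] at hy
    subst hy
    exact (hcomm x hx).symm
  have h1 := Cfsg.Agent.Helper3.fstar_normalizer_eq_pCore 2 (h t ht2) (T.subgroupOf C)
    hT.comap_subtype
  have hnorm : ∀ x : ↥C, x ∈ Subgroup.normalizer (T.subgroupOf C : Set ↥C) ↔
      (x : G) ∈ Subgroup.normalizer (T : Set G) := by
    intro x
    rw [← Subgroup.subgroupOf_normalizer_eq hTC, Subgroup.mem_subgroupOf]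
  let φ : ↥(Subgroup.normalizer (T.subgroupOf C : Set ↥C)) →* ↥(Subgroup.normalizer (T : Set G)) :=
    MonoidHom.codRestrict (C.subtype.comp (Subgroup.subtype _)) _
      (fun x => (hnorm x.1).mp x.2)
  have hφinj : Function.Injective φ := by
    intro a b hab
    have h3 : ((φ a : ↥(Subgroup.normalizer (T : Set G))) : G) = ((φ b : ↥(Subgroup.normalizer (T : Set G))) : G) := congrArg Subtype.val hab
    have h4 : ((φ a : ↥(Subgroup.normalizer (T : Set G))) : G) = ((a : ↥C) : G) := rfl
    have h5 : ((φ b : ↥(Subgroup.normalizer (T : Set G))) : G) = ((b : ↥C) : G) := rfl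
    rw [h4, h5] at h3
    exact Subtype.ext (Subtype.ext h3)
  refine Cfsg.Agent.Helper3.fstar_eq_pCore_of_injective 2 φ hφinj ?_ h1
  intro y hy
  have hTN : T ≤ Subgroup.normalizer (T : Set G) := Subgroup.le_normalizer
  haveI : (T.subgroupOf (Subgroup.normalizer (T : Set G))).Normal :=
    Subgroup.normal_subgroupOf_of_le_normalizer le_rfl
  have hle : T.subgroupOf (Subgroup.normalizer (T : Set G)) ≤
      Cfsg.pCore 2 ↥(Subgroup.normalizer (T : Set G)) :=
    Cfsg.Agent.Helper3.le_pCore _ hT.comap_subtype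
  have hyt := Subgroup.mem_centralizer_iff.mp hy ⟨t, hTN htT⟩ (hle (by
    rw [Subgroup.mem_subgroupOf]; exact htT))
  have hyt' : t * (y : G) = (y : G) * t := by
    have := congrArg Subtype.val hyt
    simpa using this
  have hyC : (y : G) ∈ C := by
    rw [hC, Subgroup.mem_centralizer_iff]
    intro s hs
    rw [Set.mem_singleton_iff] at hs
    subst hs
    exact hyt'
  refine ⟨⟨⟨(y : G), hyC⟩, (hnorm _).mpr y.2⟩, ?_⟩
  exact Subtype.ext rfl

end Cfsg.Agent.S1292
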