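import Cfsg.Statements.S1339
import Mathlib
import Cfsg.Agent.Helper5.CharP2

set_option autoImplicit false
open Cfsg

namespace Cfsg.Agent.S1339

section s1339
variable {F : Type*} [Field F] {n : ℕ}

def QP (i j : Fin n) (N : Matrix (Fin n) (Fin n) F) : Prop :=
  ∀ l m, N l m ≠ 0 → (l = i ∨ m = j) ∧ l ≠ j ∧ m ≠ i

lemma qp_zero (i j : Fin n) : QP i j (0 : Matrix (Fin n) (Fin n) F) := by
  intro l m h; exact absurd rfl h

lemma qp_add {i j : Fin n} {N N' : Matrix (Fin n) (Fin n) F} (h : QP i j N) (h' : QP i j N') :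
    QP i j (N + N') := by
  intro l m hlm
  by_cases h1 : N l m = 0
  · by_cases h2 : N' l m = 0
    · exact absurd (by rw [Matrix.add_apply, h1, h2, add_zero]) hlm
    · exact h' l m h2
  · exact h l m h1

lemma qp_mul_entry {i j : Fin n} {N N' : Matrix (Fin n) (Fin n) F}
    (h : QP i j N) (h' : QP i j N') :
    ∀ l m, (N * N') l m ≠ 0 → l = i ∧ m = j := by
  intro l m hlm
  rw [Matrix.mul_apply] at hlm
  obtain ⟨k, -, hk⟩ := Finset.exists_ne_zero_of_sum_ne_zero hlm
  have h1 := h l k (left_ne_zero_of_mul hk)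
  have h2 := h' k m (right_ne_zero_of_mul hk)
  refine ⟨?_, ?_⟩
  · rcases h1.1 with h3 | h3
    · exact h3
    · exact absurd h3 h2.2.1
  · rcases h2.1 with h3 | h3
    · exact absurd h3 h1.2.2
    · exact h3

lemma qp_mul {i j : Fin n} (hij : i ≠ j) {N N' : Matrix (Fin n) (Fin n) F}
    (h : QP i j N) (h' : QP i j N') : QP i j (N * N') := by
  intro l m hlm
  obtain ⟨h1, h2⟩ := qp_mul_entry h h' l m hlm
  rw [h1, h2]
  exact ⟨Or.inl rfl, hij, hij.symm⟩

lemma qp_mul3 {i j : Fin n} {N N' N'' : Matrix (Fin n) (Fin n) F}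
    (h : QP i j N) (h' : QP i j N') (h'' : QP i j N'') : N * N' * N'' = 0 := by
  ext l m
  by_contra hlm
  have hlm' : (N * N' * N'') l m ≠ 0 := hlm
  rw [Matrix.mul_apply] at hlm'
  obtain ⟨k, -, hk⟩ := Finset.exists_ne_zero_of_sum_ne_zero hlm'
  have h1 := qp_mul_entry h h' l k (left_ne_zero_of_mul hk)
  have h2 := h'' k m (right_ne_zero_of_mul hk)
  exact h2.2.1 h1.2

lemma qp_gmul {i j : Fin n} (hij : i ≠ j) {g h : Matrix (Fin n) (Fin n) F}
    (hg : QP i j (g - 1)) (hh : QP i j (h - 1)) : QP i j (g * h - 1) := by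
  have e : g * h - 1 = (g - 1) + (h - 1) + (g - 1) * (h - 1) := by noncomm_ring
  rw [e]; exact qp_add (qp_add hg hh) (qp_mul hij hg hh)

lemma qp_pow {i j : Fin n} (hij : i ≠ j) {g : Matrix (Fin n) (Fin n) F}
    (hg : QP i j (g - 1)) : ∀ k : ℕ, QP i j (g ^ k - 1) := by
  intro k
  induction k with
  | zero => rw [pow_zero, sub_self]; exact qp_zero i j
  | succ k ih => rw [pow_succ]; exact qp_gmul hij ih hg

lemma qp_pow4 [CharP F 2] [Nonempty (Fin n)] {i j : Fin n} {g : Matrix (Fin n) (Fin n) F}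
    (hg : QP i j (g - 1)) : g ^ 4 = 1 := by
  have h3 : (g - 1) ^ 2 ^ 2 = 0 := by
    rw [show (2 : ℕ) ^ 2 = 1 + 1 + 1 + 1 from rfl, pow_add, pow_add, pow_add, pow_one,
      qp_mul3 hg hg hg, zero_mul]
  have e : g = 1 + (g - 1) := by abel
  have h := add_pow_char_pow_of_commute (R := Matrix (Fin n) (Fin n) F) 2 2
    (Commute.one_left (g - 1))
  rw [h3, one_pow, add_zero, ← e] at h
  exact h

def QS [CharP F 2] [Nonempty (Fin n)] (i j : Fin n) (hij : i ≠ j) :
    Subgroup (Matrix.SpecialLinearGroup (Fin n) F) where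
  carrier := {g | QP i j ((g : Matrix (Fin n) (Fin n) F) - 1)}
  mul_mem' := fun {a b} ha hb => by
    show QP i j (((a * b : Matrix.SpecialLinearGroup (Fin n) F) :
      Matrix (Fin n) (Fin n) F) - 1)
    rw [Matrix.SpecialLinearGroup.coe_mul]; exact qp_gmul hij ha hb
  one_mem' := by
    show QP i j (((1 : Matrix.SpecialLinearGroup (Fin n) F) :
      Matrix (Fin n) (Fin n) F) - 1)
    rw [Matrix.SpecialLinearGroup.coe_one, sub_self]; exact qp_zero i j
  inv_mem' := fun {a} ha => by
    have h4 : a ^ 4 = 1 := by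
      apply Subtype.ext
      rw [Matrix.SpecialLinearGroup.coe_pow, Matrix.SpecialLinearGroup.coe_one]
      exact qp_pow4 ha
    have h3 : a⁻¹ = a ^ 3 := inv_eq_of_mul_eq_one_right (by rw [← pow_succ', h4])
    rw [h3]
    show QP i j (((a ^ 3 : Matrix.SpecialLinearGroup (Fin n) F) :
      Matrix (Fin n) (Fin n) F) - 1)
    rw [Matrix.SpecialLinearGroup.coe_pow]; exact qp_pow hij ha 3

lemma qp_single_ij (i j : Fin n) (hij : i ≠ j) : QP i j (Matrix.single i j (1 : F)) := by
  intro l m hlm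
  rw [Matrix.single_apply] at hlm
  split_ifs at hlm with h'
  · rw [← h'.1, ← h'.2]
    exact ⟨Or.inl rfl, hij, hij.symm⟩
  · exact absurd rfl hlm

lemma QS_le [CharP F 2] [Nonempty (Fin n)] (i j : Fin n) (hij : i ≠ j)
    (t : Matrix.SpecialLinearGroup (Fin n) F)
    (ht : (t : Matrix (Fin n) (Fin n) F) = Matrix.transvection i j 1) :
    QS (F := F) i j hij ≤
      Subgroup.centralizer ({t} : Set (Matrix.SpecialLinearGroup (Fin n) F)) := by
  intro g hg
  rw [Subgroup.mem_centralizer_iff]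
  intro h hh
  rw [Set.mem_singleton_iff.1 hh]
  apply Subtype.ext
  rw [Matrix.SpecialLinearGroup.coe_mul, Matrix.SpecialLinearGroup.coe_mul, ht]
  have hN : QP i j ((g : Matrix (Fin n) (Fin n) F) - 1) := hg
  have e : (g : Matrix (Fin n) (Fin n) F) =
      1 + ((g : Matrix (Fin n) (Fin n) F) - 1) := by abel
  generalize (g : Matrix (Fin n) (Fin n) F) - 1 = N at hN e
  have h1 : Matrix.single i j (1 : F) * N = 0 := by
    ext l m
    rw [Matrix.mul_apply]
    apply Finset.sum_eq_zero
    intro k _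
    by_cases hNk : N k m = 0
    · rw [hNk, mul_zero]
    · have h1 := hN k m hNk
      rw [Matrix.single_apply, if_neg (fun hh => h1.2.1 hh.2.symm), zero_mul]
  have h2 : N * Matrix.single i j (1 : F) = 0 := by
    ext l m
    rw [Matrix.mul_apply]
    apply Finset.sum_eq_zero
    intro k _
    by_cases hNk : N l k = 0
    · rw [hNk, zero_mul]
    · have h1 := hN l k hNk
      rw [Matrix.single_apply, if_neg (fun hh => h1.2.2 hh.1.symm), mul_zero]
  rw [e, Matrix.transvection]
  generalize Matrix.single i j (1 : F) = E at h1 h2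
  calc (1 + E) * (1 + N) = 1 + E + N + E * N := by noncomm_ring
    _ = 1 + N + E + N * E := by rw [h1, h2]; abel
    _ = (1 + N) * (1 + E) := by noncomm_ring

lemma cent_struct (i j : Fin n) (c : Matrix (Fin n) (Fin n) F)
    (hc : c * Matrix.single i j 1 = Matrix.single i j 1 * c) :
    (∀ l, l ≠ i → c l i = 0) ∧ (∀ m, m ≠ j → c j m = 0) := by
  constructor
  · intro l hl
    have h := congrFun (congrFun hc l) j
    rw [Matrix.mul_single_apply_same, Matrix.single_mul_apply_of_ne _ _ _ _ _ hl, mul_one] at h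
    exact h
  · intro m hm
    have h := congrFun (congrFun hc i) m
    rw [Matrix.single_mul_apply_same, Matrix.mul_single_apply_of_ne _ _ _ _ _ hm, one_mul] at h
    exact h.symm

lemma cent_comm (i j : Fin n) (t : Matrix.SpecialLinearGroup (Fin n) F)
    (ht : (t : Matrix (Fin n) (Fin n) F) = Matrix.transvection i j 1)
    (c : Matrix.SpecialLinearGroup (Fin n) F)
    (hc : c ∈ Subgroup.centralizer ({t} : Set (Matrix.SpecialLinearGroup (Fin n) F))) :
    (c : Matrix (Fin n) (Fin n) F) * Matrix.single i j 1 =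
      Matrix.single i j 1 * (c : Matrix (Fin n) (Fin n) F) := by
  have h1 := Subgroup.mem_centralizer_iff.1 hc t rfl
  have h2 := congrArg (fun x : Matrix.SpecialLinearGroup (Fin n) F =>
    (x : Matrix (Fin n) (Fin n) F)) h1
  simp only [Matrix.SpecialLinearGroup.coe_mul] at h2
  rw [ht, Matrix.transvection, add_mul, mul_add, one_mul, mul_one] at h2
  exact (add_left_cancel h2).symm

lemma qp_conj (i j : Fin n) (c c' N : Matrix (Fin n) (Fin n) F)
    (hc : (∀ l, l ≠ i → c l i = 0) ∧ (∀ m, m ≠ j → c j m = 0))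
    (hc' : (∀ l, l ≠ i → c' l i = 0) ∧ (∀ m, m ≠ j → c' j m = 0))
    (hN : QP i j N) : QP i j (c * N * c') := by
  intro l m hlm
  rw [Matrix.mul_apply] at hlm
  obtain ⟨k', -, hk'⟩ := Finset.exists_ne_zero_of_sum_ne_zero hlm
  have h1 : (c * N) l k' ≠ 0 := left_ne_zero_of_mul hk'
  have h2 : c' k' m ≠ 0 := right_ne_zero_of_mul hk'
  rw [Matrix.mul_apply] at h1
  obtain ⟨k, -, hk⟩ := Finset.exists_ne_zero_of_sum_ne_zero h1
  have h3 : c l k ≠ 0 := left_ne_zero_of_mul hk
  have h4 : N k k' ≠ 0 := right_ne_zero_of_mul hk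
  obtain ⟨h5, h6, h7⟩ := hN k k' h4
  refine ⟨?_, ?_, ?_⟩
  · rcases h5 with h | h
    · left; by_contra hl; apply h3; rw [h]; exact hc.1 l hl
    · right; by_contra hm; apply h2; rw [h]; exact hc'.2 m hm
  · intro hl; apply h6; by_contra hkj; apply h3; rw [hl]; exact hc.2 k hkj
  · intro hm; apply h7; by_contra hki; apply h2; rw [hm]; exact hc'.1 k' hki

def xQ (a b : Fin n) (h : a ≠ b) : Matrix.SpecialLinearGroup (Fin n) F :=
  ⟨Matrix.transvection a b 1, Matrix.det_transvection_of_ne a b h 1⟩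

lemma cent_QS [CharP F 2] [Nonempty (Fin n)] (hF : ∀ x : F, x = 0 ∨ x = 1)
    (i j : Fin n) (hij : i ≠ j) (t : Matrix.SpecialLinearGroup (Fin n) F)
    (ht : (t : Matrix (Fin n) (Fin n) F) = Matrix.transvection i j 1)
    (c : Matrix.SpecialLinearGroup (Fin n) F)
    (hc : ∀ x ∈ QS (F := F) i j hij, c * x = x * c) : c = 1 ∨ c = t := by
  have hcomm : ∀ a b : Fin n, a ≠ b → QP i j (Matrix.single a b (1 : F)) →
      (c : Matrix (Fin n) (Fin n) F) * Matrix.single a b 1 =
        Matrix.single a b 1 * (c : Matrix (Fin n) (Fin n) F) := by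
    intro a b hab hq
    have hmem : xQ (F := F) a b hab ∈ QS (F := F) i j hij := by
      show QP i j (Matrix.transvection a b 1 - 1)
      rw [Matrix.transvection, add_sub_cancel_left]; exact hq
    have h1 := hc (xQ (F := F) a b hab) hmem
    have h2 := congrArg (fun x : Matrix.SpecialLinearGroup (Fin n) F =>
      (x : Matrix (Fin n) (Fin n) F)) h1
    simp only [Matrix.SpecialLinearGroup.coe_mul] at h2
    have h3 : ((xQ (F := F) a b hab : Matrix.SpecialLinearGroup (Fin n) F) :
        Matrix (Fin n) (Fin n) F) = 1 + Matrix.single a b 1 := rfl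
    rw [h3, mul_add, add_mul, mul_one, one_mul] at h2
    exact add_left_cancel h2
  have hq1 : ∀ k, k ≠ i → QP i j (Matrix.single i k (1 : F)) := by
    intro k hk l m hlm
    rw [Matrix.single_apply] at hlm
    split_ifs at hlm with h'
    · rw [← h'.1, ← h'.2]
      exact ⟨Or.inl rfl, hij, hk⟩
    · exact absurd rfl hlm
  have hq2 : ∀ k, k ≠ j → QP i j (Matrix.single k j (1 : F)) := by
    intro k hk l m hlm
    rw [Matrix.single_apply] at hlm
    split_ifs at hlm with h'
    · rw [← h'.1, ← h'.2]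
      exact ⟨Or.inr rfl, hk, hij.symm⟩
    · exact absurd rfl hlm
  have hrowdiag : ∀ k m, k ≠ i → m ≠ k → (c : Matrix (Fin n) (Fin n) F) k m = 0 := by
    intro k m hk hm
    have h := congrFun (congrFun (hcomm i k (Ne.symm hk) (hq1 k hk)) i) m
    rw [Matrix.single_mul_apply_same, Matrix.mul_single_apply_of_ne _ _ _ _ _ hm, one_mul] at h
    exact h.symm
  have hdiag : ∀ k, k ≠ i → (c : Matrix (Fin n) (Fin n) F) k k =
      (c : Matrix (Fin n) (Fin n) F) i i := by
    intro k hk
    have h := congrFun (congrFun (hcomm i k (Ne.symm hk) (hq1 k hk)) i) k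
    rw [Matrix.single_mul_apply_same, Matrix.mul_single_apply_same, one_mul, mul_one] at h
    exact h.symm
  have hcoldiag : ∀ l k, k ≠ j → l ≠ k → (c : Matrix (Fin n) (Fin n) F) l k = 0 := by
    intro l k hk hl
    have h := congrFun (congrFun (hcomm k j hk (hq2 k hk)) l) j
    rw [Matrix.mul_single_apply_same, Matrix.single_mul_apply_of_ne _ _ _ _ _ hl, mul_one] at h
    exact h
  have hoff : ∀ l m, l ≠ m → ¬ (l = i ∧ m = j) →
      (c : Matrix (Fin n) (Fin n) F) l m = 0 := by
    intro l m hlm hne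
    by_cases hl : l = i
    · have hm : m ≠ j := fun h => hne ⟨hl, h⟩
      exact hcoldiag l m hm hlm
    · exact hrowdiag l m hl (Ne.symm hlm)
  have hii : (c : Matrix (Fin n) (Fin n) F) i i = 1 := by
    rcases hF ((c : Matrix (Fin n) (Fin n) F) i i) with h | h
    · exfalso
      have hdet := c.2
      rw [Matrix.det_eq_zero_of_row_eq_zero j (fun m => by
        by_cases hm : m = j
        · rw [hm, hdiag j (Ne.symm hij), h]
        · exact hrowdiag j m (Ne.symm hij) hm)] at hdet
      exact zero_ne_one hdet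
    · exact h
  have hdiag' : ∀ k, (c : Matrix (Fin n) (Fin n) F) k k = 1 := by
    intro k
    by_cases hk : k = i
    · rw [hk, hii]
    · rw [hdiag k hk, hii]
  rcases hF ((c : Matrix (Fin n) (Fin n) F) i j) with h | h
  · left
    apply Subtype.ext
    rw [Matrix.SpecialLinearGroup.coe_one]
    ext l m
    by_cases hlm : l = m
    · rw [hlm, hdiag', Matrix.one_apply_eq]
    · rw [Matrix.one_apply_ne hlm]
      by_cases h01 : l = i ∧ m = j
      · rw [h01.1, h01.2, h]
      · exact hoff l m hlm h01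
  · right
    apply Subtype.ext
    rw [ht, Matrix.transvection]
    ext l m
    rw [Matrix.add_apply, Matrix.single_apply]
    by_cases hlm : l = m
    · rw [hlm, hdiag', Matrix.one_apply_eq, if_neg, add_zero]
      rintro ⟨h1, h2⟩
      exact hij (h1.trans h2.symm)
    · rw [Matrix.one_apply_ne hlm, zero_add]
      by_cases h01 : l = i ∧ m = j
      · rw [h01.1, h01.2, h, if_pos ⟨rfl, rfl⟩]
      · rw [hoff l m hlm h01, if_neg (fun hh => h01 ⟨hh.1.symm, hh.2.symm⟩)]

end s1339

/-- Let F be a field with 2 elements, n ≥ 3, and t ∈ SL(n, F) a transvection (t = 1 + E_{ij}, i ≠ j). Then the generalized Fitting subgroup of C(t) is O_2(C(t)). -/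
theorem result {F : Type*} [Field F] [Fintype F] [DecidableEq F] (hF : Fintype.card F = 2) (n : ℕ) (hn : 3 ≤ n) (i j : Fin n) (hij : i ≠ j) (t : Matrix.SpecialLinearGroup (Fin n) F) (ht : (t : Matrix (Fin n) (Fin n) F) = Matrix.transvection i j 1) : Cfsg.generalizedFittingSubgroup ↥(Subgroup.centralizer ({t} : Set (Matrix.SpecialLinearGroup (Fin n) F))) = Cfsg.pCore 2 ↥(Subgroup.centralizer ({t} : Set (Matrix.SpecialLinearGroup (Fin n) F))) := by
  classical
  haveI : Nonempty (Fin n) := ⟨i⟩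
  have h2 : (2 : F) = 0 := by
    have h := FiniteField.cast_card_eq_zero F
    rw [hF] at h
    exact_mod_cast h
  haveI : CharP F 2 := CharTwo.of_one_ne_zero_of_two_eq_zero one_ne_zero h2
  haveI : Fact (Nat.Prime 2) := ⟨Nat.prime_two⟩
  have hF01 : ∀ x : F, x = 0 ∨ x = 1 := by
    intro x
    have hcard : ({0, 1} : Finset F).card = Fintype.card F := by
      rw [hF, Finset.card_pair zero_ne_one]
    have h := Finset.eq_univ_of_card _ hcard
    have hx : x ∈ ({0, 1} : Finset F) := by rw [h]; exact Finset.mem_univ x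
    simpa using hx
  rw [Cfsg.Agent.Helper5.fstar_eq_pCore_iff_centralizer 2]
  have hQC := QS_le i j hij t ht
  have hQp : IsPGroup 2 ↥(QS (F := F) i j hij) := by
    intro g
    refine ⟨2, ?_⟩
    apply Subtype.ext
    rw [Subgroup.coe_pow, Subgroup.coe_one]
    apply Subtype.ext
    rw [Matrix.SpecialLinearGroup.coe_pow, Matrix.SpecialLinearGroup.coe_one]
    exact qp_pow4 g.2
  have hQnorm : ((QS (F := F) i j hij).subgroupOf
      (Subgroup.centralizer ({t} : Set (Matrix.SpecialLinearGroup (Fin n) F)))).Normal := by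
    constructor
    intro g hg c
    rw [Subgroup.mem_subgroupOf] at hg ⊢
    have hcm := cent_struct i j _ (cent_comm i j t ht
      (c : Matrix.SpecialLinearGroup (Fin n) F) c.2)
    have hcm' := cent_struct i j _ (cent_comm i j t ht
      ((c : Matrix.SpecialLinearGroup (Fin n) F)⁻¹) (Subgroup.inv_mem _ c.2))
    have h1 : ((c : Matrix.SpecialLinearGroup (Fin n) F) : Matrix (Fin n) (Fin n) F) *
        (((c : Matrix.SpecialLinearGroup (Fin n) F)⁻¹ : Matrix.SpecialLinearGroup (Fin n) F) :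
          Matrix (Fin n) (Fin n) F) = 1 := by
      rw [← Matrix.SpecialLinearGroup.coe_mul, mul_inv_cancel, Matrix.SpecialLinearGroup.coe_one]
    have hmat : (((c * g * c⁻¹ : ↥(Subgroup.centralizer
        ({t} : Set (Matrix.SpecialLinearGroup (Fin n) F)))) :
        Matrix.SpecialLinearGroup (Fin n) F) : Matrix (Fin n) (Fin n) F) - 1 =
        ((c : Matrix.SpecialLinearGroup (Fin n) F) : Matrix (Fin n) (Fin n) F) *
        (((g : Matrix.SpecialLinearGroup (Fin n) F) : Matrix (Fin n) (Fin n) F) - 1) *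
        (((c : Matrix.SpecialLinearGroup (Fin n) F)⁻¹ : Matrix.SpecialLinearGroup (Fin n) F) :
          Matrix (Fin n) (Fin n) F) := by
      rw [Subgroup.coe_mul, Subgroup.coe_mul, Subgroup.coe_inv,
        Matrix.SpecialLinearGroup.coe_mul, Matrix.SpecialLinearGroup.coe_mul, mul_sub, sub_mul,
        mul_one, h1]
    show QP i j _
    rw [hmat]
    exact qp_conj i j _ _ _ hcm hcm' hg
  have hQle := Cfsg.Agent.Helper5.le_pCore _ hQnorm (hQp.comap_subtype)
  intro x hx
  apply hQle
  rw [Subgroup.mem_subgroupOf]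
  have hx' : ∀ q ∈ QS (F := F) i j hij,
      (x : Matrix.SpecialLinearGroup (Fin n) F) * q =
        q * (x : Matrix.SpecialLinearGroup (Fin n) F) := by
    intro q hq
    have hqcore : (⟨q, hQC hq⟩ : ↥(Subgroup.centralizer
        ({t} : Set (Matrix.SpecialLinearGroup (Fin n) F)))) ∈
        Cfsg.pCore 2 ↥(Subgroup.centralizer
          ({t} : Set (Matrix.SpecialLinearGroup (Fin n) F))) :=
      hQle (Subgroup.mem_subgroupOf.2 hq)
    have h1 := Subgroup.mem_centralizer_iff.1 hx _ hqcore
    exact (congrArg Subtype.val h1).symm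
  rcases cent_QS hF01 i j hij t ht (x : Matrix.SpecialLinearGroup (Fin n) F) hx' with h | h
  · rw [h]; exact Subgroup.one_mem _
  · rw [h]
    show QP i j ((t : Matrix (Fin n) (Fin n) F) - 1)
    rw [ht, Matrix.transvection, add_sub_cancel_left]
    exact qp_single_ij i j hij

end Cfsg.Agent.S1339
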