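import Cfsg.Statements.S1922
import Mathlib
import Cfsg.Agent.Lead.SylowBasic

set_option autoImplicit false
open Cfsg

namespace Cfsg.Agent.S1922

theorem mem_conj {G : Type*} [Group G] (H : Subgroup G) (g x : G) :
    x ∈ H.map (MulAut.conj g).toMonoidHom ↔ g⁻¹ * x * g ∈ H := by
  constructor
  · rintro ⟨h, hh, rfl⟩
    have : g⁻¹ * ((MulAut.conj g).toMonoidHom h) * g = h := by
      simp [MulAut.conj_apply, mul_assoc]
    rw [this]; exact hh
  · intro hx
    exact ⟨g⁻¹ * x * g, hx, by simp [MulAut.conj_apply, mul_assoc]⟩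

theorem isP2 {K : Type*} [Group K] (w : K) (hw : w * w = 1) : IsPGroup 2 (Subgroup.zpowers w) := by
  intro y
  obtain ⟨y, hy⟩ := y
  obtain ⟨i, rfl⟩ := Subgroup.mem_zpowers_iff.mp hy
  refine ⟨1, Subtype.ext ?_⟩
  show (w ^ i) ^ 2 ^ 1 = 1
  rw [pow_one, pow_two, ← (Commute.refl w).mul_zpow i, hw, one_zpow]

theorem card_invol {α : Type*} (s : Finset α) (σ : α → α) [DecidablePred (fun x => σ x = x)]
    (h1 : ∀ x ∈ s, σ x ∈ s) (h2 : ∀ x ∈ s, σ (σ x) = x) :
    (s.card : ZMod 2) = ((s.filter (fun x => σ x = x)).card : ZMod 2) := by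
  have hsplit := Finset.card_filter_add_card_filter_not (s := s) (fun x => σ x = x)
  have hz : ((s.filter (fun x => ¬ σ x = x)).card : ZMod 2) = 0 := by
    have := Finset.sum_involution (s := s.filter (fun x => ¬ σ x = x)) (f := fun _ => (1 : ZMod 2))
      (fun x _ => σ x) (fun a ha => by show (1 : ZMod 2) + 1 = 0; decide)
      (fun a ha _ => (Finset.mem_filter.mp ha).2)
      (fun a ha => by
        show σ a ∈ Finset.filter (fun x => ¬ σ x = x) s
        rw [Finset.mem_filter] at ha ⊢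
        refine ⟨h1 a ha.1, fun h => ha.2 ?_⟩
        rw [h2 a ha.1] at h
        exact h.symm)
      (fun a ha => h2 a (Finset.mem_filter.mp ha).1)
    simpa using this
  rw [← hsplit, Nat.cast_add, hz, add_zero]

theorem sq_inj_odd {G : Type*} [Group G] (a b : G) (ha : Odd (orderOf a)) (hb : Odd (orderOf b))
    (h : a ^ 2 = b ^ 2) : a = b := by
  have e1 : orderOf (a ^ 2) = orderOf a := Nat.Coprime.orderOf_pow (Nat.coprime_two_right.mpr ha)
  have e2 : orderOf (b ^ 2) = orderOf b := Nat.Coprime.orderOf_pow (Nat.coprime_two_right.mpr hb)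
  have e3 : orderOf a = orderOf b := by rw [← e1, ← e2, h]
  obtain ⟨m, hm⟩ := ha
  have h1 : a ^ (2 * m + 1) = 1 := by rw [← hm]; exact pow_orderOf_eq_one a
  have h2 : b ^ (2 * m + 1) = 1 := by rw [← hm, e3]; exact pow_orderOf_eq_one b
  have hexp : 2 * m + 1 + 1 = 2 * (m + 1) := by omega
  calc a = a ^ (2 * m + 1) * a := by rw [h1, one_mul]
    _ = (a ^ 2) ^ (m + 1) := by rw [← pow_succ, ← pow_mul, hexp]
    _ = (b ^ 2) ^ (m + 1) := by rw [h]
    _ = b ^ (2 * m + 1) * b := by rw [← pow_succ, ← pow_mul, hexp]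
    _ = b := by rw [h2, one_mul]

theorem refl_inv {G : Type*} [Group G] (r ρ : G) (hr2 : r * r = 1) (hrρ : r * ρ * r = ρ⁻¹) (n : ℕ) :
    r * ρ ^ n * r = (ρ ^ n)⁻¹ := by
  have hri : r⁻¹ = r := inv_eq_of_mul_eq_one_right hr2
  have h := conj_pow (a := r) (b := ρ) (i := n)
  rw [hri, hrρ, inv_pow] at h
  exact h.symm

theorem refl_conj {G : Type*} [Group G] (r ρ : G) (hr2 : r * r = 1) (hrρ : r * ρ * r = ρ⁻¹) (i : ℕ) :
    ρ ^ i * r * (ρ ^ i)⁻¹ = ρ ^ (i + i) * r := by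
  rw [← refl_inv r ρ hr2 hrρ i, pow_add]
  calc ρ ^ i * r * (r * ρ ^ i * r) = ρ ^ i * (r * r) * ρ ^ i * r := by group
    _ = ρ ^ i * ρ ^ i * r := by rw [hr2, mul_one]

theorem sqrt_conj {G : Type*} [Group G] (z x₁ : G) (hz2 : z * z = 1) (hx2 : x₁ * x₁ = 1)
    (hodd : Odd (orderOf (z * x₁))) : ∃ y : G, (y * z * y⁻¹) * z * (y * z * y⁻¹)⁻¹ = x₁ := by
  have hzi : z⁻¹ = z := inv_eq_of_mul_eq_one_right hz2
  have hxi : x₁⁻¹ = x₁ := inv_eq_of_mul_eq_one_right hx2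
  obtain ⟨ρ, hρ⟩ : ∃ ρ, ρ = z * x₁ := ⟨_, rfl⟩
  rw [← hρ] at hodd
  have hzρ : z * ρ * z = ρ⁻¹ := by
    rw [hρ, mul_inv_rev, hxi, hzi]
    calc z * (z * x₁) * z = (z * z) * x₁ * z := by group
      _ = x₁ * z := by rw [hz2, one_mul]
  obtain ⟨j, hj⟩ := hodd
  have hk : ρ ^ (2 * j + 1) = 1 := by rw [← hj]; exact pow_orderOf_eq_one ρ
  refine ⟨ρ ^ (j * (j + 1)), ?_⟩
  have e1 : ρ ^ (j * (j + 1)) * z * (ρ ^ (j * (j + 1)))⁻¹ = ρ ^ (j * (j + 1) + j * (j + 1)) * z :=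
    refl_conj z ρ hz2 hzρ _
  obtain ⟨e, he⟩ : ∃ e, e = j * (j + 1) + j * (j + 1) := ⟨_, rfl⟩
  rw [e1, ← he]
  have hinv : (ρ ^ e * z)⁻¹ = ρ ^ e * z := by
    apply inv_eq_of_mul_eq_one_right
    calc ρ ^ e * z * (ρ ^ e * z) = ρ ^ e * (z * ρ ^ e * z) := by group
      _ = 1 := by rw [refl_inv z ρ hz2 hzρ e, mul_inv_cancel]
  rw [hinv]
  have hpow : ρ ^ (e + e) * ρ = 1 := by
    rw [← pow_succ, he, show j * (j + 1) + j * (j + 1) + (j * (j + 1) + j * (j + 1)) + 1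
      = (2 * j + 1) * (2 * j + 1) by ring, pow_mul, hk, one_pow]
  have hρi : ρ ^ (e + e) = ρ⁻¹ := eq_inv_of_mul_eq_one_left hpow
  calc ρ ^ e * z * z * (ρ ^ e * z) = ρ ^ e * (z * z) * ρ ^ e * z := by group
    _ = ρ ^ (e + e) * z := by rw [hz2, mul_one, ← pow_add]
    _ = x₁ := by rw [hρi, hρ, mul_inv_rev, hxi, hzi, mul_assoc, hz2, mul_one]

theorem odd_order {G : Type*} [Group G] [Finite G] (z : G) (hz2 : z * z = 1) (H : Subgroup G)
    (hfix : ∀ g : G, g⁻¹ * z * g ∈ H ↔ g ∈ H)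
    (h1 : ∀ t : G, IsConj z t → t ≠ z → t * z = z * t → ∀ g : G, g⁻¹ * (z * t) * g ∈ H ↔ g ∈ H)
    (a : G) (ha : a ∉ H) : Odd (orderOf (z * (a * z * a⁻¹))) := by
  obtain ⟨x, hx⟩ : ∃ x, x = a * z * a⁻¹ := ⟨_, rfl⟩
  rw [← hx]
  have hx2 : x * x = 1 := by
    rw [hx]
    calc a * z * a⁻¹ * (a * z * a⁻¹) = a * (z * z) * a⁻¹ := by group
      _ = 1 := by rw [hz2]; group
  have hzi : z⁻¹ = z := inv_eq_of_mul_eq_one_right hz2
  have hxi : x⁻¹ = x := inv_eq_of_mul_eq_one_right hx2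
  have hzH : z ∈ H := by
    have := (hfix 1).mpr H.one_mem
    simpa using this
  have hcent : ∀ c : G, c * z = z * c → c ∈ H := by
    intro c hc
    have e : c⁻¹ * z * c = z := by rw [mul_assoc, ← hc, inv_mul_cancel_left]
    exact (hfix c).mp (by rw [e]; exact hzH)
  obtain ⟨ρ, hρ⟩ : ∃ ρ, ρ = z * x := ⟨_, rfl⟩
  rw [← hρ]
  have hzρ : z * ρ * z = ρ⁻¹ := by
    rw [hρ, mul_inv_rev, hxi, hzi]
    calc z * (z * x) * z = (z * z) * x * z := by group
      _ = x * z := by rw [hz2, one_mul]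
  have hxρ : x * ρ * x = ρ⁻¹ := by
    rw [hρ, mul_inv_rev, hxi, hzi]
    calc x * (z * x) * x = x * z * (x * x) := by group
      _ = x * z := by rw [hx2, mul_one]
  have hxz : ρ⁻¹ * z = x := by
    rw [hρ, mul_inv_rev, hxi, hzi, mul_assoc, hz2, mul_one]
  by_contra hodd
  rw [Nat.not_odd_iff_even] at hodd
  obtain ⟨j, hj⟩ := hodd
  have hpos : 0 < orderOf ρ := orderOf_pos ρ
  have hj0 : j ≠ 0 := by omega
  obtain ⟨u, hu⟩ : ∃ u, u = ρ ^ j := ⟨_, rfl⟩
  have hu1 : u ≠ 1 := by rw [hu]; exact pow_ne_one_of_lt_orderOf hj0 (by omega)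
  have hu2 : u * u = 1 := by rw [hu, ← pow_add, ← hj, pow_orderOf_eq_one]
  have hui : u⁻¹ = u := inv_eq_of_mul_eq_one_right hu2
  have hzu : z * u * z = u := by rw [hu, refl_inv z ρ hz2 hzρ j, ← hu, hui]
  have hxu : x * u * x = u := by rw [hu, refl_inv x ρ hx2 hxρ j, ← hu, hui]
  have hconj : IsConj z (u * z) := by
    rcases Nat.even_or_odd j with ⟨i, hi⟩ | ⟨i, hi⟩
    · rw [isConj_iff]
      refine ⟨ρ ^ i, ?_⟩
      rw [refl_conj z ρ hz2 hzρ i, hu, hi]
    · rw [isConj_iff]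
      refine ⟨ρ ^ (i + 1) * a, ?_⟩
      calc ρ ^ (i + 1) * a * z * (ρ ^ (i + 1) * a)⁻¹
          = ρ ^ (i + 1) * (a * z * a⁻¹) * (ρ ^ (i + 1))⁻¹ := by group
        _ = ρ ^ (i + 1) * x * (ρ ^ (i + 1))⁻¹ := by rw [hx]
        _ = ρ ^ (i + 1 + (i + 1)) * x := refl_conj x ρ hx2 hxρ (i + 1)
        _ = u * z := by
          rw [← hxz, hu, hi]
          group
  have hne : u * z ≠ z := by
    intro h
    apply hu1
    have h' : u * z * z⁻¹ = z * z⁻¹ := by rw [h]
    simpa using h'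
  have hcomm : u * z * z = z * (u * z) := by
    rw [mul_assoc, hz2, mul_one, ← mul_assoc, hzu]
  have key := h1 (u * z) hconj hne hcomm
  have hzt : z * (u * z) = u := by rw [← mul_assoc, hzu]
  rw [hzt] at key
  have hxu' : u * x = x * u := by
    calc u * x = (x * u * x) * x := by rw [hxu]
      _ = x * u * (x * x) := by group
      _ = x * u := by rw [hx2, mul_one]
  have hc : a⁻¹ * u * a * z = z * (a⁻¹ * u * a) := by
    rw [hx] at hxu'
    calc a⁻¹ * u * a * z = a⁻¹ * (u * (a * z * a⁻¹)) * a := by group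
      _ = a⁻¹ * ((a * z * a⁻¹) * u) * a := by rw [hxu']
      _ = z * (a⁻¹ * u * a) := by group
  exact ha ((key a).mp (hcent _ hc))

theorem class_odd {G : Type*} [Group G] [Finite G] (z : G) (hz2 : z * z = 1)
    (H : Subgroup G) (hH : H ≠ ⊤) (hfix : ∀ g : G, g⁻¹ * z * g ∈ H ↔ g ∈ H)
    (h1 : ∀ t : G, IsConj z t → t ≠ z → t * z = z * t → ∀ g : G, g⁻¹ * (z * t) * g ∈ H ↔ g ∈ H) :
    ∃ CC : Finset G, (∀ x, x ∈ CC ↔ IsConj z x) ∧ ¬ 2 ∣ CC.card := by
  classical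
  haveI : Fintype G := Fintype.ofFinite G
  have hzi : z⁻¹ = z := inv_eq_of_mul_eq_one_right hz2
  have hzH : z ∈ H := by
    have := (hfix 1).mpr H.one_mem
    simpa using this
  have hcent : ∀ c : G, c * z = z * c → c ∈ H := by
    intro c hc
    have e : c⁻¹ * z * c = z := by rw [mul_assoc, ← hc, inv_mul_cancel_left]
    exact (hfix c).mp (by rw [e]; exact hzH)
  have hfixc : ∀ a g : G, g⁻¹ * (a * z * a⁻¹) * g ∈ H ↔ a⁻¹ * g ∈ H := by
    intro a g
    have h := hfix (a⁻¹ * g)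
    have e : (a⁻¹ * g)⁻¹ * z * (a⁻¹ * g) = g⁻¹ * (a * z * a⁻¹) * g := by group
    rw [e] at h
    exact h
  have hinv : ∀ x : G, IsConj z x → x * x = 1 := by
    intro x hx
    obtain ⟨a, rfl⟩ := isConj_iff.mp hx
    calc a * z * a⁻¹ * (a * z * a⁻¹) = a * (z * z) * a⁻¹ := by group
      _ = 1 := by rw [hz2]; group
  have hinv' : ∀ x : G, IsConj z x → x⁻¹ = x := fun x hx =>
    inv_eq_of_mul_eq_one_right (hinv x hx)
  have hoddO : ∀ x : G, IsConj z x → x ∉ H → Odd (orderOf (z * x)) := by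
    intro x hx hxH
    obtain ⟨a, rfl⟩ := isConj_iff.mp hx
    apply odd_order z hz2 H hfix h1 a
    intro haH
    apply hxH
    have h := (hfixc a 1).mpr (by simpa using H.inv_mem haH)
    simpa using h
  obtain ⟨g₀, hg₀⟩ : ∃ g, g ∉ H := by
    by_contra hcon
    push_neg at hcon
    exact hH ((Subgroup.eq_top_iff' H).mpr hcon)
  obtain ⟨v, hv⟩ : ∃ v, v = g₀ * z * g₀⁻¹ := ⟨_, rfl⟩
  have hvC : IsConj z v := by rw [hv]; exact isConj_iff.mpr ⟨g₀, rfl⟩
  have hvH : v ∉ H := by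
    intro h
    rw [hv] at h
    have h' := (hfixc g₀ 1).mp (by simpa using h)
    exact hg₀ (by simpa using H.inv_mem h')
  have hv2 : v * v = 1 := hinv v hvC
  have hvi : v⁻¹ = v := hinv' v hvC
  obtain ⟨CC, hCCdef⟩ : ∃ CC : Finset G, CC = Finset.univ.filter (fun x => IsConj z x) := ⟨_, rfl⟩
  have hCC : ∀ x, x ∈ CC ↔ IsConj z x := fun x => by rw [hCCdef]; simp
  refine ⟨CC, hCC, ?_⟩
  obtain ⟨V, hVdef⟩ : ∃ V : Finset G, V = CC.filter (fun x => v⁻¹ * x ∈ H) := ⟨_, rfl⟩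
  obtain ⟨B, hBdef⟩ : ∃ B : Finset G, B = CC.filter (fun x => v⁻¹ * x * v ∈ H) := ⟨_, rfl⟩
  obtain ⟨D, hDdef⟩ : ∃ D : Finset G, D = CC.filter (fun x => x ∈ H) := ⟨_, rfl⟩
  obtain ⟨I, hIdef⟩ : ∃ I : Finset G, I = CC.filter (fun x => x * z = z * x) := ⟨_, rfl⟩
  have hV : ∀ x, x ∈ V ↔ IsConj z x ∧ v⁻¹ * x ∈ H := fun x => by
    rw [hVdef, Finset.mem_filter, hCC]
  have hB : ∀ x, x ∈ B ↔ IsConj z x ∧ v⁻¹ * x * v ∈ H := fun x => by
    rw [hBdef, Finset.mem_filter, hCC]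
  have hD : ∀ x, x ∈ D ↔ IsConj z x ∧ x ∈ H := fun x => by
    rw [hDdef, Finset.mem_filter, hCC]
  have hI : ∀ x, x ∈ I ↔ IsConj z x ∧ x * z = z * x := fun x => by
    rw [hIdef, Finset.mem_filter, hCC]
  -- (a) |V| is odd
  have hVcard : (V.card : ZMod 2) = 1 := by
    have hmap : ∀ x ∈ V, v * x * v⁻¹ ∈ V := by
      intro x hx
      rw [hV] at hx ⊢
      obtain ⟨hxC, hxH⟩ := hx
      refine ⟨hxC.trans (isConj_iff.mpr ⟨v, rfl⟩), ?_⟩
      have hxi := hinv' x hxC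
      have e1 : v⁻¹ * (v * x * v⁻¹) = x * v⁻¹ := by group
      have e2 : (v⁻¹ * x)⁻¹ = x⁻¹ * v := by group
      have e : v⁻¹ * (v * x * v⁻¹) = (v⁻¹ * x)⁻¹ := by rw [e1, e2, hxi, hvi]
      rw [e]
      exact H.inv_mem hxH
    have hinvol : ∀ x ∈ V, v * (v * x * v⁻¹) * v⁻¹ = x := by
      intro x _
      calc v * (v * x * v⁻¹) * v⁻¹ = (v * v) * x * (v * v)⁻¹ := by group
        _ = x := by rw [hv2]; group
    have h : (V.card : ZMod 2) = ((V.filter (fun x => v * x * v⁻¹ = x)).card : ZMod 2) :=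
      card_invol V (fun x => v * x * v⁻¹) hmap hinvol
    have hf : V.filter (fun x => v * x * v⁻¹ = x) = {v} := by
      ext x
      rw [Finset.mem_filter, Finset.mem_singleton, hV]
      constructor
      · rintro ⟨⟨hxC, hxH⟩, hxv⟩
        by_contra hne
        have hxv' : v * x = x * v := by
          calc v * x = v * x * v⁻¹ * v := by group
            _ = x * v := by rw [hxv]
        have hct : IsConj z (g₀⁻¹ * x * g₀) :=
          hxC.trans (isConj_iff.mpr ⟨g₀⁻¹, by rw [inv_inv]⟩)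
        have hne' : g₀⁻¹ * x * g₀ ≠ z := by
          intro h'
          apply hne
          rw [hv, ← h']
          group
        have hcomm : g₀⁻¹ * x * g₀ * z = z * (g₀⁻¹ * x * g₀) := by
          rw [hv] at hxv'
          calc g₀⁻¹ * x * g₀ * z = g₀⁻¹ * (x * (g₀ * z * g₀⁻¹)) * g₀ := by group
            _ = g₀⁻¹ * ((g₀ * z * g₀⁻¹) * x) * g₀ := by rw [hxv']
            _ = z * (g₀⁻¹ * x * g₀) := by group
        have e : (g₀⁻¹)⁻¹ * (z * (g₀⁻¹ * x * g₀)) * g₀⁻¹ = v⁻¹ * x := by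
          rw [hvi, hv]; group
        have hmem := (h1 _ hct hne' hcomm g₀⁻¹).mp (by rw [e]; exact hxH)
        exact hg₀ (by simpa using H.inv_mem hmem)
      · intro hxv
        rw [hxv]
        exact ⟨⟨hvC, by rw [inv_mul_cancel]; exact H.one_mem⟩, by group⟩
    rw [hf] at h
    simpa using h
  -- (b1) |V| = |B|
  have hnotH : ∀ y : G, v⁻¹ * y ∈ H → y ∉ H := by
    intro y hy hyH
    apply hvH
    have e : v = y * (v⁻¹ * y)⁻¹ := by group
    rw [e]
    exact H.mul_mem hyH (H.inv_mem hy)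
  have hVB : V.card = B.card := by
    apply Finset.card_bij (fun x _ => x * z * x⁻¹)
    · intro x hx
      show x * z * x⁻¹ ∈ B
      rw [hV] at hx
      rw [hB]
      refine ⟨isConj_iff.mpr ⟨x, rfl⟩, ?_⟩
      have e : v⁻¹ * (x * z * x⁻¹) * v = v⁻¹ * x * z * (v⁻¹ * x)⁻¹ := by group
      rw [e]
      exact H.mul_mem (H.mul_mem hx.2 hzH) (H.inv_mem hx.2)
    · intro x hx x' hx' heq
      have heq' : x * z * x⁻¹ = x' * z * x'⁻¹ := heq
      rw [hV] at hx hx'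
      have ho := hoddO x hx.1 (hnotH x hx.2)
      have ho' := hoddO x' hx'.1 (hnotH x' hx'.2)
      have e : (z * x) ^ 2 = z * (x * z * x⁻¹) := by
        rw [pow_two, hinv' x hx.1]; group
      have e' : (z * x') ^ 2 = z * (x' * z * x'⁻¹) := by
        rw [pow_two, hinv' x' hx'.1]; group
      have hsq := sq_inj_odd (z * x) (z * x') ho ho' (by rw [e, e', heq'])
      exact mul_left_cancel hsq
    · intro x₁ hx₁
      rw [hB] at hx₁
      obtain ⟨a, ha⟩ := isConj_iff.mp hx₁.1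
      have hx₁H : x₁ ∉ H := by
        intro hcon
        have h2 : a⁻¹ * v ∈ H := (hfixc a v).mp (by rw [ha]; exact hx₁.2)
        have h3 : a⁻¹ * 1 ∈ H := (hfixc a 1).mp (by rw [ha]; simpa using hcon)
        rw [mul_one] at h3
        apply hvH
        have e : v = (a⁻¹)⁻¹ * (a⁻¹ * v) := by group
        rw [e]
        exact H.mul_mem (H.inv_mem h3) h2
      obtain ⟨y, hy⟩ := sqrt_conj z x₁ hz2 (hinv x₁ hx₁.1) (hoddO x₁ hx₁.1 hx₁H)
      refine ⟨y * z * y⁻¹, ?_, hy⟩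
      rw [hV]
      refine ⟨isConj_iff.mpr ⟨y, rfl⟩, ?_⟩
      obtain ⟨x, hx⟩ : ∃ x, x = y * z * y⁻¹ := ⟨_, rfl⟩
      rw [← hx] at hy ⊢
      have h4 : (x⁻¹ * v)⁻¹ * z * (x⁻¹ * v) ∈ H := by
        have e : (x⁻¹ * v)⁻¹ * z * (x⁻¹ * v) = v⁻¹ * (x * z * x⁻¹) * v := by group
        rw [e, hy]; exact hx₁.2
      have h5 := (hfix (x⁻¹ * v)).mp h4
      have e : v⁻¹ * x = (x⁻¹ * v)⁻¹ := by group
      rw [e]; exact H.inv_mem h5
  -- (b2) |B| = |D|
  have hBD : B.card = D.card := by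
    apply Finset.card_bij (fun x _ => v⁻¹ * x * v)
    · intro x hx
      show v⁻¹ * x * v ∈ D
      rw [hB] at hx
      rw [hD]
      exact ⟨hx.1.trans (isConj_iff.mpr ⟨v⁻¹, by rw [inv_inv]⟩), hx.2⟩
    · intro x _ x' _ heq
      have heq' : v⁻¹ * x * v = v⁻¹ * x' * v := heq
      exact mul_left_cancel (mul_right_cancel heq')
    · intro d hd
      rw [hD] at hd
      refine ⟨v * d * v⁻¹, ?_, ?_⟩
      · rw [hB]
        refine ⟨hd.1.trans (isConj_iff.mpr ⟨v, rfl⟩), ?_⟩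
        have e : v⁻¹ * (v * d * v⁻¹) * v = d := by group
        rw [e]; exact hd.2
      · show v⁻¹ * (v * d * v⁻¹) * v = d
        group
  -- (c), (d)
  have hzmap : ∀ x : G, z * (z * x * z⁻¹) * z⁻¹ = x := by
    intro x
    calc z * (z * x * z⁻¹) * z⁻¹ = (z * z) * x * (z * z)⁻¹ := by group
      _ = x := by rw [hz2]; group
  have hfixiff : ∀ x : G, z * x * z⁻¹ = x ↔ x * z = z * x := by
    intro x
    rw [mul_inv_eq_iff_eq_mul]
    exact eq_comm
  have hDI : (D.card : ZMod 2) = (I.card : ZMod 2) := by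
    have hmap : ∀ x ∈ D, z * x * z⁻¹ ∈ D := by
      intro x hx
      rw [hD] at hx ⊢
      exact ⟨hx.1.trans (isConj_iff.mpr ⟨z, rfl⟩), H.mul_mem (H.mul_mem hzH hx.2) (H.inv_mem hzH)⟩
    have h : (D.card : ZMod 2) = ((D.filter (fun x => z * x * z⁻¹ = x)).card : ZMod 2) :=
      card_invol D (fun x => z * x * z⁻¹) hmap (fun x _ => hzmap x)
    have hf : D.filter (fun x => z * x * z⁻¹ = x) = I := by
      ext x
      rw [Finset.mem_filter, hD, hI, hfixiff]
      constructor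
      · rintro ⟨⟨h1, _⟩, h2⟩; exact ⟨h1, h2⟩
      · rintro ⟨h1, h2⟩; exact ⟨⟨h1, hcent x h2⟩, h2⟩
    rw [hf] at h
    exact h
  have hCI : (CC.card : ZMod 2) = (I.card : ZMod 2) := by
    have hmap : ∀ x ∈ CC, z * x * z⁻¹ ∈ CC := by
      intro x hx
      rw [hCC] at hx ⊢
      exact hx.trans (isConj_iff.mpr ⟨z, rfl⟩)
    have h : (CC.card : ZMod 2) = ((CC.filter (fun x => z * x * z⁻¹ = x)).card : ZMod 2) :=
      card_invol CC (fun x => z * x * z⁻¹) hmap (fun x _ => hzmap x)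
    have hf : CC.filter (fun x => z * x * z⁻¹ = x) = I := by
      ext x
      rw [Finset.mem_filter, hCC, hI, hfixiff]
    rw [hf] at h
    exact h
  have hfinal : (CC.card : ZMod 2) = 1 := by
    rw [hCI, ← hDI, ← hBD, ← hVB]; exact hVcard
  intro hdvd
  have h0 : (CC.card : ZMod 2) = 0 := ZMod.natCast_eq_zero_iff_even.mpr (even_iff_two_dvd.mpr hdvd)
  rw [hfinal] at h0
  exact absurd h0 (by decide)

theorem central_sylow {G : Type*} [Group G] [Finite G] (z : G) (hz2 : z * z = 1) (CC : Finset G)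
    (hCC : ∀ x, x ∈ CC ↔ IsConj z x) (hodd : ¬ 2 ∣ CC.card) :
    ∃ P : Sylow 2 G, z ∈ (Subgroup.center ↥(P : Subgroup G)).map (P : Subgroup G).subtype := by
  classical
  obtain ⟨P₀⟩ : Nonempty (Sylow 2 G) := inferInstance
  letI : MulAction ↥(P₀ : Subgroup G) ↥CC :=
    { smul := fun g x => ⟨(g : G) * (x : G) * (g : G)⁻¹,
        (hCC _).mpr (((hCC _).mp x.2).trans (isConj_iff.mpr ⟨(g : G), rfl⟩))⟩
      one_smul := fun x => Subtype.ext (by
        show ((1 : ↥(P₀ : Subgroup G)) : G) * (x : G) * ((1 : ↥(P₀ : Subgroup G)) : G)⁻¹ = (x : G)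
        simp)
      mul_smul := fun g h x => Subtype.ext (by
        show ((g * h : ↥(P₀ : Subgroup G)) : G) * (x : G) * ((g * h : ↥(P₀ : Subgroup G)) : G)⁻¹
          = (g : G) * ((h : G) * (x : G) * (h : G)⁻¹) * (g : G)⁻¹
        simp [mul_assoc]) }
  have hcard : ¬ 2 ∣ Nat.card ↥CC := by
    rw [Nat.card_eq_fintype_card, Fintype.card_coe]
    exact hodd
  obtain ⟨⟨x, hx⟩, hfixed⟩ := P₀.2.nonempty_fixed_point_of_prime_not_dvd_card ↥CC hcard
  rw [MulAction.mem_fixedPoints] at hfixed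
  have hfx : ∀ g ∈ (P₀ : Subgroup G), g * x * g⁻¹ = x := fun g hg =>
    congrArg Subtype.val (hfixed ⟨g, hg⟩)
  have hxC := (hCC x).mp hx
  obtain ⟨a, ha⟩ := isConj_iff.mp hxC
  have hx2 : x * x = 1 := by
    rw [← ha]
    calc a * z * a⁻¹ * (a * z * a⁻¹) = a * (z * z) * a⁻¹ := by group
      _ = 1 := by rw [hz2]; group
  have hxP : x ∈ (P₀ : Subgroup G) := by
    have hle : (P₀ : Subgroup G) ≤ Subgroup.centralizer ((Subgroup.zpowers x : Subgroup G) : Set G) := by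
      intro g hg
      rw [Subgroup.mem_centralizer_iff]
      intro h hh
      obtain ⟨k, rfl⟩ := Subgroup.mem_zpowers_iff.mp hh
      have hc : Commute g x := by
        show g * x = x * g
        calc g * x = g * x * g⁻¹ * g := by group
          _ = x * g := by rw [hfx g hg]
      exact ((hc.zpow_right k).eq).symm
    have h2 : IsPGroup 2 ((P₀ : Subgroup G) ⊔ Subgroup.zpowers x : Subgroup G) :=
      IsPGroup.to_sup_of_normal_right' P₀.2 (isP2 x hx2)
        (hle.trans (Subgroup.centralizer_le_normalizer _))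
    have h3 := P₀.3 h2 le_sup_left
    have h4 : x ∈ (P₀ : Subgroup G) ⊔ Subgroup.zpowers x :=
      Subgroup.mem_sup_right (Subgroup.mem_zpowers x)
    rw [h3] at h4
    exact h4
  have hK : Nat.card ((P₀ : Subgroup G).map (MulAut.conj a⁻¹).toMonoidHom)
      = 2 ^ (Nat.card G).factorization 2 := by
    rw [Subgroup.card_map_of_injective (f := (MulAut.conj a⁻¹).toMonoidHom) (MulAut.conj a⁻¹).injective]
    exact P₀.card_eq_multiplicity
  have hKmem : ∀ k : G, k ∈ (P₀ : Subgroup G).map (MulAut.conj a⁻¹).toMonoidHom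
      ↔ a * k * a⁻¹ ∈ (P₀ : Subgroup G) := by
    intro k
    rw [mem_conj, inv_inv]
  have hzK : z ∈ (P₀ : Subgroup G).map (MulAut.conj a⁻¹).toMonoidHom := by
    rw [hKmem, ha]; exact hxP
  obtain ⟨P, hP⟩ : ∃ P : Sylow 2 G,
      (P : Subgroup G) = (P₀ : Subgroup G).map (MulAut.conj a⁻¹).toMonoidHom :=
    ⟨Sylow.ofCard _ hK, Sylow.coe_ofCard _ hK⟩
  refine ⟨P, ?_⟩
  have hzP : z ∈ (P : Subgroup G) := by rw [hP]; exact hzK
  refine ⟨⟨z, hzP⟩, ?_, rfl⟩
  refine Subgroup.mem_center_iff.mpr ?_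
  rintro ⟨k, hk⟩
  apply Subtype.ext
  show k * z = z * k
  have hk' : a * k * a⁻¹ ∈ (P₀ : Subgroup G) := (hKmem k).mp (by rw [← hP]; exact hk)
  have hfk := hfx _ hk'
  rw [← ha] at hfk
  have e : k * z * k⁻¹ = a⁻¹ * ((a * k * a⁻¹) * (a * z * a⁻¹) * (a * k * a⁻¹)⁻¹) * a := by group
  have e2 : k * z * k⁻¹ = z := by rw [e, hfk]; group
  calc k * z = k * z * k⁻¹ * k := by group
    _ = z * k := by rw [e2]

/-- Let z be an involution of a finite group G and H a proper subgroup such that z lies in gHg⁻¹ exactly when g ∈ H. Then the following are equivalent: (1) for every conjugate t ≠ z of z commuting with z, the product zt lies in gHg⁻¹ exactly when g ∈ H; (2) z lies in the centre of some Sylow 2-subgroup of G, and for every conjugate t ≠ z of z commuting with z, the centralizer of zt is contained in H. -/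
theorem result {G : Type*} [Group G] [Finite G] (z : G) (hz : orderOf z = 2) (H : Subgroup G) (hH : H ≠ ⊤)
    (h0 : ∀ g : G, z ∈ H.map (MulAut.conj g).toMonoidHom ↔ g ∈ H) :
    (∀ t : G, IsConj z t → t ≠ z → t * z = z * t → ∀ g : G, z * t ∈ H.map (MulAut.conj g).toMonoidHom ↔ g ∈ H) ↔
      ((∃ P : Sylow 2 G, z ∈ (Subgroup.center ↥(P : Subgroup G)).map (P : Subgroup G).subtype) ∧
        ∀ t : G, IsConj z t → t ≠ z → t * z = z * t → Subgroup.centralizer ({z * t} : Set G) ≤ H) := by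
  have hz2 : z * z = 1 := by
    have h := pow_orderOf_eq_one z
    rw [hz, pow_two] at h
    exact h
  have hfix : ∀ g : G, g⁻¹ * z * g ∈ H ↔ g ∈ H := fun g => (mem_conj H g z).symm.trans (h0 g)
  have hzH : z ∈ H := by
    have h := (hfix 1).mpr H.one_mem
    simpa using h
  have hcent : ∀ c : G, c * z = z * c → c ∈ H := by
    intro c hc
    have e : c⁻¹ * z * c = z := by rw [mul_assoc, ← hc, inv_mul_cancel_left]
    exact (hfix c).mp (by rw [e]; exact hzH)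
  have hinv : ∀ x : G, IsConj z x → x * x = 1 := by
    intro x hx
    obtain ⟨a, rfl⟩ := isConj_iff.mp hx
    calc a * z * a⁻¹ * (a * z * a⁻¹) = a * (z * z) * a⁻¹ := by group
      _ = 1 := by rw [hz2]; group
  constructor
  · intro h1
    have h1' : ∀ t : G, IsConj z t → t ≠ z → t * z = z * t →
        ∀ g : G, g⁻¹ * (z * t) * g ∈ H ↔ g ∈ H :=
      fun t a b c g => (mem_conj H g (z * t)).symm.trans (h1 t a b c g)
    refine ⟨?_, ?_⟩
    · obtain ⟨CC, hCC, hodd⟩ := class_odd z hz2 H hH hfix h1'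
      exact central_sylow z hz2 CC hCC hodd
    · intro t hct hne hcomm c hc
      have key := h1' t hct hne hcomm
      have hztH : z * t ∈ H := by
        have h := (key 1).mpr H.one_mem
        simpa using h
      have hcc := Subgroup.mem_centralizer_iff.mp hc (z * t) (Set.mem_singleton _)
      have e : c⁻¹ * (z * t) * c = z * t := by rw [mul_assoc, hcc, inv_mul_cancel_left]
      exact (key c).mp (by rw [e]; exact hztH)
  · rintro ⟨⟨P, hzP⟩, hC⟩
    obtain ⟨zc, hzc, hzeq⟩ := hzP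
    have hzv : (zc : G) = z := hzeq
    have hPc : ∀ g ∈ (P : Subgroup G), g * z = z * g := by
      intro g hg
      have h := congrArg Subtype.val (Subgroup.mem_center_iff.mp hzc ⟨g, hg⟩)
      rw [← hzv]
      exact h
    have hPH : (P : Subgroup G) ≤ H := fun g hg => hcent g (hPc g hg)
    intro t hct hne hcomm g
    rw [mem_conj]
    constructor
    · intro hmem
      have ht2 : t * t = 1 := hinv t hct
      have hzt2 : (z * t) * (z * t) = 1 := by
        calc z * t * (z * t) = z * (t * z) * t := by group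
          _ = z * (z * t) * t := by rw [hcomm]
          _ = (z * z) * (t * t) := by group
          _ = 1 := by rw [hz2, ht2, one_mul]
      have hw2 : (⟨g⁻¹ * (z * t) * g, hmem⟩ : ↥H) * ⟨g⁻¹ * (z * t) * g, hmem⟩ = 1 := by
        apply Subtype.ext
        show g⁻¹ * (z * t) * g * (g⁻¹ * (z * t) * g) = 1
        calc g⁻¹ * (z * t) * g * (g⁻¹ * (z * t) * g) = g⁻¹ * ((z * t) * (z * t)) * g := by group
          _ = 1 := by rw [hzt2]; group
      obtain ⟨⟨h', hh'H⟩, hh⟩ :=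
        Cfsg.Agent.Lead.exists_conj_mem_sylow (P.subtype hPH) (isP2 _ hw2)
      have h1 : (⟨h', hh'H⟩ : ↥H) * ⟨g⁻¹ * (z * t) * g, hmem⟩ * (⟨h', hh'H⟩ : ↥H)⁻¹
          ∈ ((P.subtype hPH : Sylow 2 ↥H) : Subgroup ↥H) :=
        hh _ (Subgroup.mem_zpowers _)
      rw [Sylow.coe_subtype, Subgroup.mem_subgroupOf] at h1
      have h2 : h' * (g⁻¹ * (z * t) * g) * h'⁻¹ ∈ (P : Subgroup G) := h1
      have h3 := hPc _ h2
      have hcz : (h' * g⁻¹)⁻¹ * z * (h' * g⁻¹) ∈ Subgroup.centralizer ({z * t} : Set G) := by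
        rw [Subgroup.mem_centralizer_iff]
        intro y hy
        rw [Set.mem_singleton_iff] at hy
        subst hy
        obtain ⟨s, hs⟩ : ∃ s, s = z * t := ⟨_, rfl⟩
        rw [← hs] at h3 ⊢
        calc s * ((h' * g⁻¹)⁻¹ * z * (h' * g⁻¹))
            = (h' * g⁻¹)⁻¹ * ((h' * (g⁻¹ * s * g) * h'⁻¹) * z) * (h' * g⁻¹) := by group
          _ = (h' * g⁻¹)⁻¹ * (z * (h' * (g⁻¹ * s * g) * h'⁻¹)) * (h' * g⁻¹) := by rw [h3]
          _ = (h' * g⁻¹)⁻¹ * z * (h' * g⁻¹) * s := by group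
      have heH : h' * g⁻¹ ∈ H := (hfix _).mp (hC t hct hne hcomm hcz)
      have hgi : g⁻¹ ∈ H := by
        have h := H.mul_mem (H.inv_mem hh'H) heH
        simpa using h
      simpa using H.inv_mem hgi
    · intro hg
      have htH : t ∈ H := hcent t hcomm
      exact H.mul_mem (H.mul_mem (H.inv_mem hg) (H.mul_mem hzH htH)) hg


end Cfsg.Agent.S1922
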