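import Cfsg.Statements.S2809
import Cfsg.Agent.Helper5.Stability

set_option autoImplicit false
open Cfsg

namespace Cfsg.Agent.S2809

open Cfsg.Agent.Helper5
open scoped commutatorElement

/-- Let H be a finite group, p a prime, R a p-subgroup of H with C_H(R) ≤ R, and L a subgroup of N_H(R) acting nilpotently on R (some iterated commutator [R, L, …, L] is trivial). Then L is a p-group. -/
theorem result {H : Type*} [Group H] [Finite H] {p : ℕ} [Fact p.Prime] (R : Subgroup H) (hR : IsPGroup p ↥R) (hC : Subgroup.centralizer (R : Set H) ≤ R) (L : Subgroup H) (hL : L ≤ Subgroup.normalizer (R : Set H)) (hnil : ∃ n : ℕ, Cfsg.iterCommutator R L n = ⊥) : IsPGroup p ↥L := by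
  obtain ⟨n, hn⟩ := hnil
  have hle : ∀ j, Cfsg.iterCommutator R L j ≤ R := by
    intro j
    induction j with
    | zero => exact le_rfl
    | succ j ih =>
      show ⁅Cfsg.iterCommutator R L j, L⁆ ≤ R
      rw [Subgroup.commutator_le]
      intro r hr l hl
      have h1 : l * r⁻¹ * l⁻¹ ∈ R := (hL hl r⁻¹).1 (R.inv_mem (ih hr))
      have : ⁅r, l⁆ = r * (l * r⁻¹ * l⁻¹) := by simp [commutatorElement_def, mul_assoc]
      rw [this]; exact R.mul_mem (ih hr) h1
  apply isPGroup_of_coprime_elements_trivial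
  intro y hy hcop
  let A : Fin (n + 1) → Subgroup H := fun i => Cfsg.iterCommutator R L (n - (i : ℕ))
  have hA0 : A 0 = ⊥ := by simp [A, hn]
  have hstab : ∀ i : Fin n, ∀ a ∈ A i.succ, y * a * y⁻¹ * a⁻¹ ∈ A i.castSucc := by
    intro i a ha
    have hi : n - (i : ℕ) = (n - ((i : ℕ) + 1)) + 1 := by have := i.2; omega
    show y * a * y⁻¹ * a⁻¹ ∈ Cfsg.iterCommutator R L (n - ((i.castSucc : Fin (n + 1)) : ℕ))
    rw [Fin.val_castSucc, hi]
    show y * a * y⁻¹ * a⁻¹ ∈ ⁅Cfsg.iterCommutator R L (n - ((i : ℕ) + 1)), L⁆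
    have ha' : a ∈ Cfsg.iterCommutator R L (n - ((i : ℕ) + 1)) := by
      have : a ∈ Cfsg.iterCommutator R L (n - ((i.succ : Fin (n + 1)) : ℕ)) := ha
      rwa [Fin.val_succ] at this
    have h2 : ⁅a, y⁆ ∈ ⁅Cfsg.iterCommutator R L (n - ((i : ℕ) + 1)), L⁆ :=
      Subgroup.commutator_mem_commutator ha' hy
    have h3 := Subgroup.inv_mem _ h2
    rw [commutatorElement_inv] at h3
    exact h3
  have hcopA : ∀ i : Fin (n + 1), ∀ a ∈ A i, a ^ orderOf y = 1 → a = 1 := by
    intro i a ha ham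
    exact eq_one_of_pow_coprime R hR (orderOf y) hcop a (hle _ ha) ham
  have hcent := stab_chain_centralizes y (orderOf y) (pow_orderOf_eq_one y) n A hA0 hstab hcopA
    (Fin.last n)
  have hyC : y ∈ Subgroup.centralizer (R : Set H) := by
    rw [Subgroup.mem_centralizer_iff]
    intro r hr
    have : r ∈ A (Fin.last n) := by
      show r ∈ Cfsg.iterCommutator R L (n - ((Fin.last n : Fin (n + 1)) : ℕ))
      rw [Fin.val_last, Nat.sub_self]
      exact hr
    exact (hcent r this).symm
  exact eq_one_of_pow_coprime R hR (orderOf y) hcop y (hC hyC) (pow_orderOf_eq_one y)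

end Cfsg.Agent.S2809
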