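import Cfsg.Statements.S2810
import Cfsg.Agent.Helper5.Stability

set_option autoImplicit false
open Cfsg

namespace Cfsg.Agent.S2810

open Cfsg.Agent.Helper5
open scoped commutatorElement

/-- Let H be a finite group of characteristic p and L a subgroup of H centralizing every factor of some H-invariant chain 1 = A₀ ≤ A₁ ≤ … ≤ Aₙ = O_p(H) of normal subgroups (that is, [A_{i+1}, L] ≤ Aᵢ for each i). Then L ≤ O_p(H). -/
theorem result {H : Type*} [Group H] [Finite H] {p : ℕ} [Fact p.Prime] (hchar : Subgroup.centralizer (Cfsg.pCore p H : Set H) ≤ Cfsg.pCore p H) (L : Subgroup H) (n : ℕ) (A : Fin (n + 1) → Subgroup H) (h0 : A 0 = ⊥) (hn : A (Fin.last n) = Cfsg.pCore p H) (hmono : Monotone A) (hnorm : ∀ i, (A i).Normal) (hcent : ∀ i : Fin n, ⁅A i.succ, L⁆ ≤ A i.castSucc) : L ≤ Cfsg.pCore p H := by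
  let C : Subgroup H :=
    { carrier := {g | ∀ i : Fin n, ∀ a ∈ A i.succ, g * a * g⁻¹ * a⁻¹ ∈ A i.castSucc}
      one_mem' := by
        intro i a _
        simp
      mul_mem' := by
        intro g h hg hh i a ha
        have h1 : h * a * h⁻¹ * a⁻¹ ∈ A i.castSucc := hh i a ha
        have h2 : g * (h * a * h⁻¹ * a⁻¹) * g⁻¹ ∈ A i.castSucc := (hnorm _).conj_mem _ h1 g
        have h3 : g * a * g⁻¹ * a⁻¹ ∈ A i.castSucc := hg i a ha
        have e : g * h * a * (g * h)⁻¹ * a⁻¹ = (g * (h * a * h⁻¹ * a⁻¹) * g⁻¹) * (g * a * g⁻¹ * a⁻¹) := by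
          group
        rw [e]
        exact (A i.castSucc).mul_mem h2 h3
      inv_mem' := by
        intro g hg i a ha
        have hb : g⁻¹ * a * g⁻¹⁻¹ ∈ A i.succ := (hnorm _).conj_mem _ ha g⁻¹
        have h1 := hg i _ hb
        have h2 := (A i.castSucc).inv_mem h1
        have e : (g * (g⁻¹ * a * g⁻¹⁻¹) * g⁻¹ * (g⁻¹ * a * g⁻¹⁻¹)⁻¹)⁻¹ = g⁻¹ * a * g⁻¹⁻¹ * a⁻¹ := by
          group
        rw [e] at h2
        exact h2 }
  have hLC : L ≤ C := by
    intro l hl i a ha
    have h2 : ⁅a, l⁆ ∈ A i.castSucc := hcent i (Subgroup.commutator_mem_commutator ha hl)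
    have h3 := Subgroup.inv_mem _ h2
    rw [commutatorElement_inv] at h3
    exact h3
  have hCn : C.Normal := by
    constructor
    intro g hg h i a ha
    have hb : h⁻¹ * a * h⁻¹⁻¹ ∈ A i.succ := (hnorm _).conj_mem _ ha h⁻¹
    have h1 := hg i _ hb
    have h2 := (hnorm i.castSucc).conj_mem _ h1 h
    have e : h * (g * (h⁻¹ * a * h⁻¹⁻¹) * g⁻¹ * (h⁻¹ * a * h⁻¹⁻¹)⁻¹) * h⁻¹ =
        h * g * h⁻¹ * a * (h * g * h⁻¹)⁻¹ * a⁻¹ := by group
    rw [e] at h2
    exact h2
  have hCp : IsPGroup p C := by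
    apply isPGroup_of_coprime_elements_trivial
    intro y hy hcop
    have hcopA : ∀ i : Fin (n + 1), ∀ a ∈ A i, a ^ orderOf y = 1 → a = 1 := by
      intro i a ha ham
      have haP : a ∈ Cfsg.pCore p H := by
        rw [← hn]; exact hmono (Fin.le_last i) ha
      exact eq_one_of_pow_coprime _ pCore_isPGroup (orderOf y) hcop a haP ham
    have hc := stab_chain_centralizes y (orderOf y) (pow_orderOf_eq_one y) n A h0 hy hcopA
      (Fin.last n)
    have hyC : y ∈ Subgroup.centralizer (Cfsg.pCore p H : Set H) := by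
      rw [Subgroup.mem_centralizer_iff]
      intro r hr
      rw [← hn] at hr
      exact (hc r hr).symm
    exact eq_one_of_pow_coprime _ pCore_isPGroup (orderOf y) hcop y (hchar hyC)
      (pow_orderOf_eq_one y)
  exact hLC.trans (le_pCore C hCn hCp)

end Cfsg.Agent.S2810
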