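import Cfsg.Prelude.Def_PLocal
import Mathlib.GroupTheory.Frattini
import Cfsg.Agent.Helper5.Frattini

namespace Cfsg.Agent.S2818

/-- Let P be a finite p-subgroup of a group G and H a subgroup of N_G(P) with [P, H] ≤ Ω₁(Z(P)) (the elements of order dividing p in the centre of P). Then H centralizes the Frattini subgroup of P. -/
theorem result {G : Type*} [Group G] [Finite G] {p : ℕ} [Fact p.Prime] (P : Subgroup G) (hP : IsPGroup p ↥P) (H : Subgroup G) (hH : H ≤ Subgroup.normalizer (P : Set G)) (h : ⁅P, H⁆ ≤ Cfsg.omegaOne p (P ⊓ Subgroup.centralizer (P : Set G))) : ⁅(frattini ↥P).map P.subtype, H⁆ = ⊥ := by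
  have hp : p.Prime := Fact.out
  have hΩ : ∀ z ∈ Cfsg.omegaOne p (P ⊓ Subgroup.centralizer (P : Set G)),
      z ∈ P ∧ (∀ a ∈ P, a * z = z * a) ∧ z ^ p = 1 := by
    intro z hz
    unfold Cfsg.omegaOne at hz
    induction hz using Subgroup.closure_induction with
    | mem z hz => exact ⟨hz.1.1, fun a ha => (Subgroup.mem_centralizer_iff.1 hz.1.2 a ha), hz.2⟩
    | one => exact ⟨P.one_mem, by simp, one_pow p⟩
    | mul x y _ _ hx hy =>
      refine ⟨P.mul_mem hx.1 hy.1, ?_, ?_⟩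
      · intro a ha; rw [← mul_assoc, hx.2.1 a ha, mul_assoc, hy.2.1 a ha, mul_assoc]
      · have hc : Commute x y := hy.2.1 x hx.1
        rw [hc.mul_pow, hx.2.2, hy.2.2, one_mul]
    | inv x _ hx =>
      refine ⟨P.inv_mem hx.1, ?_, by rw [inv_pow, hx.2.2, inv_one]⟩
      intro a ha
      exact (Commute.inv_right (show Commute a x from hx.2.1 a ha)).eq
  rw [Subgroup.commutator_eq_bot_iff_le_centralizer]
  rintro _ ⟨x, hx, rfl⟩
  refine Subgroup.mem_centralizer_iff.2 ?_
  intro k hk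
  have hc : ∀ a ∈ P, a * k * a⁻¹ * k⁻¹ ∈ Cfsg.omegaOne p (P ⊓ Subgroup.centralizer (P : Set G)) :=
    fun a ha => h (Subgroup.commutator_mem_commutator ha hk)
  let c : ↥P →* G := MonoidHom.mk' (fun a => (a : G) * k * (a : G)⁻¹ * k⁻¹) (by
    intro a b
    have hb := hΩ _ (hc b b.2)
    have ha := hΩ _ (hc a a.2)
    have e : ((a * b : ↥P) : G) * k * ((a * b : ↥P) : G)⁻¹ * k⁻¹ =
        ((a : G) * ((b : G) * k * (b : G)⁻¹ * k⁻¹)) * (a : G)⁻¹ * ((a : G) * k * (a : G)⁻¹ * k⁻¹) := by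
      simp only [Subgroup.coe_mul]; group
    rw [e, hb.2.1 a a.2, mul_assoc _ (a : G) _, mul_inv_cancel, mul_one]
    exact (hb.2.1 _ ha.1).symm)
  have hker : frattini ↥P ≤ c.ker := by
    apply Cfsg.Agent.Helper5.frattini_le_of_elementary_quotient hp
    · intro a b
      have hb := hΩ _ (hc b b.2)
      have ha := hΩ _ (hc a a.2)
      have hcomm : c a * c b = c b * c a := hb.2.1 _ ha.1
      rw [MonoidHom.mem_ker, map_mul, map_mul, map_mul, map_inv, map_inv, hcomm]
      group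
    · intro a
      rw [MonoidHom.mem_ker, map_pow]
      exact (hΩ _ (hc a a.2)).2.2
  have hx1 : c x = 1 := hker hx
  have hx2 : (x : G) * k * (x : G)⁻¹ * k⁻¹ = 1 := hx1
  show k * (x : G) = (x : G) * k
  have e : (x : G) * k = ((x : G) * k * (x : G)⁻¹ * k⁻¹) * (k * (x : G)) := by group
  rw [e, hx2, one_mul]

end Cfsg.Agent.S2818
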