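import Cfsg.Prelude.Def_PLocal
import Mathlib.GroupTheory.IsSubnormal
import Cfsg.Agent.Helper5.PRes

namespace Cfsg.Agent.S2820

open Cfsg.Agent.Helper5 in
/-- Let A and B be subnormal subgroups of the finite group H with A a p-group and B = O^p(B) (B generated by its elements of order prime to p). Then A normalizes B and B = O^p(AB), the subgroup of ⟨A, B⟩ generated by its elements of order prime to p. -/
theorem result {H : Type*} [Group H] [Finite H] {p : ℕ} [Fact p.Prime] (A B : Subgroup H) (hA : A.IsSubnormal) (hB : B.IsSubnormal) (hAp : IsPGroup p ↥A) (hBres : (Cfsg.pResidual p ↥B).map B.subtype = B) : A ≤ Subgroup.normalizer (B : Set H) ∧ (Cfsg.pResidual p ↥(A ⊔ B)).map (A ⊔ B).subtype = B := by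
  have hAO : A ≤ Cfsg.pCore p H :=
    (le_pCoreMap A A le_rfl Subgroup.le_normalizer hAp).trans (pCoreMap_le_pCore_of_isSubnormal A hA)
  haveI := pCore_normal p H
  have hPB := le_normalizer_pResidualMap_of_isSubnormal (Cfsg.pCore p H) pCore_isPGroup B hB
  rw [hBres] at hPB
  have hAB : A ≤ Subgroup.normalizer (B : Set H) := hAO.trans hPB
  refine ⟨hAB, ?_⟩
  apply le_antisymm
  · rw [pResidualMap_eq_closure, Subgroup.closure_le]
    rintro x ⟨hx, hc⟩
    rw [sup_comm] at hx
    exact mem_of_coprime_of_mem_sup B A hAp hAB x hx hc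
  · calc B = (Cfsg.pResidual p ↥B).map B.subtype := hBres.symm
      _ ≤ _ := pResidualMap_mono p le_sup_right

end Cfsg.Agent.S2820
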