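import Cfsg.Prelude.Def_LocalStructure
import Cfsg.Agent.Helper5.PIrr3

namespace Cfsg.Agent.S2827

open Cfsg.Agent.Helper5 in
open scoped commutatorElement in
/-- Let H be a finite p-irreducible group (not p-closed, and O^p(H) lies in every normal subgroup that is not p-closed) and T a Sylow p-subgroup. Then H is generated by the conjugates of T and H = H'·T; O^p(H) ≤ H'; and for every normal subgroup Y of T not contained in O_p(H), O^p(H) = [O^p(H), Y] and O^p(H) is contained in the normal closure of Y in H. -/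
theorem result {H : Type*} [Group H] [Finite H] {p : ℕ} [Fact p.Prime] (hH : Cfsg.IsPIrreducible p H) (T : Sylow p H) : Subgroup.normalClosure ((T : Subgroup H) : Set H) = ⊤ ∧ commutator H ⊔ (T : Subgroup H) = ⊤ ∧ Cfsg.pResidual p H ≤ commutator H ∧ ∀ Y : Subgroup H, Y ≤ (T : Subgroup H) → (T : Subgroup H) ≤ Subgroup.normalizer (Y : Set H) → ¬ Y ≤ Cfsg.pCore p H → ⁅Cfsg.pResidual p H, Y⁆ = Cfsg.pResidual p H ∧ Cfsg.pResidual p H ≤ Subgroup.normalClosure (Y : Set H) := by
  obtain ⟨hncl, hirr⟩ := hH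
  have hRn : (Cfsg.pResidual p H).Normal := pResidual_normal' p
  have hRT : Cfsg.pResidual p H ⊔ (T : Subgroup H) = ⊤ :=
    sup_sylow_eq_top_of_pResidual_le _ le_rfl T
  have h1 : Subgroup.normalClosure ((T : Subgroup H) : Set H) = ⊤ := by
    have hN : ¬ Cfsg.IsPClosed p ↥(Subgroup.normalClosure ((T : Subgroup H) : Set H)) :=
      not_isPClosed_of_sylow_le hncl T _ Subgroup.le_normalClosure
    have hR := hirr _ Subgroup.normalClosure_normal hN
    rw [eq_top_iff, ← hRT]
    exact sup_le hR Subgroup.le_normalClosure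
  have h2 : commutator H ⊔ (T : Subgroup H) = ⊤ := by
    have hn := normal_of_commutator_le (commutator H ⊔ (T : Subgroup H)) le_sup_left
    rw [eq_top_iff, ← h1]
    exact Subgroup.normalClosure_le_normal (fun x hx => (le_sup_right : (T : Subgroup H) ≤ commutator H ⊔ (T : Subgroup H)) hx)
  have h3 : Cfsg.pResidual p H ≤ commutator H :=
    pResidual_le_of_isPGroup_quotient _ (isPGroup_quotient_of_sup_eq_top _ T T.2 h2)
  refine ⟨h1, h2, h3, ?_⟩
  intro Y hYT hTY hYO
  have hYp : IsPGroup p Y := T.2.to_le hYT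
  have hN : ¬ Cfsg.IsPClosed p ↥(Subgroup.normalClosure (Y : Set H)) := by
    intro hcl
    apply hYO
    have h4 := le_inf_of_isPClosed T _ hcl Y hYp Subgroup.le_normalClosure
    have h5 := inf_normal_of_isPClosed T (Subgroup.normalClosure (Y : Set H)) hcl
    exact h4.trans (le_pCore _ h5 (T.2.to_le inf_le_left))
  have hR := hirr _ Subgroup.normalClosure_normal hN
  refine ⟨?_, hR⟩
  apply le_antisymm (Subgroup.commutator_le_left _ _)
  have hYK : Y ≤ Subgroup.normalizer ((⁅Cfsg.pResidual p H, Y⁆ : Subgroup H) : Set H) := by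
    intro y hy
    rw [mem_normalizer_iff_conj_eq, Subgroup.map_commutator,
      (mem_normalizer_iff_conj_eq Y y).1 (Subgroup.le_normalizer hy),
      (mem_normalizer_iff_conj_eq _ y).1
        (by rw [Subgroup.normalizer_eq_top_iff.2 hRn]; exact Subgroup.mem_top y)]
  have hNK : Subgroup.normalClosure (Y : Set H) ≤ ⁅Cfsg.pResidual p H, Y⁆ ⊔ Y := by
    unfold Subgroup.normalClosure
    rw [Subgroup.closure_le]
    intro x hx
    obtain ⟨y, hy, hc⟩ := Group.mem_conjugatesOfSet_iff.1 hx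
    obtain ⟨h, rfl⟩ := isConj_iff.1 hc
    have hh : h ∈ Cfsg.pResidual p H ⊔ (T : Subgroup H) := hRT ▸ Subgroup.mem_top h
    rw [← SetLike.mem_coe, Subgroup.normal_mul] at hh
    obtain ⟨r, hr, t, ht, rfl⟩ := Set.mem_mul.1 hh
    have hy' : t * y * t⁻¹ ∈ Y := (Subgroup.mem_normalizer_iff.1 (hTY ht) y).1 hy
    have e : r * t * y * (r * t)⁻¹ = ⁅r, t * y * t⁻¹⁆ * (t * y * t⁻¹) := by
      rw [commutatorElement_def]; group
    show r * t * y * (r * t)⁻¹ ∈ ⁅Cfsg.pResidual p H, Y⁆ ⊔ Y
    rw [e]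
    exact Subgroup.mul_mem _
      (le_sup_left (b := Y) (Subgroup.commutator_mem_commutator hr hy'))
      (le_sup_right (a := ⁅Cfsg.pResidual p H, Y⁆) hy')
  have hle : Subgroup.closure {g : H | Nat.Coprime (orderOf g) p} ≤ ⁅Cfsg.pResidual p H, Y⁆ := by
    rw [Subgroup.closure_le]
    intro x hx0
    have hxR : x ∈ Cfsg.pResidual p H := Subgroup.subset_closure hx0
    exact mem_of_coprime_of_mem_sup _ Y hYp hYK x (hNK (hR hxR)) hx0
  exact hle

end Cfsg.Agent.S2827
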