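import Cfsg.Statements.S2829
import Cfsg.Agent.Helper5.Basic

set_option autoImplicit false
open Cfsg

namespace Cfsg.Agent.S2829

open Cfsg.Agent.Helper5
open scoped commutatorElement

/-- Every strongly p-irreducible finite group is p-irreducible. -/
theorem result {H : Type*} [Group H] [Finite H] {p : ℕ} [Fact p.Prime] (hH : Cfsg.IsStronglyPIrreducible p H) : Cfsg.IsPIrreducible p H := by
  refine ⟨hH.1, ?_⟩
  intro N hN hNc
  apply hH.2 N hN
  intro hle
  apply hNc
  intro P
  constructor
  intro x hx n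
  -- the commutator n x n⁻¹ x⁻¹ lies in N ∩ O_p(H)
  set D : Subgroup N := (Cfsg.pCore p H).subgroupOf N with hD
  have hDn : D.Normal := by
    haveI := pCore_normal p H
    exact Subgroup.Normal.subgroupOf (pCore_normal p H) N
  have hDp : IsPGroup p D := (pCore_isPGroup (G := H) (p := p)).comap_subtype
  have hDP : D ≤ (P : Subgroup N) := (le_pCore D hDn hDp).trans (pCore_le_sylow P)
  have hc : n * x * n⁻¹ * x⁻¹ ∈ D := by
    rw [hD, Subgroup.mem_subgroupOf]
    have h1 : ⁅(n : H), (x : H)⁆ ∈ ⁅N, (⊤ : Subgroup H)⁆ :=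
      Subgroup.commutator_mem_commutator n.2 (Subgroup.mem_top _)
    have h2 := hle h1
    simpa [commutatorElement_def] using h2
  have h3 : n * x * n⁻¹ = (n * x * n⁻¹ * x⁻¹) * x := by group
  rw [h3]
  exact (P : Subgroup N).mul_mem (hDP hc) hx

end Cfsg.Agent.S2829
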