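import Cfsg.Prelude.Def_LocalStructure
import Cfsg.Agent.Helper5.PIrr

namespace Cfsg.Agent.S2831

open Cfsg.Agent.Helper5 in
/-- Let H be a finite group with Sylow p-subgroup T such that H is T-minimal (H is generated by the conjugates of T and T lies in exactly one maximal subgroup of H). Then H is p-irreducible: H is not p-closed and O^p(H) lies in every normal subgroup of H that is not p-closed. -/
theorem result {H : Type*} [Group H] [Finite H] {p : ℕ} [Fact p.Prime] (T : Sylow p H) (hmin : Cfsg.IsMinimalOver (T : Subgroup H)) : Cfsg.IsPIrreducible p H := by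
  obtain ⟨hnc, M, ⟨hMc, hTM⟩, huniq⟩ := hmin
  refine ⟨?_, ?_⟩
  · intro hcl
    have hTn := hcl T
    have h1 : (T : Subgroup H) = ⊤ := by
      rw [← hnc]; exact (Subgroup.normalClosure_eq_self (T : Subgroup H)).symm
    exact hMc.1 (top_le_iff.1 (h1 ▸ hTM))
  · intro N hN hNcl
    have hNT : N ⊔ (T : Subgroup H) = ⊤ := by
      by_contra hne
      have hNM : N ⊔ (T : Subgroup H) ≤ M :=
        le_of_unique_coatom (T : Subgroup H) M (fun M' h' => huniq M' h') _ le_sup_right hne
      have h1 := normalizer_inf_sup_eq_top T N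
      by_cases h2 : Subgroup.normalizer (((T : Subgroup H) ⊓ N : Subgroup H) : Set H) = ⊤
      · exact hNcl (isPClosed_of_inf_normal T N (Subgroup.normalizer_eq_top_iff.1 h2))
      · have hTn : (T : Subgroup H) ≤ Subgroup.normalizer (((T : Subgroup H) ⊓ N : Subgroup H) : Set H) :=
          le_normalizer_inf _ _ _ Subgroup.le_normalizer
            (by rw [Subgroup.normalizer_eq_top_iff.2 hN]; exact le_top)
        have h3 := le_of_unique_coatom (T : Subgroup H) M (fun M' h' => huniq M' h') _ hTn h2
        have h4 : (⊤ : Subgroup H) ≤ M := h1 ▸ sup_le h3 (le_sup_left.trans hNM)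
        exact hMc.1 (top_le_iff.1 h4)
    exact pResidual_le_of_isPGroup_quotient N (isPGroup_quotient_of_sup_eq_top N T T.2 hNT)

end Cfsg.Agent.S2831
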