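import Cfsg.Prelude.Def_LocalStructure
import Cfsg.Agent.Helper5.PIrr
import Cfsg.Agent.Helper5.PIrr2

namespace Cfsg.Agent.S2832

open Cfsg.Agent.Helper5 in
/-- Let H be a finite group with Sylow p-subgroup T such that H is T-minimal (generated by the conjugates of T, with T in exactly one maximal subgroup), and let N be a normal subgroup of H. Then either H/N is a p-group or H/N is minimal over the image of T in the same sense. -/
theorem result {H : Type*} [Group H] [Finite H] {p : ℕ} [Fact p.Prime] (T : Sylow p H) (hmin : Cfsg.IsMinimalOver (T : Subgroup H)) (N : Subgroup H) [N.Normal] : IsPGroup p (H ⧸ N) ∨ Cfsg.IsMinimalOver ((T : Subgroup H).map (QuotientGroup.mk' N)) := by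
  obtain ⟨hnc, M, ⟨hMc, hTM⟩, huniq⟩ := hmin
  have hs := QuotientGroup.mk'_surjective N
  by_cases hNT : N ⊔ (T : Subgroup H) = ⊤
  · left; exact isPGroup_quotient_of_sup_eq_top N T T.2 hNT
  right
  have hNM : N ⊔ (T : Subgroup H) ≤ M :=
    le_of_unique_coatom (T : Subgroup H) M (fun M' h' => huniq M' h') _ le_sup_right hNT
  have hN : N ≤ M := le_sup_left.trans hNM
  refine ⟨?_, M.map (QuotientGroup.mk' N), ⟨isCoatom_map_mk N M hN hMc, Subgroup.map_mono hTM⟩, ?_⟩
  · have h1 := Subgroup.map_normalClosure ((T : Subgroup H) : Set H) (QuotientGroup.mk' N) hs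
    rw [hnc, Subgroup.map_top_of_surjective _ hs] at h1
    rw [Subgroup.coe_map]; exact h1.symm
  · rintro K ⟨hKc, hTK⟩
    have h1 := isCoatom_comap_mk N K hKc
    have h2 : (T : Subgroup H) ≤ K.comap (QuotientGroup.mk' N) := by
      rw [← Subgroup.map_le_iff_le_comap]; exact hTK
    have h3 := huniq _ ⟨h1, h2⟩
    rw [← h3, Subgroup.map_comap_eq_self_of_surjective hs]

end Cfsg.Agent.S2832
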