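import Mathlib.GroupTheory.Commutator.Basic
import Mathlib.Algebra.Group.Subgroup.Pointwise
import Cfsg.Agent.Helper5.Basic

namespace Cfsg.Agent.S2833

open Cfsg.Agent.Helper5
open scoped commutatorElement

theorem norm_aux {G : Type*} [Group G] [Finite G] (V X Y : Subgroup G)
    (hX : X ≤ Subgroup.normalizer (V : Set G)) (hY : Y ≤ Subgroup.normalizer (V : Set G)) :
    X ≤ Subgroup.normalizer ((⁅V, X⁆ ⊔ ⁅V, Y⁆ : Subgroup G) : Set G) := by
  intro x hx
  apply mem_normalizer_of_conj_le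
  rw [Subgroup.map_sup]
  apply sup_le
  · rw [Subgroup.map_commutator, (mem_normalizer_iff_conj_eq V x).1 (hX hx),
      (mem_normalizer_iff_conj_eq X x).1 (Subgroup.le_normalizer hx)]
    exact le_sup_left
  · rw [Subgroup.map_le_iff_le_comap, Subgroup.commutator_le]
    intro v hv y hy
    show x * ⁅v, y⁆ * x⁻¹ ∈ ⁅V, X⁆ ⊔ ⁅V, Y⁆
    have hcV : ⁅v, y⁆ ∈ V := by
      rw [commutatorElement_def]
      have h1 : y * v⁻¹ * y⁻¹ ∈ V := (Subgroup.mem_normalizer_iff.1 (hY hy) _).1 (V.inv_mem hv)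
      have e : v * y * v⁻¹ * y⁻¹ = v * (y * v⁻¹ * y⁻¹) := by group
      rw [e]; exact V.mul_mem hv h1
    have h2 : ⁅⁅v, y⁆, x⁆ ∈ ⁅V, X⁆ := Subgroup.commutator_mem_commutator hcV hx
    have h3 : ⁅v, y⁆ ∈ ⁅V, Y⁆ := Subgroup.commutator_mem_commutator hv hy
    have e : x * ⁅v, y⁆ * x⁻¹ = (⁅⁅v, y⁆, x⁆)⁻¹ * ⁅v, y⁆ := by
      simp only [commutatorElement_def]; group
    rw [e]
    exact Subgroup.mul_mem _ (Subgroup.inv_mem _ (le_sup_left (b := ⁅V, Y⁆) h2))
      (le_sup_right (a := ⁅V, X⁆) h3)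

/-- Let V be a subgroup of a finite group G normalized by the subgroup L, let X ≤ L and g ∈ L with [V, X, X] = 1 and L generated by X and gXg⁻¹. Put W = [V, L]. Then W = [V, X]·[V, gXg⁻¹], C_W(X) = [V, X], and C_W(L) = [V, X] ∩ [V, gXg⁻¹]. -/
theorem result {G : Type*} [Group G] [Finite G] (V L : Subgroup G) (hLV : L ≤ Subgroup.normalizer (V : Set G)) (X : Subgroup G) (hX : X ≤ L) (g : G) (hg : g ∈ L) (hq : ⁅⁅V, X⁆, X⁆ = ⊥) (hgen : X ⊔ X.map (MulAut.conj g).toMonoidHom = L) (W : Subgroup G) (hW : W = ⁅V, L⁆) : ⁅V, X⁆ ⊔ ⁅V, X.map (MulAut.conj g).toMonoidHom⁆ = W ∧ W ⊓ Subgroup.centralizer (X : Set G) = ⁅V, X⁆ ∧ W ⊓ Subgroup.centralizer (L : Set G) = ⁅V, X⁆ ⊓ ⁅V, X.map (MulAut.conj g).toMonoidHom⁆ := by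
  have hY : X.map (MulAut.conj g).toMonoidHom ≤ L := by rw [← hgen]; exact le_sup_right
  have hgV : V.map (MulAut.conj g).toMonoidHom = V := (mem_normalizer_iff_conj_eq V g).1 (hLV hg)
  have hconj : ⁅V, X.map (MulAut.conj g).toMonoidHom⁆ = (⁅V, X⁆).map (MulAut.conj g).toMonoidHom := by
    rw [Subgroup.map_commutator, hgV]
  have hXc : ⁅V, X⁆ ≤ Subgroup.centralizer (X : Set G) :=
    Subgroup.commutator_eq_bot_iff_le_centralizer.1 hq
  have hYc : ⁅V, X.map (MulAut.conj g).toMonoidHom⁆ ≤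
      Subgroup.centralizer ((X.map (MulAut.conj g).toMonoidHom : Subgroup G) : Set G) := by
    apply Subgroup.commutator_eq_bot_iff_le_centralizer.1
    rw [hconj, ← Subgroup.map_commutator, hq, Subgroup.map_bot]
  have hLU : L ≤ Subgroup.normalizer ((⁅V, X⁆ ⊔ ⁅V, X.map (MulAut.conj g).toMonoidHom⁆ : Subgroup G) : Set G) := by
    rw [← hgen]
    apply sup_le
    · exact norm_aux V X _ (hX.trans hLV) (hY.trans hLV)
    · have := norm_aux V (X.map (MulAut.conj g).toMonoidHom) X (hY.trans hLV) (hX.trans hLV)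
      rwa [sup_comm] at this
  have ha : ⁅V, X⁆ ⊔ ⁅V, X.map (MulAut.conj g).toMonoidHom⁆ = W := by
    apply le_antisymm
    · rw [hW]
      exact sup_le (Subgroup.commutator_mono le_rfl hX) (Subgroup.commutator_mono le_rfl hY)
    · rw [hW, Subgroup.commutator_le]
      intro v hv l hl
      have hl' : l ∈ Subgroup.closure ((X : Set G) ∪ (X.map (MulAut.conj g).toMonoidHom : Subgroup G)) := by
        rw [Subgroup.closure_union, Subgroup.closure_eq, Subgroup.closure_eq, hgen]; exact hl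
      have hcl : Subgroup.closure ((X : Set G) ∪ (X.map (MulAut.conj g).toMonoidHom : Subgroup G)) = L := by
        rw [Subgroup.closure_union, Subgroup.closure_eq, Subgroup.closure_eq, hgen]
      clear hl
      revert v
      induction hl' using Subgroup.closure_induction with
      | mem l hl =>
        intro v hv
        rcases hl with hl | hl
        · exact le_sup_left (b := ⁅V, X.map (MulAut.conj g).toMonoidHom⁆)
            (Subgroup.commutator_mem_commutator hv hl)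
        · exact le_sup_right (a := ⁅V, X⁆) (Subgroup.commutator_mem_commutator hv hl)
      | one =>
        intro v hv
        rw [commutatorElement_def]; simp
      | mul l₁ l₂ h₁ h₂ ih₁ ih₂ =>
        intro v hv
        have e : ⁅v, l₁ * l₂⁆ = ⁅v, l₁⁆ * (l₁ * ⁅v, l₂⁆ * l₁⁻¹) := by
          simp only [commutatorElement_def]; group
        rw [e]
        refine Subgroup.mul_mem _ (ih₁ v hv) ?_
        exact (Subgroup.mem_normalizer_iff.1 (hLU (hcl ▸ h₁)) _).1 (ih₂ v hv)
      | inv l h₁ ih =>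
        intro v hv
        have e : ⁅v, l⁻¹⁆ = l⁻¹ * (⁅v, l⁆)⁻¹ * l⁻¹⁻¹ := by
          simp only [commutatorElement_def]; group
        rw [e]
        have hl1 : l⁻¹ ∈ L := L.inv_mem (hcl ▸ h₁)
        exact (Subgroup.mem_normalizer_iff.1 (hLU hl1) _).1 (Subgroup.inv_mem _ (ih v hv))
  have hVX : ∀ Z : Subgroup G, Z ≤ Subgroup.normalizer (V : Set G) → ⁅V, Z⁆ ≤ V := by
    intro Z hZ
    rw [Subgroup.commutator_le]
    intro v hv y hy
    rw [commutatorElement_def]
    have h1 : y * v⁻¹ * y⁻¹ ∈ V := (Subgroup.mem_normalizer_iff.1 (hZ hy) _).1 (V.inv_mem hv)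
    have e : v * y * v⁻¹ * y⁻¹ = v * (y * v⁻¹ * y⁻¹) := by group
    rw [e]; exact V.mul_mem hv h1
  have hVn : V ≤ Subgroup.normalizer ((⁅V, X⁆ : Subgroup G) : Set G) := by
    intro v hv
    apply mem_normalizer_of_conj_le
    rw [Subgroup.map_le_iff_le_comap, Subgroup.commutator_le]
    intro u hu x hx
    show v * ⁅u, x⁆ * v⁻¹ ∈ ⁅V, X⁆
    have e : v * ⁅u, x⁆ * v⁻¹ = ⁅v * u, x⁆ * (⁅v, x⁆)⁻¹ := by
      simp only [commutatorElement_def]; group
    rw [e]
    exact Subgroup.mul_mem _ (Subgroup.commutator_mem_commutator (V.mul_mem hv hu) hx)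
      (Subgroup.inv_mem _ (Subgroup.commutator_mem_commutator hv hx))
  have hgcomm : ∀ b : G, b ∈ Subgroup.centralizer (X : Set G) →
      b ∈ Subgroup.centralizer ((X.map (MulAut.conj g).toMonoidHom : Subgroup G) : Set G) →
      ∀ l ∈ L, l * b = b * l := by
    intro b hb1 hb2 l hl
    have h1 : X ⊔ X.map (MulAut.conj g).toMonoidHom ≤ Subgroup.centralizer ({b} : Set G) := by
      apply sup_le
      · intro x hx
        exact (mem_centralizer_singleton_iff b x).2 (Subgroup.mem_centralizer_iff.1 hb1 x hx)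
      · intro x hx
        exact (mem_centralizer_singleton_iff b x).2 (Subgroup.mem_centralizer_iff.1 hb2 x hx)
    rw [hgen] at h1
    exact (mem_centralizer_singleton_iff b l).1 (h1 hl)
  have hb : W ⊓ Subgroup.centralizer (X : Set G) = ⁅V, X⁆ := by
    apply le_antisymm
    · intro w hw
      obtain ⟨hwW, hwC⟩ := Subgroup.mem_inf.1 hw
      rw [← ha] at hwW
      have hn : ⁅V, X.map (MulAut.conj g).toMonoidHom⁆ ≤ Subgroup.normalizer ((⁅V, X⁆ : Subgroup G) : Set G) :=
        (hVX _ (hY.trans hLV)).trans hVn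
      rw [← SetLike.mem_coe, Subgroup.coe_mul_of_right_le_normalizer_left _ _ hn] at hwW
      obtain ⟨a, ha', b, hb', rfl⟩ := Set.mem_mul.1 hwW
      have hbC : b ∈ Subgroup.centralizer (X : Set G) := by
        have e : b = a⁻¹ * (a * b) := by group
        rw [e]; exact Subgroup.mul_mem _ (Subgroup.inv_mem _ (hXc ha')) hwC
      have hbg := hgcomm b hbC (hYc hb') g hg
      have hb2 : b ∈ ⁅V, X⁆ := by
        have h5 : b ∈ (⁅V, X⁆).map (MulAut.conj g).toMonoidHom := by rw [← hconj]; exact hb'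
        have h6 := (mem_conj_iff _ g b).1 h5
        have e : g⁻¹ * b * g = b := by rw [mul_assoc, ← hbg]; group
        rwa [e] at h6
      exact Subgroup.mul_mem _ ha' hb2
    · apply le_inf _ hXc
      rw [← ha]; exact le_sup_left
  refine ⟨ha, hb, ?_⟩
  apply le_antisymm
  · intro w hw
    obtain ⟨hwW, hwC⟩ := Subgroup.mem_inf.1 hw
    have h1 : w ∈ ⁅V, X⁆ := by
      rw [← hb]; exact ⟨hwW, Subgroup.centralizer_le hX hwC⟩
    refine Subgroup.mem_inf.2 ⟨h1, ?_⟩
    rw [hconj]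
    refine (mem_conj_iff _ g w).2 ?_
    have hwg : g * w = w * g := Subgroup.mem_centralizer_iff.1 hwC g hg
    have e : g⁻¹ * w * g = w := by rw [mul_assoc, ← hwg]; group
    rw [e]; exact h1
  · intro w hw
    obtain ⟨hw1, hw2⟩ := Subgroup.mem_inf.1 hw
    refine Subgroup.mem_inf.2 ⟨?_, ?_⟩
    · rw [← ha]; exact le_sup_left (b := ⁅V, X.map (MulAut.conj g).toMonoidHom⁆) hw1
    · refine Subgroup.mem_centralizer_iff.2 ?_
      intro l hl
      exact hgcomm w (hXc hw1) (hYc hw2) l hl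

end Cfsg.Agent.S2833
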