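import Cfsg.Prelude.Def_LocalStructure
import Cfsg.Agent.Helper5.PIrr
import Cfsg.Agent.Helper5.PIrr2

namespace Cfsg.Agent.S2835

open Cfsg.Agent.Helper5 in
/-- Let L be a finite group, L₀ a maximal subgroup, T a Sylow p-subgroup of L₀ and Y ≤ T, and suppose L is Y-minimal (generated by the conjugates of Y, with Y in exactly one maximal subgroup, necessarily L₀). Then N_L(T) ≤ L₀, O_p(L) ≤ L₀ and T is a Sylow p-subgroup of L; N_L(L₀) = L₀; L = ⟨Y, gYg⁻¹⟩ for each g ∈ L outside L₀; and if Y is abelian then Y ∩ gYg⁻¹ = C_Y(L) for each such g. -/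
theorem result {L : Type*} [Group L] [Finite L] {p : ℕ} [Fact p.Prime] (L₀ : Subgroup L) (hL₀ : IsCoatom L₀) (T : Sylow p ↥L₀) (Y : Subgroup L) (hYT : Y ≤ (T : Subgroup ↥L₀).map L₀.subtype) (hmin : Cfsg.IsMinimalOver Y) : Subgroup.normalizer (((T : Subgroup ↥L₀).map L₀.subtype : Subgroup L) : Set L) ≤ L₀ ∧ Cfsg.pCore p L ≤ L₀ ∧ (∃ P : Sylow p L, (P : Subgroup L) = (T : Subgroup ↥L₀).map L₀.subtype) ∧ Subgroup.normalizer (L₀ : Set L) = L₀ ∧ (∀ g : L, g ∉ L₀ → Y ⊔ Y.map (MulAut.conj g).toMonoidHom = ⊤) ∧ (IsMulCommutative ↥Y → ∀ g : L, g ∉ L₀ → Y ⊓ Y.map (MulAut.conj g).toMonoidHom = Y ⊓ Subgroup.center L) := by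
  obtain ⟨hnc, M, ⟨hMc, hYM⟩, huniq⟩ := hmin
  have hT'L₀ : (T : Subgroup ↥L₀).map L₀.subtype ≤ L₀ := by rintro _ ⟨x, -, rfl⟩; exact x.2
  have hYL₀ : Y ≤ L₀ := hYT.trans hT'L₀
  have hML₀ : L₀ = M := huniq L₀ ⟨hL₀, hYL₀⟩
  have hle : ∀ K : Subgroup L, Y ≤ K → K ≠ ⊤ → K ≤ L₀ := fun K hK hne =>
    hML₀ ▸ le_of_unique_coatom Y M (fun M' h' => huniq M' h') K hK hne
  have hT'p : IsPGroup p ((T : Subgroup ↥L₀).map L₀.subtype) := T.2.map _
  have h1 : Subgroup.normalizer (((T : Subgroup ↥L₀).map L₀.subtype : Subgroup L) : Set L) ≤ L₀ := by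
    apply hle _ (hYT.trans Subgroup.le_normalizer)
    intro htop
    have hn : ((T : Subgroup ↥L₀).map L₀.subtype).Normal := Subgroup.normalizer_eq_top_iff.1 htop
    have h2 : Subgroup.normalClosure (Y : Set L) ≤ (T : Subgroup ↥L₀).map L₀.subtype :=
      Subgroup.normalClosure_le_normal hYT
    rw [hnc] at h2
    exact hL₀.1 (top_le_iff.1 (h2.trans hT'L₀))
  have h3 : ∃ P : Sylow p L, (P : Subgroup L) = (T : Subgroup ↥L₀).map L₀.subtype := by
    obtain ⟨P, hP⟩ := hT'p.exists_le_sylow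
    refine ⟨P, ?_⟩
    by_contra hne
    obtain ⟨y, hyP, hyN, hyT⟩ := exists_mem_normalizer_not_mem (P : Subgroup L) _ P.2 hP
      (Ne.symm hne)
    have hyL₀ : y ∈ L₀ := h1 hyN
    have hKP : (T : Subgroup ↥L₀).map L₀.subtype ⊔ Subgroup.zpowers y ≤ (P : Subgroup L) :=
      sup_le hP (by rw [Subgroup.zpowers_le]; exact hyP)
    have hKp : IsPGroup p (((T : Subgroup ↥L₀).map L₀.subtype ⊔ Subgroup.zpowers y).subgroupOf L₀) :=
      (P.2.to_le hKP).comap_subtype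
    have hTK : (T : Subgroup ↥L₀) ≤
        ((T : Subgroup ↥L₀).map L₀.subtype ⊔ Subgroup.zpowers y).subgroupOf L₀ := by
      intro x hx
      rw [Subgroup.mem_subgroupOf]
      exact le_sup_left (b := Subgroup.zpowers y) ⟨x, hx, rfl⟩
    have h4 := T.3 hKp hTK
    apply hyT
    have hy2 : (⟨y, hyL₀⟩ : L₀) ∈
        ((T : Subgroup ↥L₀).map L₀.subtype ⊔ Subgroup.zpowers y).subgroupOf L₀ := by
      rw [Subgroup.mem_subgroupOf]
      exact le_sup_right (a := (T : Subgroup ↥L₀).map L₀.subtype) (Subgroup.mem_zpowers y)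
    rw [h4] at hy2
    exact ⟨⟨y, hyL₀⟩, hy2, rfl⟩
  have h2 : Cfsg.pCore p L ≤ L₀ := by
    obtain ⟨P, hP⟩ := h3
    exact (pCore_le_sylow P).trans (hP ▸ hT'L₀)
  have h4 : Subgroup.normalizer (L₀ : Set L) = L₀ := by
    by_contra hne
    have hlt : L₀ < Subgroup.normalizer (L₀ : Set L) :=
      lt_of_le_of_ne Subgroup.le_normalizer (Ne.symm hne)
    have htop := hL₀.2 _ hlt
    have hn : L₀.Normal := Subgroup.normalizer_eq_top_iff.1 htop
    have h5 : Subgroup.normalClosure (Y : Set L) ≤ L₀ := Subgroup.normalClosure_le_normal hYL₀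
    rw [hnc] at h5
    exact hL₀.1 (top_le_iff.1 h5)
  have h5 : ∀ g : L, g ∉ L₀ → Y ⊔ Y.map (MulAut.conj g).toMonoidHom = ⊤ := by
    intro g hg
    by_contra hne
    have hK := hle _ le_sup_left hne
    have hYg : Y.map (MulAut.conj g).toMonoidHom ≤ L₀ := le_sup_right.trans hK
    have h6 : Y ≤ L₀.map (MulAut.conj g⁻¹).toMonoidHom := (conj_le_iff _ _ _).1 hYg
    have h7 := huniq _ ⟨isCoatom_conj L₀ hL₀ g⁻¹, h6⟩
    rw [← hML₀] at h7
    apply hg
    rw [← h4]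
    have h8 : g⁻¹ ∈ Subgroup.normalizer (L₀ : Set L) := (mem_normalizer_iff_conj_eq L₀ g⁻¹).2 h7
    simpa using Subgroup.inv_mem _ h8
  refine ⟨h1, h2, h3, h4, h5, ?_⟩
  intro hab g hg
  have hcomm := comm_of_isMulCommutative hab
  apply le_antisymm
  · intro u hu
    obtain ⟨hu1, hu2⟩ := Subgroup.mem_inf.1 hu
    refine Subgroup.mem_inf.2 ⟨hu1, ?_⟩
    rw [Subgroup.mem_center_iff]
    have h6 : Y ⊔ Y.map (MulAut.conj g).toMonoidHom ≤ Subgroup.centralizer ({u} : Set L) := by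
      apply sup_le
      · intro a ha
        exact (mem_centralizer_singleton_iff u a).2 (hcomm a ha u hu1)
      · rintro _ ⟨a, ha, rfl⟩
        refine (mem_centralizer_singleton_iff u _).2 ?_
        have hu3 := (mem_conj_iff Y g u).1 hu2
        have h7 := hcomm a ha _ hu3
        show g * a * g⁻¹ * u = u * (g * a * g⁻¹)
        calc g * a * g⁻¹ * u = g * (a * (g⁻¹ * u * g)) * g⁻¹ := by group
          _ = g * ((g⁻¹ * u * g) * a) * g⁻¹ := by rw [h7]
          _ = u * (g * a * g⁻¹) := by group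
    rw [h5 g hg] at h6
    intro l
    exact (mem_centralizer_singleton_iff u l).1 (h6 (Subgroup.mem_top l))
  · intro u hu
    obtain ⟨hu1, hu2⟩ := Subgroup.mem_inf.1 hu
    refine Subgroup.mem_inf.2 ⟨hu1, ?_⟩
    refine (mem_conj_iff Y g u).2 ?_
    have h6 := (Subgroup.mem_center_iff.1 hu2) g
    have e : g⁻¹ * u * g = u := by rw [mul_assoc, ← h6]; group
    rw [e]; exact hu1

end Cfsg.Agent.S2835
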