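import Cfsg.Prelude.Def_LocalStructure
import Cfsg.Agent.Helper5.WeakCl

namespace Cfsg.Agent.S2838

open Cfsg.Agent.Helper5

theorem wc_of_normalizers {H : Type*} [Group H] [Finite H] {p : ℕ} [Fact p.Prime] (Q : Subgroup H)
    (hQp : IsPGroup p ↥Q)
    (hB : ∀ R : Subgroup H, IsPGroup p ↥R → Q ≤ R →
      Subgroup.normalizer ((R : Subgroup H) : Set H) ≤ Subgroup.normalizer ((Q : Subgroup H) : Set H)) :
    Cfsg.IsWeaklyClosedSubgroup p Q := by
  obtain ⟨T, hQT⟩ := hQp.exists_le_sylow
  refine ⟨T, hQT, ?_⟩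
  intro g hg
  have hTQ : (T : Subgroup H) ≤ Subgroup.normalizer (Q : Set H) :=
    Subgroup.le_normalizer.trans (hB T T.2 hQT)
  have hNT : Subgroup.normalizer ((T : Subgroup H) : Set H) ≤
      Subgroup.normalizer ((Q.map (MulAut.conj g).toMonoidHom : Subgroup H) : Set H) := by
    intro x hx
    have h1 : Q ≤ (T : Subgroup H).map (MulAut.conj g⁻¹).toMonoidHom := (conj_le_iff _ _ _).1 hg
    have h2 := hB _ (isPGroup_conj _ T.2 g⁻¹) h1 (normalizer_conj (T : Subgroup H) g⁻¹ x hx)
    have h3 := normalizer_conj Q g _ h2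
    have e : g * (g⁻¹ * x * g⁻¹⁻¹) * g⁻¹ = x := by group
    rwa [e] at h3
  have hTP : (T : Subgroup H) ≤
      Subgroup.normalizer ((Q.map (MulAut.conj g).toMonoidHom : Subgroup H) : Set H) :=
    Subgroup.le_normalizer.trans hNT
  have hgT : (T : Subgroup H).map (MulAut.conj g).toMonoidHom ≤
      Subgroup.normalizer ((Q.map (MulAut.conj g).toMonoidHom : Subgroup H) : Set H) :=
    conj_le_normalizer_conj _ _ g hTQ
  obtain ⟨n, hn, hle⟩ := exists_conj_le_sylow_in_subgroup T _ hTP _ hgT (isPGroup_conj _ T.2 g)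
  have h4 : n⁻¹ * g ∈ Subgroup.normalizer ((T : Subgroup H) : Set H) := by
    apply mem_normalizer_of_conj_le
    rw [← conj_conj, conj_le_iff, inv_inv]
    exact hle
  have h5 := (mem_normalizer_iff_conj_eq Q _).1 (hB T T.2 hQT h4)
  rw [← conj_conj] at h5
  have h6 := (mem_normalizer_iff_conj_eq _ _).1 (Subgroup.inv_mem _ hn)
  rw [h6] at h5
  exact h5

theorem wc_of_commutators {H : Type*} [Group H] [Finite H] {p : ℕ} [Fact p.Prime] (Q : Subgroup H)
    (hQp : IsPGroup p ↥Q)
    (hA : ∀ g : H, ⁅Q, ((Q : Subgroup H).map (MulAut.conj (g : H)).toMonoidHom)⁆ ≤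
      Q ⊓ ((Q : Subgroup H).map (MulAut.conj (g : H)).toMonoidHom) →
      ((Q : Subgroup H).map (MulAut.conj (g : H)).toMonoidHom) = Q) :
    Cfsg.IsWeaklyClosedSubgroup p Q := by
  have hA' : ∀ x g : H, ⁅Q.map (MulAut.conj x).toMonoidHom, Q.map (MulAut.conj g).toMonoidHom⁆ ≤
      Q.map (MulAut.conj x).toMonoidHom ⊓ Q.map (MulAut.conj g).toMonoidHom →
      Q.map (MulAut.conj g).toMonoidHom = Q.map (MulAut.conj x).toMonoidHom := by
    intro x g h
    have h1 := Subgroup.map_mono (f := (MulAut.conj x⁻¹).toMonoidHom) h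
    rw [Subgroup.map_commutator, conj_conj, conj_conj] at h1
    have h2 := h1.trans (Subgroup.map_inf_le _ _ _)
    rw [conj_conj, conj_conj, inv_mul_cancel, conj_one] at h2
    have h3 := hA _ h2
    have h4 : Q.map (MulAut.conj g).toMonoidHom =
        (Q.map (MulAut.conj (x⁻¹ * g)).toMonoidHom).map (MulAut.conj x).toMonoidHom := by
      rw [conj_conj]
      have e : x * (x⁻¹ * g) = g := by group
      rw [e]
    rw [h4, h3]
  obtain ⟨T, hQT⟩ := hQp.exists_le_sylow
  have claim : ∀ x : H, Q.map (MulAut.conj x).toMonoidHom ≤ (T : Subgroup H) →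
      (T : Subgroup H) ≤ Subgroup.normalizer ((Q.map (MulAut.conj x).toMonoidHom : Subgroup H) : Set H) := by
    intro x hx
    by_contra hcon
    have hne : (T : Subgroup H) ⊓
        Subgroup.normalizer ((Q.map (MulAut.conj x).toMonoidHom : Subgroup H) : Set H) ≠ (T : Subgroup H) := by
      intro h; exact hcon (h ▸ inf_le_right)
    obtain ⟨t, htT, htN, htM⟩ := exists_mem_normalizer_not_mem (T : Subgroup H) _ T.2 inf_le_left hne
    have hM := (mem_normalizer_iff_conj_eq _ t).1 htN
    -- `P' = t P t⁻¹`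
    have hP'M : Q.map (MulAut.conj (t * x)).toMonoidHom ≤ (T : Subgroup H) ⊓
        Subgroup.normalizer ((Q.map (MulAut.conj x).toMonoidHom : Subgroup H) : Set H) := by
      rw [← conj_conj, ← hM]
      exact conj_mono (le_inf hx Subgroup.le_normalizer) t
    have hPM : Q.map (MulAut.conj x).toMonoidHom ≤
        Subgroup.normalizer ((Q.map (MulAut.conj (t * x)).toMonoidHom : Subgroup H) : Set H) := by
      have h1 : Q.map (MulAut.conj x).toMonoidHom ≤ (T : Subgroup H) ⊓
          Subgroup.normalizer ((Q.map (MulAut.conj x).toMonoidHom : Subgroup H) : Set H) :=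
        le_inf hx Subgroup.le_normalizer
      rw [← hM] at h1
      refine h1.trans ?_
      rw [← conj_conj]
      exact conj_le_normalizer_conj _ _ t inf_le_right
    have h2 := hA' x (t * x) (le_inf
      (commutator_le_left_of_le_normalizer _ _ (hP'M.trans inf_le_right))
      (commutator_le_right_of_le_normalizer _ _ hPM))
    apply htM
    refine Subgroup.mem_inf.2 ⟨htT, ?_⟩
    rw [mem_normalizer_iff_conj_eq, conj_conj]
    exact h2
  refine ⟨T, hQT, ?_⟩
  intro g hg
  have h1 := claim g hg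
  have h2 := claim 1 (by rw [conj_one]; exact hQT)
  rw [conj_one] at h2
  exact hA g (le_inf
    (commutator_le_left_of_le_normalizer _ _ (hg.trans h2))
    (commutator_le_right_of_le_normalizer _ _ (hQT.trans h1)))

/-- For a nontrivial p-subgroup Q of a finite group H the following are equivalent: Q is a weakly closed subgroup (it is the only H-conjugate of itself inside some Sylow p-subgroup containing it); Q = P for every conjugate P of Q with [Q, P] ≤ Q ∩ P; Q is normal in N_H(R) for every p-subgroup R of H containing Q. -/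
theorem result {H : Type*} [Group H] [Finite H] {p : ℕ} [Fact p.Prime] (Q : Subgroup H) (hQp : IsPGroup p ↥Q) (hQ1 : Q ≠ ⊥) : (Cfsg.IsWeaklyClosedSubgroup p Q ↔ ∀ g : H, ⁅Q, ((Q : Subgroup H).map (MulAut.conj (g : H)).toMonoidHom)⁆ ≤ Q ⊓ ((Q : Subgroup H).map (MulAut.conj (g : H)).toMonoidHom) → ((Q : Subgroup H).map (MulAut.conj (g : H)).toMonoidHom) = Q) ∧ (Cfsg.IsWeaklyClosedSubgroup p Q ↔ ∀ R : Subgroup H, IsPGroup p ↥R → Q ≤ R → Subgroup.normalizer ((R : Subgroup H) : Set H) ≤ Subgroup.normalizer ((Q : Subgroup H) : Set H)) := by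
  refine ⟨⟨?_, wc_of_commutators Q hQp⟩, ⟨?_, wc_of_normalizers Q hQp⟩⟩
  · rintro ⟨T, hwc⟩ g hg
    have hPQ : Q.map (MulAut.conj g).toMonoidHom ≤ Subgroup.normalizer (Q : Set H) :=
      le_normalizer_of_commutator_le_left _ _ (hg.trans inf_le_left)
    have hR : IsPGroup p (Q ⊔ Q.map (MulAut.conj g).toMonoidHom : Subgroup H) :=
      IsPGroup.to_sup_of_normal_left' hQp (isPGroup_conj Q hQp g) hPQ
    have h1 := wc_unique Q T hwc _ hR g 1 le_sup_right (by rw [conj_one]; exact le_sup_left)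
    rw [h1, conj_one]
  · rintro ⟨T, hwc⟩ R hR hQR x hx
    have h1 : Q.map (MulAut.conj x).toMonoidHom ≤ R := by
      have h2 := conj_mono hQR x
      rwa [(mem_normalizer_iff_conj_eq R x).1 hx] at h2
    have h3 := wc_unique Q T hwc R hR x 1 h1 (by rw [conj_one]; exact hQR)
    rw [conj_one] at h3
    exact (mem_normalizer_iff_conj_eq Q x).2 h3

end Cfsg.Agent.S2838
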