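import Cfsg.Statements.S2840
import Cfsg.Agent.Helper5.WeakCl4

set_option autoImplicit false
open Cfsg

namespace Cfsg.Agent.S2840

/-- Let Q be a nontrivial p-subgroup of the finite group H that is a weakly closed subgroup and K a subgroup containing Q; let K° be the weak closure of Q in K (generated by the H-conjugates of Q inside K). Then K° is generated by the K-conjugates of Q, and K° is the subnormal closure of Q in K. -/
theorem result {H : Type*} [Group H] [Finite H] {p : ℕ} [Fact p.Prime] (Q : Subgroup H) (hQp : IsPGroup p ↥Q) (hQ1 : Q ≠ ⊥) (hwc : Cfsg.IsWeaklyClosedSubgroup p Q) (K : Subgroup H) (hQK : Q ≤ K) (Kc : Subgroup H) (hKc : Kc = Cfsg.weakClosure Q K) : Kc = ⨆ k : ↥K, ((Q : Subgroup H).map (MulAut.conj ((k : H) : H)).toMonoidHom) ∧ Kc = (Cfsg.subnormalClosure (Q.subgroupOf K)).map K.subtype := by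
  have h13 := Helper5.wc_subgroupOf Q hQp hwc K hQK
  have hQK' : IsPGroup p ↥(Q.subgroupOf K) :=
    hQp.comap_of_injective K.subtype K.subtype_injective
  have hsn := Helper5.wc_subnormalClosure (Q.subgroupOf K) hQK' h13.1
  obtain ⟨T, hT⟩ := hwc
  have hA : Kc = ⨆ k : ↥K, ((Q : Subgroup H).map (MulAut.conj ((k : H) : H)).toMonoidHom) := by
    rw [hKc, Cfsg.weakClosure]
    apply le_antisymm
    · apply iSup_le
      rintro ⟨g, hg⟩
      obtain ⟨k, hk, hgk⟩ := Helper5.wc_conj_in Q hQp T hT K hQK g hg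
      show Q.map (MulAut.conj g).toMonoidHom ≤ _
      rw [hgk]
      exact le_iSup (fun k : ↥K => (Q : Subgroup H).map (MulAut.conj (k : H)).toMonoidHom) ⟨k, hk⟩
    · apply iSup_le
      intro k
      have hk : Q.map (MulAut.conj (k : H)).toMonoidHom ≤ K := by
        rintro _ ⟨x, hx, rfl⟩
        exact K.mul_mem (K.mul_mem k.2 (hQK hx)) (K.inv_mem k.2)
      exact le_iSup (fun g : {g : H // Q.map (MulAut.conj g).toMonoidHom ≤ K} =>
        (Q : Subgroup H).map (MulAut.conj (g : H)).toMonoidHom) ⟨(k : H), hk⟩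
  refine ⟨hA, ?_⟩
  rw [hA, hsn]
  apply le_antisymm
  · apply iSup_le
    intro k
    rintro _ ⟨x, hx, rfl⟩
    refine ⟨k * ⟨x, hQK hx⟩ * k⁻¹, ?_, rfl⟩
    exact (Subgroup.normalClosure_normal).conj_mem _
      (Subgroup.subset_normalClosure (Subgroup.mem_subgroupOf.2 hx)) k
  · rw [Subgroup.normalClosure, MonoidHom.map_closure, Subgroup.closure_le]
    rintro _ ⟨y, hy, rfl⟩
    obtain ⟨a, ha, hay⟩ := Group.mem_conjugatesOfSet_iff.1 hy
    obtain ⟨c, hc⟩ := isConj_iff.1 hay
    rw [← hc]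
    have h1 : (K.subtype (c * a * c⁻¹) : H) ∈ Q.map (MulAut.conj (c : H)).toMonoidHom :=
      ⟨(a : H), Subgroup.mem_subgroupOf.1 ha, rfl⟩
    exact (le_iSup (fun k : ↥K => (Q : Subgroup H).map (MulAut.conj (k : H)).toMonoidHom) c) h1

end Cfsg.Agent.S2840
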