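import Mathlib
import Cfsg.Prelude.Def_LocalStructure
import Cfsg.Agent.Helper5.WeakCl2

set_option autoImplicit false

namespace Cfsg.Agent.S2841

open Cfsg.Agent.Helper5
open scoped commutatorElement Pointwise

/-- Let Q be a nontrivial p-subgroup of the finite group H that is a weakly closed subgroup and N a normal subgroup of H. Then N = N_N(Q)·[N, Q] and [N, Q] = (Q ∩ [N, Q])·[N, Q, Q]. -/
theorem result {H : Type*} [Group H] [Finite H] {p : ℕ} [Fact p.Prime] (Q : Subgroup H) (hQp : IsPGroup p ↥Q) (hQ1 : Q ≠ ⊥) (hwc : Cfsg.IsWeaklyClosedSubgroup p Q) (N' : Subgroup H) [N'.Normal] : (∀ n : H, n ∈ N' → ∃ a ∈ N' ⊓ Subgroup.normalizer ((Q : Subgroup H) : Set H), ∃ b ∈ ⁅N', Q⁆, n = a * b) ∧ (∀ c : H, c ∈ ⁅N', Q⁆ → ∃ a ∈ Q ⊓ ⁅N', Q⁆, ∃ b ∈ ⁅⁅N', Q⁆, Q⁆, c = a * b) := by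
  obtain ⟨T, hT⟩ := hwc
  set C : Subgroup H := ⁅N', Q⁆ with hC
  have hCN : C ≤ N' := Subgroup.commutator_le_left N' Q
  have hNn : ∀ g : H, g ∈ Subgroup.normalizer (N' : Set H) := by
    intro g
    rw [Subgroup.normalizer_eq_top_iff.2 inferInstance]; trivial
  have hQnC : Q ≤ Subgroup.normalizer (C : Set H) := by
    intro g hg
    exact mem_normalizer_commutator N' Q g (hNn g) (Subgroup.le_normalizer hg)
  have hK1 : Q ≤ C ⊔ Q := le_sup_right
  have part1 : ∀ n : H, n ∈ N' → ∃ a ∈ N' ⊓ Subgroup.normalizer ((Q : Subgroup H) : Set H),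
      ∃ b ∈ C, n = a * b := by
    intro n hn
    have hK2 : Q.map (MulAut.conj n⁻¹).toMonoidHom ≤ C ⊔ Q := by
      rintro _ ⟨q, hq, rfl⟩
      have e : (MulAut.conj n⁻¹).toMonoidHom q = ⁅n⁻¹, q⁆ * q := by
        simp [commutatorElement_def]
      rw [e]
      exact (C ⊔ Q).mul_mem (Subgroup.mem_sup_left
        (Subgroup.commutator_mem_commutator (N'.inv_mem hn) hq)) (Subgroup.mem_sup_right hq)
    obtain ⟨k, hk, R, hR, hQR, hQ2R⟩ := exists_conj_into_pgroup (C ⊔ Q) Q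
      (Q.map (MulAut.conj n⁻¹).toMonoidHom) hK1 hK2 hQp (isPGroup_conj Q hQp _)
    rw [conj_conj] at hQ2R
    have h1 := wc_unique Q T hT R hR (k * n⁻¹) 1 hQ2R (by rw [conj_one]; exact hQR)
    rw [conj_one] at h1
    have h2 : k * n⁻¹ ∈ Subgroup.normalizer (Q : Set H) := (mem_normalizer_iff_conj_eq Q _).2 h1
    have h3 : n * k⁻¹ ∈ Subgroup.normalizer (Q : Set H) := by
      have := (Subgroup.normalizer (Q : Set H)).inv_mem h2
      simpa [mul_inv_rev] using this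
    have hkinv : k⁻¹ ∈ C ⊔ Q := (C ⊔ Q).inv_mem hk
    have hset : ((C ⊔ Q : Subgroup H) : Set H) = (C : Set H) * (Q : Set H) :=
      Subgroup.coe_mul_of_right_le_normalizer_left C Q hQnC
    have hk2 : k⁻¹ ∈ (C : Set H) * (Q : Set H) := by rw [← hset]; exact hkinv
    obtain ⟨c, hc, q, hq, hcq⟩ := hk2
    refine ⟨n * c, Subgroup.mem_inf.2 ⟨N'.mul_mem hn (hCN hc), ?_⟩, c⁻¹, C.inv_mem hc, by group⟩
    have e : n * c = n * k⁻¹ * q⁻¹ := by rw [← hcq]; group
    rw [e]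
    exact (Subgroup.normalizer (Q : Set H)).mul_mem h3 (Subgroup.le_normalizer (Q.inv_mem hq))
  refine ⟨part1, ?_⟩
  set D : Subgroup H := ⁅C, Q⁆ with hD
  set A : Subgroup H := Q ⊓ C with hA
  have hQnD : Q ≤ Subgroup.normalizer (D : Set H) := by
    intro g hg
    exact mem_normalizer_commutator C Q g (hQnC hg) (Subgroup.le_normalizer hg)
  have hAnD : A ≤ Subgroup.normalizer (D : Set H) := inf_le_left.trans hQnD
  have hCle : C ≤ A ⊔ D := by
    rw [hC, Subgroup.commutator_le]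
    intro n hn q hq
    obtain ⟨a, ha, b, hb, rfl⟩ := part1 n hn
    have haN : a ∈ N' := (Subgroup.mem_inf.1 ha).1
    have haQ : a ∈ Subgroup.normalizer (Q : Set H) := (Subgroup.mem_inf.1 ha).2
    have haC : a ∈ Subgroup.normalizer (C : Set H) :=
      mem_normalizer_commutator N' Q a (hNn a) haQ
    have haD : a ∈ Subgroup.normalizer (D : Set H) :=
      mem_normalizer_commutator C Q a haC haQ
    have e : ⁅a * b, q⁆ = (a * ⁅b, q⁆ * a⁻¹) * ⁅a, q⁆ := by
      simp only [commutatorElement_def]; group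
    rw [e]
    have h1 : a * ⁅b, q⁆ * a⁻¹ ∈ D :=
      (Subgroup.mem_normalizer_iff.1 haD _).1 (Subgroup.commutator_mem_commutator hb hq)
    have h2 : ⁅a, q⁆ ∈ A := by
      refine Subgroup.mem_inf.2 ⟨?_, Subgroup.commutator_mem_commutator haN hq⟩
      rw [commutatorElement_def]
      exact Q.mul_mem ((Subgroup.mem_normalizer_iff.1 haQ q).1 hq) (Q.inv_mem hq)
    exact (A ⊔ D).mul_mem (Subgroup.mem_sup_right h1) (Subgroup.mem_sup_left h2)
  intro c hc
  have hset : ((A ⊔ D : Subgroup H) : Set H) = (A : Set H) * (D : Set H) :=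
    Subgroup.coe_mul_of_left_le_normalizer_right A D hAnD
  have hc2 : c ∈ (A : Set H) * (D : Set H) := by rw [← hset]; exact hCle hc
  obtain ⟨a, ha, d, hd, had⟩ := hc2
  exact ⟨a, ha, d, hd, had.symm⟩

end Cfsg.Agent.S2841
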