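import Cfsg.Prelude.Def_LocalStructure
import Cfsg.Agent.Helper5.Large

namespace Cfsg.Agent.S2844

open Cfsg.Agent.Helper5 in
/-- Let Q be a nontrivial large p-subgroup of the finite group H and Q• = O_p(N_H(Q)). Then for every g ∈ H outside N_H(Q): C_H(Q) ∩ C_H(gQg⁻¹) = 1, C_H(Q•) ∩ C_H(gQ•g⁻¹) = 1, Z(Q) ∩ Z(gQg⁻¹) = 1 and Z(Q•) ∩ Z(gQ•g⁻¹) = 1; moreover N_H(Q) = N_H(Q•) and Q• is large in H. -/
theorem result {H : Type*} [Group H] [Finite H] {p : ℕ} [Fact p.Prime] (Q : Subgroup H) (hQp : IsPGroup p ↥Q) (hQ1 : Q ≠ ⊥) (hL : Cfsg.IsLarge Q) (Qb : Subgroup H) (hQb : Qb = Cfsg.largeBullet p Q) : (∀ g : H, g ∉ Subgroup.normalizer ((Q : Subgroup H) : Set H) → Subgroup.centralizer ((Q : Subgroup H) : Set H) ⊓ Subgroup.centralizer ((((Q : Subgroup H).map (MulAut.conj (g : H)).toMonoidHom) : Subgroup H) : Set H) = ⊥ ∧ Subgroup.centralizer ((Qb : Subgroup H) : Set H) ⊓ Subgroup.centralizer ((((Qb : Subgroup H).map (MulAut.conj (g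 : H)).toMonoidHom) : Subgroup H) : Set H) = ⊥ ∧ (Q ⊓ Subgroup.centralizer ((Q : Subgroup H) : Set H)) ⊓ (((Q : Subgroup H).map (MulAut.conj (g : H)).toMonoidHom) ⊓ Subgroup.centralizer ((((Q : Subgroup H).map (MulAut.conj (g : H)).toMonoidHom) : Subgroup H) : Set H)) = ⊥ ∧ (Qb ⊓ Subgroup.centralizer ((Qb : Subgroup H) : Set H)) ⊓ (((Qb : Subgroup H).map (MulAut.conj (g : H)).toMonoidHom) ⊓ Subgroup.centralizer ((((Qb : Subgroup H).map (MulAut.conj (g : H)).toMonoidHom) : Subgroup H) : Set H)) = ⊥) ∧ Subgroup.normalizer ((Q : Subgroup H) : Set H) = Subgroup.normalizer ((Qb : Subgroup H) : Set H) ∧ Cfsg.IsLarge Qb := by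
  have hQQb : Q ≤ Qb := by
    rw [hQb]
    exact le_pCoreMap (Subgroup.normalizer (Q : Set H)) Q Subgroup.le_normalizer le_rfl hQp
  have hQbp : IsPGroup p Qb := by
    rw [hQb]; exact pCoreMap_isPGroup _
  have hQbne : Qb ≠ ⊥ := fun h => hQ1 (le_bot_iff.1 (h ▸ hQQb))
  have key : ∀ g, g ∉ Subgroup.normalizer (Q : Set H) → Subgroup.centralizer (Q : Set H) ⊓
      Subgroup.centralizer ((Q.map (MulAut.conj g).toMonoidHom : Subgroup H) : Set H) = ⊥ := by
    intro g hg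
    by_contra hne
    exact hg (large_key Q hQp hQ1 hL g hne)
  have key2 : ∀ g, g ∉ Subgroup.normalizer (Q : Set H) → Subgroup.centralizer (Qb : Set H) ⊓
      Subgroup.centralizer ((Qb.map (MulAut.conj g).toMonoidHom : Subgroup H) : Set H) = ⊥ := by
    intro g hg
    rw [eq_bot_iff, ← key g hg]
    exact inf_le_inf (Subgroup.centralizer_le hQQb) (Subgroup.centralizer_le (conj_mono hQQb g))
  have hN1 : Subgroup.normalizer (Q : Set H) ≤ Subgroup.normalizer (Qb : Set H) := by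
    rw [hQb]; exact le_normalizer_pCoreMap p _
  have hN2 : Subgroup.normalizer (Qb : Set H) ≤ Subgroup.normalizer (Q : Set H) := by
    intro g hg
    by_contra hgQ
    have h1 := key2 g hgQ
    rw [(mem_normalizer_iff_conj_eq Qb g).1 hg, inf_idem] at h1
    exact inf_centralizer_ne_bot Qb hQbp hQbne (le_bot_iff.1 (h1 ▸ inf_le_right))
  refine ⟨?_, le_antisymm hN1 hN2, ?_, ?_⟩
  · intro g hg
    refine ⟨key g hg, key2 g hg, ?_, ?_⟩
    · rw [eq_bot_iff, ← key g hg]; exact inf_le_inf inf_le_right inf_le_right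
    · rw [eq_bot_iff, ← key2 g hg]; exact inf_le_inf inf_le_right inf_le_right
  · exact (Subgroup.centralizer_le hQQb).trans (hL.1.trans hQQb)
  · intro U hU hne
    exact (hL.2 U (hU.trans (Subgroup.centralizer_le hQQb)) hne).trans hN1

end Cfsg.Agent.S2844
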