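import Cfsg.Statements.S2846
import Cfsg.Agent.Helper5.BP3
import Cfsg.Agent.Helper5.Large3
import Cfsg.Agent.Helper5.WCFact
import Cfsg.Agent.S2843
import Cfsg.Agent.S2845

set_option autoImplicit false
open Cfsg

namespace Cfsg.Agent.S2846

/-- Let Q be a nontrivial large p-subgroup of the finite group H, S a Sylow p-subgroup containing Q, and L a subgroup containing S with O_p(L) ≠ 1 and C_H(O_p(L)) ≤ O_p(L). Then there are a subgroup M containing S having the basic property (M ∈ 𝔐_H, writing Y_X for the largest p-reduced normal subgroup of X and 𝓛_H for the set of subgroups X with O_p(X) ≠ 1 and C_H(O_p(X)) ≤ O_p(X): M ∈ 𝓛_H, M·C_H(Y_M) is the only maximal member of 𝓛_H containing M and its largest p-reduced normal subgroup is again Y_M, C_M(Y_M) is p-closed, and the image of C_M(Y_M) in M/O_p(M) lies in the Frattini subgroup of M/O_p(M)) and a subgroup L* with S ≤ L* ≤ M, O_p(L*) ≠ 1, C_H(O_p(L*)) ≤ O_p(L*), such that L·C_H(Y_L)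 = L*·C_H(Y_L), the weak closures of Q in L and in L* agree and lie in that of M, and Y_L = Y_{L*} ≤ Y_M. If moreover Q is not normal in L, then Q is normal in neither L* nor M. -/
theorem result {H : Type*} [Group H] [Finite H] {p : ℕ} [Fact p.Prime] (Q : Subgroup H) (hQp : IsPGroup p ↥Q) (hQ1 : Q ≠ ⊥) (hLg : Cfsg.IsLarge Q) (S : Sylow p H) (hQS : Q ≤ (S : Subgroup H)) (L : Subgroup H) (hSL : (S : Subgroup H) ≤ L) (hL : L ∈ Cfsg.charPSubgroups p H) : ∃ M Ls : Subgroup H, (S : Subgroup H) ≤ M ∧ Cfsg.IsInFrakM p M ∧ (S : Subgroup H) ≤ Ls ∧ Ls ≤ M ∧ Ls ∈ Cfsg.charPSubgroups p H ∧ L ⊔ Subgroup.centralizer (((Cfsg.largestPReducedOf p L) : Subgroup H) : Set H) = Ls ⊔ Subgroup.centralizer (((Cfsg.largestPReducedOf p L) : Subgroup H) : Set H) ∧ Cfsg.weakClosure Q L = Cfsg.weakClosure Q Ls ∧ Cfsg.weakClosure Q Ls ≤ Cfsg.weakClosure Q M ∧ (Cfsg.largestPReducedOf p L) = (Cfsg.largestPReducedOf p Ls) ∧ (Cfsg.largestPReducedOf p Ls) ≤ (Cfsg.largestPReducedOf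 p M) ∧ (¬ L ≤ Subgroup.normalizer ((Q : Subgroup H) : Set H) → ¬ Ls ≤ Subgroup.normalizer ((Q : Subgroup H) : Set H) ∧ ¬ M ≤ Subgroup.normalizer ((Q : Subgroup H) : Set H)) := by
  have hpar : Cfsg.IsOfParabolicCharacteristic p H := (Cfsg.Agent.S2845.result Q hQp hQ1 hLg).2.2
  obtain ⟨M, Ls, hSM, hfrak, hSLs, hLsM, hLsch, hYeq, hYle, hfac⟩ :=
    Cfsg.Agent.Helper5.bp_main hpar S L hSL hL
  have hSne : (S : Subgroup H) ≠ ⊥ := Cfsg.Agent.Helper5.bp_sylow_ne_bot S L hSL hL.1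
  have hYp : IsPGroup p (Cfsg.largestPReducedOf p L) :=
    Cfsg.Agent.Helper5.isPGroup_of_isElementaryAbelian _
      (Cfsg.Agent.Helper5.largestPReducedOf_isElementaryAbelian p L)
  have hYne : Cfsg.largestPReducedOf p L ≠ ⊥ :=
    Cfsg.Agent.Helper5.bp_Y_ne_bot S L hSL (Cfsg.Agent.Helper5.bp_internal L hL) hSne
  have hw1 := (Cfsg.Agent.S2843.result Q hQp hQ1 hLg L (hQS.trans hSL) _ hYp hYne
    (Cfsg.Agent.Helper5.le_normalizer_largestPReducedOf p L)).1
  have hLsN : Ls ≤ Subgroup.normalizer ((Cfsg.largestPReducedOf p L : Subgroup H) : Set H) := by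
    rw [hYeq]; exact Cfsg.Agent.Helper5.le_normalizer_largestPReducedOf p Ls
  have hw2 := (Cfsg.Agent.S2843.result Q hQp hQ1 hLg Ls (hQS.trans hSLs) _ hYp hYne hLsN).1
  have hwc : Cfsg.weakClosure Q L = Cfsg.weakClosure Q Ls := by rw [hw1, hw2, hfac]
  have hwQ : ∀ X : Subgroup H, (S : Subgroup H) ≤ X → X ≤ Subgroup.normalizer (Q : Set H) →
      Cfsg.weakClosure Q X = Q := by
    intro X hSX hXQ
    apply le_antisymm
    · unfold Cfsg.weakClosure
      apply iSup_le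
      rintro ⟨g, hg⟩
      obtain ⟨x, hx, hle⟩ := Cfsg.Agent.Helper5.exists_conj_le_sylow_in_subgroup S X hSX _ hg
        (Cfsg.Agent.Helper5.isPGroup_conj Q hQp g)
      have h1 : Q.map (MulAut.conj (x⁻¹ * g)).toMonoidHom ≤ (S : Subgroup H) := by
        have h2 := Cfsg.Agent.Helper5.conj_mono hle x⁻¹
        rw [Cfsg.Agent.Helper5.conj_conj, Cfsg.Agent.Helper5.conj_conj, inv_mul_cancel,
          Cfsg.Agent.Helper5.conj_one] at h2
        exact h2
      have h3 := Cfsg.Agent.Helper5.large_normalizer_of_common_pgroup Q hQp hQ1 hLg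
        (S : Subgroup H) S.2 hQS _ h1
      have h4 : g ∈ Subgroup.normalizer (Q : Set H) := by
        have : g = x * (x⁻¹ * g) := by group
        rw [this]
        exact Subgroup.mul_mem _ (hXQ hx) h3
      show Q.map (MulAut.conj g).toMonoidHom ≤ Q
      exact (Cfsg.Agent.Helper5.conj_le_of_mem_normalizer Q g h4).le
    · exact Cfsg.Agent.Helper5.wcf_le_weakClosure Q X (hQS.trans hSX)
  refine ⟨M, Ls, hSM, hfrak, hSLs, hLsM, hLsch, hfac, hwc, ?_, hYeq, ?_, ?_⟩
  · unfold Cfsg.weakClosure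
    apply iSup_le
    rintro ⟨g, hg⟩
    exact le_iSup_of_le (⟨g, hg.trans hLsM⟩ :
      {g : H // Q.map (MulAut.conj g).toMonoidHom ≤ M}) le_rfl
  · rw [← hYeq]; exact hYle
  · intro hLQ
    have hLs : ¬ Ls ≤ Subgroup.normalizer (Q : Set H) := by
      intro h
      apply hLQ
      have h1 := Cfsg.Agent.Helper5.wcf_le_normalizer_weakClosure Q L
      rw [hwc, hwQ Ls hSLs h] at h1
      exact h1
    exact ⟨hLs, fun h => hLs (hLsM.trans h)⟩

end Cfsg.Agent.S2846
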