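import Cfsg.Prelude.Def_LocalStructure
import Cfsg.Agent.Helper5.ElemAb
import Cfsg.Agent.Helper5.PClosed

namespace Cfsg.Agent.S2848

open Cfsg.Agent.Helper5 in
/-- Standing hypotheses: G a finite group, S a Sylow p-subgroup, Q a nontrivial large p-subgroup of G contained in S (C_G(Q) ≤ Q and N_G(U) ≤ N_G(Q) for all nontrivial U ≤ C_G(Q)), and M a subgroup containing S with the basic property (M ∈ 𝔐_G(S)); Y_M denotes the largest p-reduced normal subgroup of M and M† = M·C_G(Y_M). Then O_p(M) is a weakly closed subgroup of M† (for p): it is the only M†-conjugate of itself inside some Sylow p-subgroup of M† containing it. -/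
theorem result {G : Type*} [Group G] [Finite G] {p : ℕ} [Fact p.Prime] (S : Sylow p G) (Q : Subgroup G) (hQp : IsPGroup p ↥Q) (hQ1 : Q ≠ ⊥) (hQS : Q ≤ (S : Subgroup G)) (hQ : Cfsg.IsLarge Q) (M : Subgroup G) (hSM : (S : Subgroup G) ≤ M) (hM : Cfsg.IsInFrakM p M) : Cfsg.IsWeaklyClosedSubgroup p (((Cfsg.pCoreOf p M)).subgroupOf (M ⊔ Subgroup.centralizer (((Cfsg.largestPReducedOf p M) : Subgroup G) : Set G))) := by
  have hWdef : Cfsg.pCoreOf p M = (Cfsg.pCore p ↥M).map M.subtype := rfl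
  have hWp : IsPGroup p (Cfsg.pCoreOf p M) := pCoreMap_isPGroup M
  have hWM : Cfsg.pCoreOf p M ≤ M := pCoreMap_le p M
  have hMW : M ≤ Subgroup.normalizer ((Cfsg.pCoreOf p M : Subgroup G) : Set G) :=
    le_normalizer_pCoreMap p M
  have hWS : Cfsg.pCoreOf p M ≤ (S : Subgroup G) := by
    have hsup : IsPGroup p (Cfsg.pCoreOf p M ⊔ (S : Subgroup G) : Subgroup G) :=
      IsPGroup.to_sup_of_normal_left' hWp S.2 (hSM.trans hMW)
    have heq := S.3 hsup le_sup_right
    rw [← heq]; exact le_sup_left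
  have hMdY : M ⊔ Subgroup.centralizer (((Cfsg.largestPReducedOf p M) : Subgroup G) : Set G) ≤
      Subgroup.normalizer ((Cfsg.largestPReducedOf p M : Subgroup G) : Set G) :=
    sup_le (le_normalizer_largestPReducedOf p M) (Subgroup.centralizer_le_normalizer _)
  have hMdC := hMdY.trans (normalizer_le_normalizer_centralizer (Cfsg.largestPReducedOf p M))
  have hMC : M ≤ Subgroup.normalizer ((Subgroup.centralizer
      (((Cfsg.largestPReducedOf p M) : Subgroup G) : Set G) : Subgroup G) : Set G) :=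
    le_sup_left.trans hMdC
  have hMdN : M ⊔ Subgroup.centralizer (((Cfsg.largestPReducedOf p M) : Subgroup G) : Set G) ≤
      Subgroup.normalizer ((Cfsg.pCoreOf p M ⊔ Subgroup.centralizer
        (((Cfsg.largestPReducedOf p M) : Subgroup G) : Set G) : Subgroup G) : Set G) := by
    apply sup_le
    · exact le_normalizer_sup _ _ _ hMW hMC
    · exact le_sup_right.trans Subgroup.le_normalizer
  -- the `p`-closed subgroup `M ∩ C`
  obtain ⟨P₁, hP₁K, hP₁p, hP₁max, hP₁n⟩ := pClosed_sylow _ hM.2.2.2.2.1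
  have hMK : M ≤ Subgroup.normalizer ((M ⊓ Subgroup.centralizer
      (((Cfsg.largestPReducedOf p M) : Subgroup G) : Set G) : Subgroup G) : Set G) :=
    le_normalizer_inf _ _ _ Subgroup.le_normalizer hMC
  have hP₁W : P₁ ≤ Cfsg.pCoreOf p M :=
    le_pCoreMap M P₁ (hP₁K.trans inf_le_left) (hMK.trans hP₁n) hP₁p
  have hSC : (S : Subgroup G) ⊓ Subgroup.centralizer
      (((Cfsg.largestPReducedOf p M) : Subgroup G) : Set G) ≤ Cfsg.pCoreOf p M :=
    (hP₁max _ (inf_le_inf hSM le_rfl) (S.2.to_le inf_le_left)).trans hP₁W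
  have hkey : (S : Subgroup G) ⊓ (Cfsg.pCoreOf p M ⊔ Subgroup.centralizer
      (((Cfsg.largestPReducedOf p M) : Subgroup G) : Set G)) ≤ Cfsg.pCoreOf p M := by
    intro x hx
    obtain ⟨hxS, hxN⟩ := Subgroup.mem_inf.1 hx
    rw [← SetLike.mem_coe, Subgroup.coe_mul_of_left_le_normalizer_right _ _ (hWM.trans hMC)] at hxN
    obtain ⟨w, hw, c, hc, rfl⟩ := Set.mem_mul.1 hxN
    have hcS : c ∈ (S : Subgroup G) := by
      have e : c = w⁻¹ * (w * c) := by group
      rw [e]; exact Subgroup.mul_mem _ (Subgroup.inv_mem _ (hWS hw)) hxS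
    exact Subgroup.mul_mem _ hw (hSC (Subgroup.mem_inf.2 ⟨hcS, hc⟩))
  have hSMd : (S : Subgroup G) ≤ M ⊔ Subgroup.centralizer
      (((Cfsg.largestPReducedOf p M) : Subgroup G) : Set G) := hSM.trans le_sup_left
  refine ⟨S.subtype hSMd, ?_, ?_⟩
  · intro x hx
    rw [Sylow.coe_subtype, Subgroup.mem_subgroupOf]
    exact hWS (Subgroup.mem_subgroupOf.1 hx)
  · intro g hg
    have hconj : (Cfsg.pCoreOf p M).map (MulAut.conj (g : G)).toMonoidHom ≤ Cfsg.pCoreOf p M := by
      rintro _ ⟨w, hw, rfl⟩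
      apply hkey
      refine Subgroup.mem_inf.2 ⟨?_, ?_⟩
      · have h1 : (g * ⟨w, (hWM.trans le_sup_left) hw⟩ * g⁻¹ : ↥(M ⊔ Subgroup.centralizer
            (((Cfsg.largestPReducedOf p M) : Subgroup G) : Set G))) ∈
            ((S.subtype hSMd : Sylow p _) : Subgroup _) := by
          apply hg
          exact ⟨⟨w, (hWM.trans le_sup_left) hw⟩, Subgroup.mem_subgroupOf.2 hw, rfl⟩
        rw [Sylow.coe_subtype, Subgroup.mem_subgroupOf] at h1
        exact h1
      · exact (Subgroup.mem_normalizer_iff.1 (hMdN g.2) w).1 (le_sup_left (b := Subgroup.centralizer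
          (((Cfsg.largestPReducedOf p M) : Subgroup G) : Set G)) hw)
    have hgN : (g : G) ∈ Subgroup.normalizer ((Cfsg.pCoreOf p M : Subgroup G) : Set G) :=
      mem_normalizer_of_conj_le _ _ hconj
    ext x
    rw [mem_conj_iff, Subgroup.mem_subgroupOf, Subgroup.mem_subgroupOf]
    have h2 := Subgroup.mem_normalizer_iff.1 (Subgroup.inv_mem _ hgN) (x : G)
    rw [h2]
    simp

end Cfsg.Agent.S2848
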