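import Cfsg.Prelude.Def_LocalStructure
import Cfsg.Agent.Helper5.ElemAb
import Cfsg.Agent.Helper5.WeakCl

namespace Cfsg.Agent.S2849

open Cfsg.Agent.Helper5 in
/-- Standing hypotheses: G a finite group, S a Sylow p-subgroup, Q a nontrivial large p-subgroup of G contained in S (C_G(Q) ≤ Q and N_G(U) ≤ N_G(Q) for all nontrivial U ≤ C_G(Q)), and M a subgroup containing S with the basic property (M ∈ 𝔐_G(S)); Y_M denotes the largest p-reduced normal subgroup of M and M† = M·C_G(Y_M). Suppose Y_M is asymmetric in G. Then for every subgroup R with Y_M ≤ R ≤ M†, the normal closure of Y_M in N_G(R) is elementary abelian. -/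
theorem result {G : Type*} [Group G] [Finite G] {p : ℕ} [Fact p.Prime] (S : Sylow p G) (Q : Subgroup G) (hQp : IsPGroup p ↥Q) (hQ1 : Q ≠ ⊥) (hQS : Q ≤ (S : Subgroup G)) (hQ : Cfsg.IsLarge Q) (M : Subgroup G) (hSM : (S : Subgroup G) ≤ M) (hM : Cfsg.IsInFrakM p M) (hasym : ¬ Cfsg.IsSymmetricIn (Cfsg.largestPReducedOf p M)) (R : Subgroup G) (hYR : (Cfsg.largestPReducedOf p M) ≤ R) (hRM : R ≤ (M ⊔ Subgroup.centralizer (((Cfsg.largestPReducedOf p M) : Subgroup G) : Set G))) : Cfsg.IsElementaryAbelian p ((Subgroup.normalClosure ((((Cfsg.largestPReducedOf p M)).subgroupOf (Subgroup.normalizer ((R : Subgroup G) : Set G)) : Subgroup ↥(Subgroup.normalizer ((R : Subgroup G) : Set G))) : Set ↥(Subgroup.normalizer ((R : Subgroup G) : Set G)))).map (Subgroup.normalizer ((R : Subgroup G) : Set G)).subtype) := by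
  have hYe := largestPReducedOf_isElementaryAbelian p M
  have hMY : M ⊔ Subgroup.centralizer (((Cfsg.largestPReducedOf p M) : Subgroup G) : Set G) ≤
      Subgroup.normalizer ((Cfsg.largestPReducedOf p M : Subgroup G) : Set G) :=
    sup_le (le_normalizer_largestPReducedOf p M) (Subgroup.centralizer_le_normalizer _)
  have key : ∀ g : G, g ∈ Subgroup.normalizer (R : Set G) →
      ∀ y ∈ Cfsg.largestPReducedOf p M, ∀ y' ∈ Cfsg.largestPReducedOf p M,
        y * (g * y' * g⁻¹) = (g * y' * g⁻¹) * y := by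
    intro g hg y hy y' hy'
    have hgR := (mem_normalizer_iff_conj_eq R g).1 hg
    have hP1 : (Cfsg.largestPReducedOf p M).map (MulAut.conj g).toMonoidHom ≤
        Subgroup.normalizer ((Cfsg.largestPReducedOf p M : Subgroup G) : Set G) := by
      refine le_trans ?_ (hRM.trans hMY)
      rw [← hgR]; exact conj_mono hYR g
    have hP2 : Cfsg.largestPReducedOf p M ≤ Subgroup.normalizer
        (((Cfsg.largestPReducedOf p M).map (MulAut.conj g).toMonoidHom : Subgroup G) : Set G) := by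
      refine hYR.trans ?_
      rw [← hgR]
      exact conj_le_normalizer_conj _ _ g (hRM.trans hMY)
    have hcomm : ⁅Cfsg.largestPReducedOf p M,
        (Cfsg.largestPReducedOf p M).map (MulAut.conj g).toMonoidHom⁆ = ⊥ := by
      by_contra hne
      exact hasym ⟨g, hne, le_inf (commutator_le_left_of_le_normalizer _ _ hP1)
        (commutator_le_right_of_le_normalizer _ _ hP2)⟩
    have h1 := Subgroup.commutator_eq_bot_iff_le_centralizer.1 hcomm hy
    exact (Subgroup.mem_centralizer_iff.1 h1 _ (conj_mem_conj _ g y' hy')).symm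
  unfold Subgroup.normalClosure
  rw [MonoidHom.map_closure]
  have hgen : ∀ x ∈ (Subgroup.normalizer (R : Set G)).subtype ''
      Group.conjugatesOfSet ((((Cfsg.largestPReducedOf p M)).subgroupOf
        (Subgroup.normalizer ((R : Subgroup G) : Set G)) :
          Subgroup ↥(Subgroup.normalizer ((R : Subgroup G) : Set G))) :
            Set ↥(Subgroup.normalizer ((R : Subgroup G) : Set G))),
      ∃ n ∈ Subgroup.normalizer (R : Set G), ∃ y ∈ Cfsg.largestPReducedOf p M, x = n * y * n⁻¹ := by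
    rintro _ ⟨x, hx, rfl⟩
    obtain ⟨a, ha, hc⟩ := Group.mem_conjugatesOfSet_iff.1 hx
    obtain ⟨c, rfl⟩ := isConj_iff.1 hc
    exact ⟨c, c.2, a, Subgroup.mem_subgroupOf.1 ha, rfl⟩
  apply isElementaryAbelian_closure
  · intro a ha b hb
    obtain ⟨n₁, hn₁, y₁, hy₁, rfl⟩ := hgen a ha
    obtain ⟨n₂, hn₂, y₂, hy₂, rfl⟩ := hgen b hb
    have h1 := key (n₁⁻¹ * n₂) (Subgroup.mul_mem _ (Subgroup.inv_mem _ hn₁) hn₂) y₁ hy₁ y₂ hy₂
    calc n₁ * y₁ * n₁⁻¹ * (n₂ * y₂ * n₂⁻¹)
        = n₁ * (y₁ * (n₁⁻¹ * n₂ * y₂ * (n₁⁻¹ * n₂)⁻¹)) * n₁⁻¹ := by group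
      _ = n₁ * ((n₁⁻¹ * n₂ * y₂ * (n₁⁻¹ * n₂)⁻¹) * y₁) * n₁⁻¹ := by rw [h1]
      _ = n₂ * y₂ * n₂⁻¹ * (n₁ * y₁ * n₁⁻¹) := by group
  · intro a ha
    obtain ⟨n, hn, y, hy, rfl⟩ := hgen a ha
    rw [conj_pow, hYe.2 y hy]; group

end Cfsg.Agent.S2849
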