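import Cfsg.Statements.S2872
import Mathlib
import Cfsg.Agent.Helper6.ThompsonTransfer
import Cfsg.Agent.Lead.PGroupFrattini
-- import your own Cfsg.Agent.* helpers here

set_option autoImplicit false
open Cfsg

namespace Cfsg.Agent.S2872

/-- Let S be a Sylow 2-subgroup of the finite group G. Then G has a proper normal subgroup of 2-power index (O²(G) ≠ G), or Ω₁(Z(S)) is contained in the Frattini subgroup of S, or N_G(S) acts nontrivially on Ω₁(Z(S)) by conjugation. -/
theorem result {G : Type*} [Group G] [Finite G] (S : Sylow 2 G) : Cfsg.pResidual 2 G ≠ ⊤ ∨ Cfsg.omegaOne 2 ((S : Subgroup G) ⊓ Subgroup.centralizer ((S : Subgroup G) : Set G)) ≤ (frattini ↥(S : Subgroup G)).map (S : Subgroup G).subtype ∨ ∃ g ∈ Subgroup.normalizer ((S : Subgroup G) : Set G), ∃ z ∈ Cfsg.omegaOne 2 ((S : Subgroup G) ⊓ Subgroup.centralizer ((S : Subgroup G) : Set G)), g * z * g⁻¹ ≠ z := by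
  have : Fact (Nat.Prime 2) := ⟨Nat.prime_two⟩
  by_contra hcon
  push Not at hcon
  obtain ⟨h1, h2, h3⟩ := hcon
  unfold Cfsg.omegaOne at h2
  rw [Subgroup.closure_le] at h2
  obtain ⟨z, ⟨hzZ, hz2⟩, hzF⟩ := Set.not_subset.mp h2
  have hzS : z ∈ (S : Subgroup G) := (Subgroup.mem_inf.mp hzZ).1
  have hzC : z ∈ Subgroup.centralizer ((S : Subgroup G) : Set G) := (Subgroup.mem_inf.mp hzZ).2
  have hzF' : (⟨z, hzS⟩ : ↥(S : Subgroup G)) ∉ frattini ↥(S : Subgroup G) := by
    intro h
    exact hzF ⟨⟨z, hzS⟩, h, rfl⟩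
  rw [Cfsg.Agent.Lead.mem_frattini_iff] at hzF'
  push Not at hzF'
  obtain ⟨M, hM, hzM⟩ := hzF'
  have hS2 : IsPGroup 2 ↥(S : Subgroup G) := S.isPGroup'
  have hMn : M.Normal := Cfsg.Agent.Lead.coatom_normal_of_isPGroup 2 hS2 M hM
  have hMi : M.index = 2 := Cfsg.Agent.Lead.coatom_index_of_isPGroup 2 hS2 M hM
  set T : Subgroup G := M.map (S : Subgroup G).subtype with hT
  have hTM : T.subgroupOf (S : Subgroup G) = M := by
    rw [hT]
    exact Subgroup.comap_map_eq_self_of_injective (Subgroup.subtype_injective _) M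
  have hn : (T.subgroupOf (S : Subgroup G)).Normal := hTM ▸ hMn
  have hcyc : IsCyclic (↥(S : Subgroup G) ⧸ T.subgroupOf (S : Subgroup G)) := by
    apply isCyclic_of_prime_card (p := 2)
    rw [← Subgroup.index_eq_card, hTM, hMi]
  have hodd : Odd (S : Subgroup G).index := by
    rw [← Nat.not_even_iff_odd, even_iff_two_dvd]
    exact S.not_dvd_index
  have hzT : z ∉ T := by
    rintro ⟨m, hm, hmz⟩
    apply hzM
    have : m = ⟨z, hzS⟩ := Subtype.ext hmz
    rw [← this]
    exact hm
  rcases Cfsg.Agent.Helper6.thompson_transfer_extremal (S : Subgroup G) hS2 hodd T hcyc z hz2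
    hzS hzT with ⟨f, hf⟩ | ⟨g, hgT, -, -, hmap⟩
  · have hA : IsPGroup 2 (↥(S : Subgroup G) ⧸ T.subgroupOf (S : Subgroup G)) := hS2.to_quotient _
    have hle : Cfsg.pResidual 2 G ≤ f.ker := by
      unfold Cfsg.pResidual
      rw [Subgroup.closure_le]
      intro x hx
      rw [Set.mem_setOf_eq] at hx
      rw [SetLike.mem_coe, MonoidHom.mem_ker]
      obtain ⟨k, hk⟩ := hA (f x)
      have hd1 : orderOf (f x) ∣ orderOf x := orderOf_map_dvd f x
      have hd2 : orderOf (f x) ∣ 2 ^ k := orderOf_dvd_of_pow_eq_one hk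
      have hc : (orderOf x).Coprime (2 ^ k) := Nat.Coprime.pow_right k hx
      have : orderOf (f x) = 1 := Nat.eq_one_of_dvd_coprimes hc hd1 hd2
      exact orderOf_eq_one_iff.mp this
    apply hf
    have : z ∈ f.ker := hle (by rw [h1]; trivial)
    exact this
  · have hSle : (S : Subgroup G) ≤ (S : Subgroup G) ⊓ Subgroup.centralizer {z} := by
      intro s hs
      refine Subgroup.mem_inf.mpr ⟨hs, ?_⟩
      rw [Subgroup.mem_centralizer_iff]
      intro w hw
      rw [Set.mem_singleton_iff] at hw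
      subst hw
      exact (Subgroup.mem_centralizer_iff.mp hzC s hs).symm
    have hle : (S : Subgroup G).map (MulAut.conj g).toMonoidHom ≤ (S : Subgroup G) :=
      ((Subgroup.map_mono hSle).trans hmap).trans inf_le_left
    have heq : (S : Subgroup G).map (MulAut.conj g).toMonoidHom = (S : Subgroup G) :=
      Subgroup.eq_of_le_of_card_ge hle
        (by rw [Subgroup.card_map_of_injective (MulAut.conj g).injective])
    have hgN : g ∈ Subgroup.normalizer ((S : Subgroup G) : Set G) := by
      rw [Subgroup.mem_normalizer_iff]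
      intro h
      constructor
      · intro hh
        exact hle ⟨h, hh, rfl⟩
      · intro hh
        rw [← heq] at hh
        obtain ⟨s, hs, hsh⟩ := hh
        simp only [MulEquiv.toMonoidHom_eq_coe, MonoidHom.coe_coe, MulAut.conj_apply] at hsh
        have : s = h := by
          have := congrArg (fun t => g⁻¹ * t * g) hsh
          simpa [mul_assoc] using this
        rw [← this]
        exact hs
    have hz := h3 g hgN z (Subgroup.subset_closure ⟨hzZ, hz2⟩)
    rw [hz] at hgT
    exact hzT hgT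

end Cfsg.Agent.S2872
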