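import Cfsg.Statements.S2911
import Mathlib
import Cfsg.Agent.Helper6.ThompsonTransfer
import Cfsg.Agent.Helper6.FrobNPC
-- import your own Cfsg.Agent.* helpers here

set_option autoImplicit false
open Cfsg

namespace Cfsg.Agent.S2911

/-- A finite group whose Sylow 2-subgroups are isomorphic to the direct product of a group of order 2 and a dihedral group of order 8 has a subgroup of index two. -/
theorem result {G : Type*} [Group G] [Finite G] (S : Sylow 2 G) (hS : Nonempty (↥(S : Subgroup G) ≃* Multiplicative (ZMod 2) × DihedralGroup 4)) : ∃ H : Subgroup G, H.index = 2 := by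
  obtain ⟨e⟩ := hS
  have F1 : ∀ t : Multiplicative (ZMod 2) × DihedralGroup 4, (t * t).1 = 1 := by decide
  have F2 : ∀ t : Multiplicative (ZMod 2) × DihedralGroup 4, (∀ s, s * t = t * s) → t.1 = 1 →
      ∃ w, t = w * w := by decide
  have F3 : ∀ a : Multiplicative (ZMod 2), a = 1 ∨ a = Multiplicative.ofAdd 1 := by decide
  have F4 : (Multiplicative.ofAdd (1 : ZMod 2)) ≠ 1 := by decide
  have F4' : (Multiplicative.ofAdd (1 : ZMod 2)) ^ 2 = 1 := by decide
  have F5 : ∀ s : Multiplicative (ZMod 2) × DihedralGroup 4,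
      s * (Multiplicative.ofAdd (1 : ZMod 2), 1) = (Multiplicative.ofAdd (1 : ZMod 2), 1) * s := by
    decide
  have F6 : ((Multiplicative.ofAdd (1 : ZMod 2), 1) : Multiplicative (ZMod 2) × DihedralGroup 4) *
      (Multiplicative.ofAdd (1 : ZMod 2), 1) = 1 := by decide
  have F7 : Fintype.card (Multiplicative (ZMod 2) × DihedralGroup 4) = 16 := by decide
  have F8 : Fintype.card (Multiplicative (ZMod 2)) = 2 := by decide
  classical
  obtain ⟨u0, heu0⟩ : ∃ u0 : ↥(S : Subgroup G), e u0 = (Multiplicative.ofAdd (1 : ZMod 2), 1) :=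
    ⟨e.symm _, e.apply_symm_apply _⟩
  have hu0sq : u0 * u0 = 1 := by
    apply e.injective
    rw [map_mul, heu0, MulEquiv.map_one e]; exact F6
  have hu : (u0 : G) ^ 2 = 1 := by
    rw [pow_two]
    exact congrArg Subtype.val hu0sq
  have hu0c : ∀ s : ↥(S : Subgroup G), s * u0 = u0 * s := by
    intro s
    apply e.injective
    rw [map_mul, map_mul, heu0]; exact F5 _
  have hcardS : Nat.card ↥(S : Subgroup G) = 16 := by
    rw [Nat.card_congr e.toEquiv, Nat.card_eq_fintype_card]; exact F7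
  have hodd : Odd (S : Subgroup G).index := by
    have := S.not_dvd_index
    exact Nat.odd_iff.mpr (Nat.two_dvd_ne_zero.mp this)
  have aux : ∀ (g : G) (h : g⁻¹ * (u0 : G) * g ∈ (S : Subgroup G)), (e ⟨_, h⟩).1 = 1 →
      2 ∣ ((S : Subgroup G) ⊓ Subgroup.centralizer {g⁻¹ * (u0 : G) * g}).relIndex
        (Subgroup.centralizer {g⁻¹ * (u0 : G) * g}) := by
    intro g h h1
    obtain ⟨v, hv⟩ : ∃ v : G, v = g⁻¹ * (u0 : G) * g := ⟨_, rfl⟩
    obtain ⟨C, hC⟩ : ∃ C : Subgroup G, C = Subgroup.centralizer {v} := ⟨_, rfl⟩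
    have hmemC : ∀ x : G, x ∈ C ↔ x * v = v * x := by
      intro x; rw [hC]; exact Subgroup.mem_centralizer_singleton_iff
    have h2 : ((g⁻¹ • S : Sylow 2 G) : Subgroup G) ≤ C := by
      intro x hx
      have hx' : (g⁻¹)⁻¹ * x * g⁻¹ ∈ S := (Cfsg.Agent.Helper6.mem_sylow_smul_iff S g⁻¹ x).mp hx
      have this : (g⁻¹)⁻¹ * x * g⁻¹ * (u0 : G) = (u0 : G) * ((g⁻¹)⁻¹ * x * g⁻¹) :=
        congrArg Subtype.val (hu0c ⟨_, hx'⟩)
      rw [inv_inv] at this
      rw [hmemC, hv]
      calc x * (g⁻¹ * (u0:G) * g) = g⁻¹ * (g * x * g⁻¹ * (u0:G)) * g := by group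
        _ = g⁻¹ * ((u0:G) * (g * x * g⁻¹)) * g := by rw [this]
        _ = g⁻¹ * (u0:G) * g * x := by group
    have h16 : 16 ∣ Nat.card C := by
      have : Nat.card ((g⁻¹ • S : Sylow 2 G) : Subgroup G) = 16 :=
        (Sylow.card_eq_multiplicity (g⁻¹ • S)).trans ((Sylow.card_eq_multiplicity S).symm.trans hcardS)
      rw [← this]
      exact Subgroup.card_dvd_of_le h2
    rw [← hv, ← hC]
    by_cases hSC : (S : Subgroup G) ≤ C
    · exfalso
      have hcen : ∀ s, s * e ⟨_, h⟩ = e ⟨_, h⟩ * s := by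
        intro s
        have hs : ((e.symm s : ↥(S : Subgroup G)) : G) ∈ C := hSC (e.symm s).2
        rw [hmemC, hv] at hs
        have : e.symm s * ⟨_, h⟩ = ⟨_, h⟩ * e.symm s := Subtype.ext hs
        have := congrArg e this
        rwa [map_mul, map_mul, e.apply_symm_apply] at this
      obtain ⟨w, hw⟩ := F2 _ hcen h1
      have hw0 : (⟨_, h⟩ : ↥(S : Subgroup G)) = e.symm w * e.symm w := by
        apply e.injective
        rw [map_mul, e.apply_symm_apply]; exact hw
      have hw0' : v = ((e.symm w : ↥(S : Subgroup G)) : G) * ((e.symm w : ↥(S : Subgroup G)) : G) := by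
        rw [hv]; exact congrArg Subtype.val hw0
      obtain ⟨x, hx⟩ := MulAction.exists_smul_eq ↥C ((g⁻¹ • S : Sylow 2 G).subtype h2) (S.subtype hSC)
      have hwC : ((e.symm w : ↥(S : Subgroup G)) : G) ∈ C := hSC (e.symm w).2
      have hmem : (⟨_, hwC⟩ : ↥C) ∈ x • ((g⁻¹ • S : Sylow 2 G).subtype h2) := by
        rw [hx]
        show (⟨_, hwC⟩ : ↥C) ∈ ((S.subtype hSC : Sylow 2 ↥C) : Subgroup ↥C)
        rw [Sylow.coe_subtype, Subgroup.mem_subgroupOf]
        exact (e.symm w).2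
      rw [Cfsg.Agent.Helper6.mem_sylow_smul_iff] at hmem
      have hmem2 : ((x⁻¹ * ⟨_, hwC⟩ * x : ↥C) : G) ∈ ((g⁻¹ • S : Sylow 2 G) : Subgroup G) := by
        have : (x⁻¹ * ⟨_, hwC⟩ * x : ↥C) ∈
            (((g⁻¹ • S : Sylow 2 G).subtype h2 : Sylow 2 ↥C) : Subgroup ↥C) := hmem
        rw [Sylow.coe_subtype, Subgroup.mem_subgroupOf] at this
        exact this
      have hmem3 := (Cfsg.Agent.Helper6.mem_sylow_smul_iff S g⁻¹ _).mp hmem2
      have hxv : (x : G) * v = v * (x : G) := (hmemC _).mp x.2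
      have hy2 : (⟨_, hmem3⟩ : ↥(S : Subgroup G)) * ⟨_, hmem3⟩ = u0 := by
        apply Subtype.ext
        show (g⁻¹)⁻¹ * ((x : G)⁻¹ * ((e.symm w : ↥(S : Subgroup G)) : G) * (x : G)) * g⁻¹ *
          ((g⁻¹)⁻¹ * ((x : G)⁻¹ * ((e.symm w : ↥(S : Subgroup G)) : G) * (x : G)) * g⁻¹) = (u0 : G)
        have e1 : (x : G)⁻¹ * v * (x : G) = v := by rw [mul_assoc, ← hxv, inv_mul_cancel_left]
        have e2 : g * v * g⁻¹ = (u0 : G) := by rw [hv]; group
        calc _ = g * ((x:G)⁻¹ * (((e.symm w : ↥(S : Subgroup G)) : G) *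
              ((e.symm w : ↥(S : Subgroup G)) : G)) * (x:G)) * g⁻¹ := by group
          _ = (u0 : G) := by rw [← hw0', e1, e2]
      have := congrArg e hy2
      rw [map_mul, heu0] at this
      have h3 := F1 (e ⟨_, hmem3⟩)
      rw [this] at h3
      exact F4 h3
    · by_contra h2'
      have hcop : Nat.Coprime (2 ^ 4) (((S : Subgroup G) ⊓ C).relIndex C) :=
        Nat.Coprime.pow_left 4 ((Nat.Prime.coprime_iff_not_dvd Nat.prime_two).mpr h2')
      have hmul : ((S : Subgroup G) ⊓ C).relIndex C * Nat.card ↥((S : Subgroup G) ⊓ C) =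
          Nat.card C := by
        rw [← Nat.card_congr (Subgroup.subgroupOfEquivOfLe
          (inf_le_right : (S : Subgroup G) ⊓ C ≤ C)).toEquiv]
        exact Subgroup.index_mul_card _
      have hd : 2 ^ 4 ∣ Nat.card ↥((S : Subgroup G) ⊓ C) := by
        apply hcop.dvd_of_dvd_mul_left
        rw [hmul]; exact h16
      have hd2 : Nat.card ↥((S : Subgroup G) ⊓ C) ∣ 16 := by
        rw [← hcardS]; exact Subgroup.card_dvd_of_le inf_le_left
      have hd3 : Nat.card ↥((S : Subgroup G) ⊓ C) = Nat.card ↥(S : Subgroup G) := by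
        rw [hcardS]; exact Nat.dvd_antisymm hd2 hd
      have : (S : Subgroup G) ⊓ C = S := Subgroup.eq_of_le_of_card_ge inf_le_left hd3.ge
      exact hSC ((le_of_eq this.symm).trans inf_le_right)
  have key : MonoidHom.transfer ((MonoidHom.fst (Multiplicative (ZMod 2)) (DihedralGroup 4)).comp
      e.toMonoidHom) (u0 : G) = Multiplicative.ofAdd (1 : ZMod 2) := by
    apply Cfsg.Agent.Helper6.transfer_involution_extremal (S : Subgroup G) hodd _ (u0 : G) hu _ F4'
    intro g h
    rcases F3 ((e ⟨_, h⟩).1) with h1 | h1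
    · right; exact ⟨h1, aux g h h1⟩
    · left; exact h1
  refine ⟨(MonoidHom.transfer ((MonoidHom.fst (Multiplicative (ZMod 2)) (DihedralGroup 4)).comp
      e.toMonoidHom)).ker, ?_⟩
  rw [Subgroup.index_ker]
  have : (MonoidHom.transfer ((MonoidHom.fst (Multiplicative (ZMod 2)) (DihedralGroup 4)).comp
      e.toMonoidHom)).range = ⊤ := by
    rw [eq_top_iff]
    intro a _
    rcases F3 a with h1 | h1
    · rw [h1]; exact Subgroup.one_mem _
    · rw [h1, ← key]; exact ⟨_, rfl⟩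
  rw [this, Subgroup.card_top, Nat.card_eq_fintype_card]; exact F8

end Cfsg.Agent.S2911
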