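import Cfsg.Statements.S2968
import Cfsg.Agent.Helper5.Isolated

set_option autoImplicit false
open Cfsg

namespace Cfsg.Agent.S2968

open Cfsg.Agent.Helper5

/-- Let G be a finite group, p a prime, P a Sylow p-subgroup of G and x ∈ P an element of p-power order which is isolated in G (the only conjugate of x commuting with x is x itself). Then x lies in the centre of P, and the subgroup generated by x is both strongly closed and weakly closed in P with respect to G. -/
theorem result {G : Type*} [Group G] [Finite G] {p : ℕ} [Fact p.Prime] (P : Sylow p G) (x : G) (hxP : x ∈ (P : Subgroup G)) (hx : ∃ k : ℕ, orderOf x = p ^ k) (hiso : Cfsg.IsIsolated x) : x ∈ (P : Subgroup G) ⊓ Subgroup.centralizer ((P : Subgroup G) : Set G) ∧ Cfsg.IsStronglyClosed (Subgroup.zpowers x) (P : Subgroup G) ∧ Cfsg.IsWeaklyClosed (Subgroup.zpowers x) (P : Subgroup G) := by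
  have hcent : ∀ y ∈ (P : Subgroup G), y * x = x * y :=
    isolated_central x hiso (P : Subgroup G) P.2 hxP
  have hle : Subgroup.zpowers x ≤ (P : Subgroup G) := by
    rw [Subgroup.zpowers_le]; exact hxP
  refine ⟨Subgroup.mem_inf.2 ⟨hxP, ?_⟩, ⟨hle, ?_⟩, ⟨hle, ?_⟩⟩
  · rw [Subgroup.mem_centralizer_iff]
    intro y hy
    exact hcent y hy
  · intro y hy g hgy
    obtain ⟨k, rfl⟩ := Subgroup.mem_zpowers_iff.1 hy
    set u : G := g * x * g⁻¹ with hu
    have huk : g * x ^ k * g⁻¹ = u ^ k := by rw [hu, conj_zpow]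
    rw [huk] at hgy ⊢
    have hxC : x ∈ Subgroup.centralizer ({u ^ k} : Set G) :=
      (mem_centralizer_singleton_iff _ _).2 (hcent _ hgy).symm
    have huC : u ∈ Subgroup.centralizer ({u ^ k} : Set G) :=
      (mem_centralizer_singleton_iff _ _).2 ((Commute.refl u).zpow_right k).eq
    obtain ⟨c, hc, hcu⟩ := isolated_conj_in_subgroup x hx hiso _ hxC g huC
    have hc' : c * u ^ k = u ^ k * c := (mem_centralizer_singleton_iff _ _).1 hc
    have h1 : u ^ k = c * x ^ k * c⁻¹ := by
      rw [← conj_zpow, ← hcu]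
    have h2 : x ^ k = u ^ k := by
      calc x ^ k = c⁻¹ * (c * x ^ k * c⁻¹) * c := by group
        _ = c⁻¹ * u ^ k * c := by rw [← h1]
        _ = c⁻¹ * (u ^ k * c) := by group
        _ = c⁻¹ * (c * u ^ k) := by rw [hc']
        _ = u ^ k := by group
    rw [← h2]
    exact Subgroup.zpow_mem_zpowers x k
  · intro g hg
    have h1 : g * x * g⁻¹ ∈ (Subgroup.zpowers x).map (MulAut.conj g).toMonoidHom :=
      conj_mem_conj _ g x (Subgroup.mem_zpowers x)
    have h2 := hcent _ (hg h1)
    have h3 := hiso g h2.symm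
    rw [MonoidHom.map_zpowers]
    simp only [MulEquiv.toMonoidHom_eq_coe, MonoidHom.coe_coe, MulAut.conj_apply]
    rw [h3]

end Cfsg.Agent.S2968
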