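import Cfsg.Statements.S2970
import Cfsg.Agent.Helper5.Isolated
import Cfsg.Agent.Helper5.CyclicSylow

set_option autoImplicit false
open Cfsg

namespace Cfsg.Agent.S2970

open Cfsg.Agent.Helper5

/-- Let G be a finite group, p a prime and x ∈ G an element of p-power order which is isolated in G. Then the image of x in any quotient G ⧸ N is isolated in G ⧸ N; and if x ≠ 1 and the Sylow p-subgroups of G are cyclic, then G has a normal p-complement. -/
theorem result {G : Type*} [Group G] [Finite G] {p : ℕ} [Fact p.Prime] (x : G) (hx : ∃ k : ℕ, orderOf x = p ^ k) (hiso : Cfsg.IsIsolated x) : (∀ (N : Subgroup G) [N.Normal], Cfsg.IsIsolated (QuotientGroup.mk x : G ⧸ N)) ∧ (x ≠ 1 → (∀ P : Sylow p G, IsCyclic ↥(P : Subgroup G)) → Cfsg.HasNormalPComplement p G) := by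
  constructor
  · intro N _ gbar hcomm
    obtain ⟨g, rfl⟩ := QuotientGroup.mk_surjective gbar
    set xb : G ⧸ N := (QuotientGroup.mk x : G ⧸ N) with hxb
    set H : Subgroup G := (Subgroup.centralizer ({xb} : Set (G ⧸ N))).comap (QuotientGroup.mk' N) with hH
    have hxH : x ∈ H := by
      rw [hH, Subgroup.mem_comap, mem_centralizer_singleton_iff]
      rfl
    have huH : g * x * g⁻¹ ∈ H := by
      rw [hH, Subgroup.mem_comap, mem_centralizer_singleton_iff]
      exact hcomm.eq.symm
    obtain ⟨h, hh, hu⟩ := isolated_conj_in_subgroup x hx hiso H hxH g huH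
    have hh' : (QuotientGroup.mk h : G ⧸ N) * xb = xb * (QuotientGroup.mk h : G ⧸ N) := by
      rw [hH, Subgroup.mem_comap, mem_centralizer_singleton_iff] at hh
      exact hh
    have e : (QuotientGroup.mk g : G ⧸ N) * xb * (QuotientGroup.mk g : G ⧸ N)⁻¹ =
        (QuotientGroup.mk h : G ⧸ N) * xb * (QuotientGroup.mk h : G ⧸ N)⁻¹ := by
      have := congrArg (QuotientGroup.mk : G → G ⧸ N) hu
      simpa using this
    rw [e, hh']
    group
  · intro hx1 hcyc
    have hxp : IsPGroup p (Subgroup.zpowers x) := isPGroup_zpowers x hx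
    obtain ⟨P, hP⟩ := hxp.exists_le_sylow
    have hxP : x ∈ (P : Subgroup G) := hP (Subgroup.mem_zpowers x)
    have hN : Subgroup.normalizer ((P : Subgroup G) : Set G) ≤ Subgroup.centralizer ({x} : Set G) := by
      intro n hn
      have h1 : n * x * n⁻¹ ∈ (P : Subgroup G) := (hn x).1 hxP
      have h2 := isolated_central x hiso (P : Subgroup G) P.2 hxP _ h1
      have h3 := hiso n h2.symm
      rw [mem_centralizer_singleton_iff]
      calc n * x = (n * x * n⁻¹) * n := by group
        _ = x * n := by rw [h3]
    have hNC := cyclic_sylow_normalizer_le_centralizer P (hcyc P) x hxP hx1 hN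
    exact ⟨P, (MonoidHom.transferSylow P hNC).ker, inferInstance,
      MonoidHom.ker_transferSylow_isComplement' P hNC⟩

end Cfsg.Agent.S2970
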