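import Cfsg.Statements.S3015
import Mathlib
import Cfsg.Agent.S3014
import Cfsg.Agent.S4262
-- import your own Cfsg.Agent.* helpers here

set_option autoImplicit false
open Cfsg

namespace Cfsg.Agent.S3015

/-- Let G be a finite non-abelian simple group, M a maximal subgroup of G and H a normal subgroup of M of prime index in M. Then G is generated by H together with one of its conjugates. -/
theorem result {G : Type*} [Group G] [Finite G] [IsSimpleGroup G] (hG : ¬ IsMulCommutative G) (M H : Subgroup G) (hmaxM : IsCoatom M) (hHM : H ≤ M) (hHn : (H.subgroupOf M).Normal) (hidx : (H.relIndex M).Prime) : ∃ g : G, H ⊔ H.map (MulAut.conj g).toMonoidHom = ⊤ := by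
  classical
  by_contra hno
  push Not at hno
  obtain ⟨p, hp⟩ : ∃ p, p = H.relIndex M := ⟨_, rfl⟩
  rw [← hp] at hidx
  haveI : Fact p.Prime := ⟨hidx⟩
  have hconj_mem : ∀ (L : Subgroup G) (g x : G),
      x ∈ L.map (MulAut.conj g).toMonoidHom ↔ g⁻¹ * x * g ∈ L := by
    intro L g x
    constructor
    · rintro ⟨h, hh, rfl⟩
      have : g⁻¹ * (g * h * g⁻¹) * g = h := by group
      show g⁻¹ * (g * h * g⁻¹) * g ∈ L
      rw [this]; exact hh
    · intro hx
      refine ⟨g⁻¹ * x * g, hx, ?_⟩
      show g * (g⁻¹ * x * g) * g⁻¹ = x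
      group
  have hnz : ∀ (L : Subgroup G) (g : G), L.map (MulAut.conj g).toMonoidHom = L →
      g ∈ Subgroup.normalizer (L : Set G) := by
    intro L g hg
    rw [Subgroup.mem_normalizer_iff]
    intro h
    constructor
    · intro hh
      have h1 : g * h * g⁻¹ ∈ L.map (MulAut.conj g).toMonoidHom := ⟨h, hh, rfl⟩
      rwa [hg] at h1
    · intro hh
      have h1 : g * h * g⁻¹ ∈ L.map (MulAut.conj g).toMonoidHom := by rw [hg]; exact hh
      rw [hconj_mem] at h1
      have e : g⁻¹ * (g * h * g⁻¹) * g = h := by group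
      rwa [e] at h1
  have hMtop : M ≠ ⊤ := hmaxM.1
  have hHneM : ¬ M ≤ H := by
    intro h
    have : H.relIndex M = 1 := Subgroup.relIndex_eq_one.mpr h
    rw [← hp] at this
    exact hidx.one_lt.ne' this
  have hMle : M ≤ Subgroup.normalizer (H : Set G) :=
    (Subgroup.normal_subgroupOf_iff_le_normalizer hHM).mp hHn
  have hMn : ∀ m ∈ M, H.map (MulAut.conj m).toMonoidHom = H := by
    intro m hm
    have h1 := hMle hm
    rw [Subgroup.mem_normalizer_iff] at h1
    apply le_antisymm
    · rintro x ⟨h, hh, rfl⟩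
      exact (h1 h).mp hh
    · intro x hx
      rw [hconj_mem]
      refine (h1 (m⁻¹ * x * m)).mpr ?_
      have : m * (m⁻¹ * x * m) * m⁻¹ = x := by group
      rw [this]; exact hx
  have hMnn : ¬ M.Normal := by
    intro hn
    rcases hn.eq_bot_or_eq_top with h | h
    · apply hHneM; rw [h]; exact bot_le
    · exact hMtop h
  have hNMeq : Subgroup.normalizer (M : Set G) = M := by
    by_contra hne
    have hlt : M < Subgroup.normalizer (M : Set G) :=
      lt_of_le_of_ne Subgroup.le_normalizer (Ne.symm hne)
    exact hMnn (Subgroup.normalizer_eq_top_iff.mp (hmaxM.2 _ hlt))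
  have hmax : ∀ L : Subgroup G, H ≤ L → L ≤ M → L = H ∨ L = M := by
    intro L hHL hLM
    have h1 := Subgroup.relIndex_mul_relIndex H L M hHL hLM
    rw [← hp] at h1
    rcases (Nat.dvd_prime hidx).mp (Dvd.intro _ h1) with h2 | h2
    · left; exact le_antisymm (Subgroup.relIndex_eq_one.mp h2) hHL
    · right
      rw [h2] at h1
      have h3 : L.relIndex M = 1 := Nat.eq_of_mul_eq_mul_left hidx.pos (by rw [h1, mul_one])
      exact le_antisymm hLM (Subgroup.relIndex_eq_one.mp h3)
  by_cases hHbot : H = ⊥
  · have hcardM : Nat.card M = p := by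
      rw [hp, hHbot, Subgroup.relIndex_bot_left]
    have hMp : IsPGroup p M := IsPGroup.of_card (n := 1) (by rw [hcardM, pow_one])
    obtain ⟨P, hP⟩ := hMp.exists_le_sylow
    have hPM : (P : Subgroup G) = M := by
      by_contra hne
      have hlt : M < (P : Subgroup G) := lt_of_le_of_ne hP (Ne.symm hne)
      have htop := hmaxM.2 _ hlt
      have hGp : IsPGroup p G := by
        have := P.2
        rw [htop] at this
        exact this.of_equiv Subgroup.topEquiv
      haveI : Group.IsNilpotent G := hGp.isNilpotent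
      exact hG ⟨⟨IsSimpleGroup.comm_iff_isSolvable.mpr inferInstance⟩⟩
    have hPnc : Subgroup.normalizer ((P : Subgroup G) : Set G) ≤
        Subgroup.centralizer (P : Set G) := by
      rw [hPM, hNMeq]
      intro x hx
      rw [Subgroup.mem_centralizer_iff]
      intro y hy
      have hc : IsCyclic ↥M := isCyclic_of_prime_card (p := p) hcardM
      letI := IsCyclic.commGroup (α := ↥M)
      have hy' : y ∈ M := by rw [← hPM]; exact hy
      have := mul_comm (⟨y, hy'⟩ : ↥M) ⟨x, hx⟩
      exact congrArg Subtype.val this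
    have hcomp := MonoidHom.ker_transferSylow_isComplement' P hPnc
    rcases (MonoidHom.normal_ker (MonoidHom.transferSylow P hPnc)).eq_bot_or_eq_top with h | h
    · rw [h, Subgroup.isComplement'_bot_left] at hcomp
      exact hMtop (hPM ▸ hcomp)
    · rw [h, Subgroup.isComplement'_top_left] at hcomp
      rw [hPM] at hcomp
      rw [hcomp, Subgroup.card_bot] at hcardM
      exact hidx.one_lt.ne' hcardM.symm
  have hNHeq : Subgroup.normalizer (H : Set G) = M := by
    by_contra hne
    have hlt : M < Subgroup.normalizer (H : Set G) := lt_of_le_of_ne hMle (Ne.symm hne)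
    have hn : H.Normal := Subgroup.normalizer_eq_top_iff.mp (hmaxM.2 _ hlt)
    rcases hn.eq_bot_or_eq_top with h | h
    · exact hHbot h
    · apply hMtop; rw [eq_top_iff, ← h]; exact hHM
  haveI := hHn
  have hPP : ∀ y ∈ M, (orderOf y).Coprime p → y ∈ H := by
    intro y hy hco
    have h1 : (⟨y, hy⟩ : ↥M) ^ (H.subgroupOf M).index ∈ H.subgroupOf M :=
      Subgroup.pow_index_mem _ _
    rw [Subgroup.mem_subgroupOf] at h1
    have h1' : y ^ p ∈ H := by rw [hp]; exact h1
    have h2 : y ^ (orderOf y) ∈ H := by rw [pow_orderOf_eq_one]; exact H.one_mem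
    exact Cfsg.Agent.S4262.mem_of_pow_mem_coprime H y (orderOf y) p hco h2 h1'
  have hWC : ∀ a : G, H ≤ M.map (MulAut.conj a).toMonoidHom → a ∈ M := by
    intro a ha
    by_contra haM
    obtain ⟨R, hR⟩ : ∃ R : Subgroup G → Subgroup G,
        R = fun X => Subgroup.closure {x | x ∈ X ∧ (orderOf x).Coprime p} := ⟨_, rfl⟩
    have hRdef : ∀ X, R X = Subgroup.closure {x | x ∈ X ∧ (orderOf x).Coprime p} := by
      intro X; rw [hR]
    have hR1 : ∀ (X : Subgroup G) (g : G), (R X).map (MulAut.conj g).toMonoidHom =
        R (X.map (MulAut.conj g).toMonoidHom) := by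
      intro X g
      rw [hRdef, hRdef, MonoidHom.map_closure]
      congr 1
      ext y
      constructor
      · rintro ⟨x, ⟨hxX, hxo⟩, rfl⟩
        refine ⟨⟨x, hxX, rfl⟩, ?_⟩
        have : orderOf ((MulAut.conj g).toMonoidHom x) = orderOf x :=
          MulEquiv.orderOf_eq (MulAut.conj g) x
        rw [this]; exact hxo
      · rintro ⟨⟨x, hxX, rfl⟩, ho⟩
        refine ⟨x, ⟨hxX, ?_⟩, rfl⟩
        have : orderOf ((MulAut.conj g).toMonoidHom x) = orderOf x :=
          MulEquiv.orderOf_eq (MulAut.conj g) x
        rw [this] at ho; exact ho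
    have hR2 : R H ≤ H := by
      rw [hRdef, Subgroup.closure_le]
      intro x hx; exact hx.1
    have hR3 : R H ≤ R (H.map (MulAut.conj a).toMonoidHom) := by
      rw [hRdef, hRdef]
      apply Subgroup.closure_mono
      intro x hx
      refine ⟨?_, hx.2⟩
      rw [hconj_mem]
      apply hPP
      · exact (hconj_mem M a x).mp (ha hx.1)
      · have : orderOf (a⁻¹ * x * a) = orderOf x := by
          have := MulEquiv.orderOf_eq (MulAut.conj a⁻¹) x
          simpa [MulAut.conj_apply] using this
        rw [this]; exact hx.2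
    have hR4 : (R H).map (MulAut.conj a).toMonoidHom = R H := by
      rw [hR1]
      symm
      apply Subgroup.eq_of_le_of_card_ge hR3
      rw [← hR1, Subgroup.card_map_of_injective (MulAut.conj a).injective]
    have haN : a ∈ Subgroup.normalizer ((R H : Subgroup G) : Set G) := hnz _ a hR4
    have hMN : M ≤ Subgroup.normalizer ((R H : Subgroup G) : Set G) := by
      intro m hm
      apply hnz
      rw [hR1, hMn m hm]
    have hRtop : Subgroup.normalizer ((R H : Subgroup G) : Set G) = ⊤ := by
      apply hmaxM.2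
      apply lt_of_le_of_ne hMN
      intro heq
      apply haM
      rw [heq]; exact haN
    have hRn : (R H).Normal := Subgroup.normalizer_eq_top_iff.mp hRtop
    have hRbot : R H = ⊥ := by
      rcases hRn.eq_bot_or_eq_top with h | h
      · exact h
      · exfalso; apply hMtop; rw [eq_top_iff, ← h]; exact hR2.trans hHM
    have hp' : ∀ y ∈ M, (orderOf y).Coprime p → y = 1 := by
      intro y hy hco
      have h1 : y ∈ R H := by
        rw [hRdef]
        exact Subgroup.subset_closure ⟨hPP y hy hco, hco⟩
      rw [hRbot] at h1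
      exact Subgroup.mem_bot.mp h1
    have hcardM : ∃ k, Nat.card M = p ^ k := by
      refine ⟨_, Nat.eq_prime_pow_of_unique_prime_dvd (p := p) Nat.card_pos.ne' ?_⟩
      intro q hq hqd
      by_contra hne
      haveI : Fact q.Prime := ⟨hq⟩
      obtain ⟨y, hy⟩ := exists_prime_orderOf_dvd_card' (G := ↥M) q hqd
      have h1 : (y : G) = 1 := by
        apply hp' _ y.2
        rw [Subgroup.orderOf_coe, hy]
        exact (Nat.coprime_primes hq hidx).mpr hne
      have h2 : y = 1 := Subtype.ext h1
      rw [h2, orderOf_one] at hy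
      exact hq.one_lt.ne' hy.symm
    obtain ⟨k, hk⟩ := hcardM
    obtain ⟨Ms, hMs⟩ : ∃ Ms : Subgroup G, Ms = M.map (MulAut.conj a).toMonoidHom := ⟨_, rfl⟩
    rw [← hMs] at ha
    have hcardMs : Nat.card Ms = Nat.card M := by
      rw [hMs]; exact Subgroup.card_map_of_injective (MulAut.conj a).injective
    have hcH1 : p * Nat.card H = Nat.card M := by
      have h1 := Subgroup.index_mul_card (H.subgroupOf M)
      rw [Nat.card_congr (Subgroup.subgroupOfEquivOfLe hHM).toEquiv] at h1
      rw [hp]; exact h1
    have hcH2 : (H.subgroupOf Ms).index * Nat.card H = Nat.card Ms := by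
      have h1 := Subgroup.index_mul_card (H.subgroupOf Ms)
      rw [Nat.card_congr (Subgroup.subgroupOfEquivOfLe ha).toEquiv] at h1
      exact h1
    have hposH : 0 < Nat.card H := Nat.card_pos
    have hidx2 : (H.subgroupOf Ms).index = p := by
      rw [hcardMs, ← hcH1] at hcH2
      exact Nat.eq_of_mul_eq_mul_right hposH hcH2
    have hk0 : k ≠ 0 := by
      rintro rfl
      rw [pow_zero] at hk
      rw [hk] at hcH1
      have := hidx.two_le
      nlinarith
    have hnorm2 : (H.subgroupOf Ms).Normal := by
      apply Subgroup.normal_of_index_eq_minFac_card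
      rw [hidx2, hcardMs, hk, Nat.Prime.pow_minFac hidx hk0]
    have hle2 : Ms ≤ Subgroup.normalizer (H : Set G) :=
      (Subgroup.normal_subgroupOf_iff_le_normalizer ha).mp hnorm2
    rw [hNHeq] at hle2
    have heq2 : Ms = M := Subgroup.eq_of_le_of_card_ge hle2 (le_of_eq hcardMs.symm)
    apply haM
    have : a ∈ Subgroup.normalizer (M : Set G) := hnz M a (by rw [← hMs]; exact heq2)
    rwa [hNMeq] at this
  have hcl : ∀ g : G, (H ⊔ H.map (MulAut.conj g).toMonoidHom) ⊓ M = H := by
    intro g
    rcases hmax ((H ⊔ H.map (MulAut.conj g).toMonoidHom) ⊓ M) (le_inf le_sup_left hHM)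
      inf_le_right with h | h
    · exact h
    · exfalso
      have h1 : M ≤ H ⊔ H.map (MulAut.conj g).toMonoidHom := (le_of_eq h.symm).trans inf_le_left
      have h2 : H ⊔ H.map (MulAut.conj g).toMonoidHom = M := by
        by_contra hne
        exact hno g (hmaxM.2 _ (lt_of_le_of_ne h1 (Ne.symm hne)))
      have h3 : H.map (MulAut.conj g).toMonoidHom ≤ M := le_sup_right.trans (le_of_eq h2)
      have h4 : g⁻¹ ∈ M := by
        apply hWC
        intro x hx
        rw [hconj_mem]
        apply h3
        exact ⟨x, hx, by simp [MulAut.conj_apply]⟩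
      have h5 : g ∈ M := by simpa using M.inv_mem h4
      rw [hMn g h5, sup_idem] at h2
      exact hHneM (le_of_eq h2.symm)
  have hcoat : IsCoatom (H.subgroupOf M) := by
    refine ⟨fun h => hHneM (Subgroup.subgroupOf_eq_top.mp h), ?_⟩
    intro b hb
    have h1 := Subgroup.relIndex_mul_index hb.le
    have h5 : (H.subgroupOf M).index = p := hp.symm
    rw [h5] at h1
    have h2 : b.index ∣ p := Dvd.intro_left _ h1
    rcases (Nat.dvd_prime hidx).mp h2 with h3 | h3
    · exact Subgroup.index_eq_one.mp h3
    · exfalso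
      rw [h3] at h1
      have h4 : (H.subgroupOf M).relIndex b = 1 :=
        Nat.eq_of_mul_eq_mul_right hidx.pos (by rw [h1, one_mul])
      exact (not_le_of_gt hb) (Subgroup.relIndex_eq_one.mp h4)
  have hfin := Cfsg.Agent.S3014.result H M hHM hcl hcoat hmaxM
  rcases (Subgroup.normalClosure_normal (s := (H : Set G))).eq_bot_or_eq_top with h | h
  · apply hHbot
    rw [eq_bot_iff, ← h]; exact Subgroup.le_normalClosure
  · rw [h, top_inf_eq] at hfin
    exact hHneM (le_of_eq hfin)

end Cfsg.Agent.S3015
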