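import Cfsg.Statements.S3062
import Cfsg.Agent.Helper5.DStar2

set_option autoImplicit false
open Cfsg

namespace Cfsg.Agent.S3062

/-- Let S be a finite p-group, J(S) the subgroup generated by the abelian subgroups of S of largest order and Z(J(S)) its centre. Then Z(S) ≤ D*(S) ≤ Z(J(S)), and every maximal normal abelian subgroup of S contains D*(S). -/
theorem result {S : Type*} [Group S] [Finite S] {p : ℕ} [Fact p.Prime]
    (hS : IsPGroup p S) :
    Subgroup.center S ≤ Cfsg.dStar S ∧
    Cfsg.dStar S ≤ Cfsg.thompsonSubgroupA S ⊓ Subgroup.centralizer (Cfsg.thompsonSubgroupA S : Set S) ∧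
    ∀ A : Subgroup S, A.Normal → IsMulCommutative A →
      (∀ B : Subgroup S, B.Normal → IsMulCommutative B → A ≤ B → B = A) → Cfsg.dStar S ≤ A := by
  haveI : (Cfsg.dStar S).Normal := Helper5.dStar_normal
  have hD := Helper5.dStar_mem_family hS
  refine ⟨le_sSup Helper5.center_mem_dStarFamily, ?_, ?_⟩
  · obtain ⟨A₀, hA₀⟩ := Helper5.exists_maxAbelian S
    refine le_inf ((Helper5.dStar_le_maxAbelian hS A₀ hA₀).2.trans (le_sSup hA₀)) ?_
    rw [Subgroup.le_centralizer_iff]
    apply sSup_le
    intro A hA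
    exact (Helper5.dStar_le_maxAbelian hS A hA).1
  · intro A hAn hAc hmax
    haveI := hAn
    haveI := hAc
    haveI : Group.IsNilpotent S := hS.isNilpotent
    have hAc' : ∀ a ∈ A, ∀ b ∈ A, a * b = b * a := fun a ha b hb =>
      congrArg Subtype.val (mul_comm' (⟨a, ha⟩ : A) ⟨b, hb⟩)
    have h1 := Helper5.centralizes_of_normalizes (Cfsg.dStar S) hD A hAc'
      (by rw [Subgroup.normalizer_eq_top]; exact le_top)
    refine (Subgroup.le_centralizer_iff.1 h1).trans ?_
    refine Lead.centralizer_le_of_max_normal_abelian A hAc' ?_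
    intro B hBn hBc hAB
    refine hmax B hBn ?_ hAB
    rw [isMulCommutative_iff]
    rintro ⟨x, hx⟩ ⟨y, hy⟩
    exact Subtype.ext (hBc x hx y hy)

end Cfsg.Agent.S3062
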