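import Cfsg.Statements.S3063
import Cfsg.Agent.Helper3.DStar
import Cfsg.Agent.Helper5.CD

set_option autoImplicit false
open Cfsg

namespace Cfsg.Agent.S3063

open scoped commutatorElement in
theorem arith (x q t m r h s : ℕ) (c1 : q * t = s * r) (c2 : x * x = h * q) (c3 : x * t = h * m)
    (hs : s ≤ x) (hr : r ≤ m) (hx : 0 < x) (hh : 0 < h) (hr0 : 0 < r) : r = m ∧ s = x := by
  have e1 : h * (x * m) = h * (s * r) := by
    calc h * (x * m) = x * (h * m) := by ring
      _ = x * (x * t) := by rw [c3]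
      _ = (x * x) * t := by ring
      _ = (h * q) * t := by rw [c2]
      _ = h * (q * t) := by ring
      _ = h * (s * r) := by rw [c1]
  have e2 : x * m = s * r := Nat.eq_of_mul_eq_mul_left hh e1
  have e3 : s * r ≤ x * r := Nat.mul_le_mul_right r hs
  have e4 : x * r ≤ x * m := Nat.mul_le_mul_left x hr
  have e5 : x * r = x * m := le_antisymm e4 (by rw [e2]; exact e3)
  have e6 : r = m := Nat.eq_of_mul_eq_mul_left hx e5
  refine ⟨e6, ?_⟩
  have e7 : s * r = x * r := by rw [← e2, e6]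
  exact Nat.eq_of_mul_eq_mul_right hr0 e7

theorem arith2 (x t m h : ℕ) (c3 : x * t = h * m) (ht : t ≤ m) (hm : 0 < m) : h ≤ x := by
  have h1 : h * m ≤ x * m := by rw [← c3]; exact Nat.mul_le_mul_left x ht
  exact Nat.le_of_mul_le_mul_right h1 hm

open scoped commutatorElement in

/-- A weak replacement Theorem for metabelian p-groups: let S be a finite p-group whose derived subgroup is abelian and A an abelian subgroup of S of largest possible order. Then the normal closure of A in S contains an abelian subgroup B of the same order as A that is normal in S. -/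
theorem result {S : Type*} [Group S] [Finite S] {p : ℕ} [Fact p.Prime]
    (hS : IsPGroup p S) (hmeta : IsMulCommutative ↥(commutator S))
    (A : Subgroup S) (hA : A ∈ Cfsg.maxAbelianSubgroups S) :
    ∃ B ∈ Cfsg.maxAbelianSubgroups S, B.Normal ∧ B ≤ Subgroup.normalClosure (A : Set S) := by
  classical
  obtain ⟨N, hN⟩ : ∃ N : Subgroup S, N = Subgroup.normalClosure (A : Set S) := ⟨_, rfl⟩
  haveI hNn : N.Normal := by rw [hN]; infer_instance
  obtain ⟨D, hD⟩ : ∃ D : Subgroup S, D = commutator S := ⟨_, rfl⟩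
  haveI hDn : D.Normal := by rw [hD]; infer_instance
  have hDc : ∀ x ∈ D, ∀ y ∈ D, x * y = y * x := by
    intro x hx y hy
    rw [hD] at hx hy
    exact congrArg Subtype.val (mul_comm' (⟨x, hx⟩ : ↥(commutator S)) ⟨y, hy⟩)
  have hcomm_mem : ∀ g e : S, ⁅g, e⁆ ∈ D := by
    intro g e
    rw [hD]
    exact Subgroup.commutator_mem_commutator (Subgroup.mem_top g) (Subgroup.mem_top e)
  obtain ⟨E, ⟨hE, hEN⟩, hmax⟩ := Set.exists_max_image
    ({E : Subgroup S | E ∈ Cfsg.maxAbelianSubgroups S ∧ E ≤ N})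
    (fun E : Subgroup S => Nat.card ↥(E ⊓ D)) (Set.toFinite _)
    ⟨A, hA, by rw [hN]; exact Subgroup.le_normalClosure⟩
  haveI := hE.1
  have hEc : ∀ x ∈ E, ∀ y ∈ E, x * y = y * x := fun x hx y hy =>
    congrArg Subtype.val (mul_comm' (⟨x, hx⟩ : E) ⟨y, hy⟩)
  have hDE : D ≤ Subgroup.normalizer (E : Set S) := by
    by_contra hnot
    obtain ⟨E', hE', hlt, -, hE'cl⟩ := Helper3.DS.thompson_repl hS D hDc hE hnot
    have h1 : E' ≤ N := hE'cl.trans (Subgroup.normalClosure_le_normal (fun x hx => hEN hx))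
    have h2 := hmax E' ⟨hE', h1⟩
    exact hlt.ne (Subgroup.eq_of_le_of_card_ge hlt.le h2)
  have hconjED : ∀ g : S, ∀ e ∈ E, g * e * g⁻¹ ∈ Subgroup.normalizer (E : Set S) := by
    intro g e he
    have e1 : g * e * g⁻¹ = ⁅g, e⁆ * e := by rw [commutatorElement_def]; group
    rw [e1]
    exact Subgroup.mul_mem _ (hDE (hcomm_mem g e)) (Subgroup.le_normalizer he)
  have hnormal : ∀ g : S, E.map (MulAut.conj g).toMonoidHom ≤ E := by
    intro g
    obtain ⟨Eg, hEg⟩ : ∃ Eg : Subgroup S, Eg = E.map (MulAut.conj g).toMonoidHom := ⟨_, rfl⟩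
    rw [← hEg]
    have hEg_mem : ∀ e ∈ E, g * e * g⁻¹ ∈ Eg := by
      intro e he; rw [hEg]; exact ⟨e, he, rfl⟩
    have hEg_ex : ∀ y ∈ Eg, ∃ e ∈ E, g * e * g⁻¹ = y := by
      intro y hy; rw [hEg] at hy; obtain ⟨e, he, rfl⟩ := hy; exact ⟨e, he, rfl⟩
    have hEgc : ∀ x ∈ Eg, ∀ y ∈ Eg, x * y = y * x := by
      intro x hx y hy
      obtain ⟨e₁, he₁, rfl⟩ := hEg_ex x hx
      obtain ⟨e₂, he₂, rfl⟩ := hEg_ex y hy
      have h0 := hEc e₁ he₁ e₂ he₂
      calc g * e₁ * g⁻¹ * (g * e₂ * g⁻¹) = g * (e₁ * e₂) * g⁻¹ := by group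
        _ = g * (e₂ * e₁) * g⁻¹ := by rw [h0]
        _ = g * e₂ * g⁻¹ * (g * e₁ * g⁻¹) := by group
    have hEgN : Eg ≤ Subgroup.normalizer (E : Set S) := by
      intro y hy
      obtain ⟨e, he, rfl⟩ := hEg_ex y hy
      exact hconjED g e he
    have hcardEg : Nat.card Eg = Nat.card E := by
      rw [hEg]; exact Subgroup.card_map_of_injective (MulAut.conj g).injective
    have hEgNcl : Eg ≤ N := by
      intro y hy
      obtain ⟨e, he, rfl⟩ := hEg_ex y hy
      exact hNn.conj_mem e (hEN he) g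
    obtain ⟨H₂, hH₂⟩ : ∃ H₂ : Subgroup S, H₂ = E ⊔ Eg := ⟨_, rfl⟩
    obtain ⟨Q, hQ⟩ : ∃ Q : Subgroup S, Q = E ⊓ Eg := ⟨_, rfl⟩
    obtain ⟨T, hT⟩ : ∃ T : Subgroup S, T = H₂ ⊓ D := ⟨_, rfl⟩
    have hQE : Q ≤ E := hQ ▸ inf_le_left
    have hQEg : Q ≤ Eg := hQ ▸ inf_le_right
    have hTH : T ≤ H₂ := hT ▸ inf_le_left
    have hTD : T ≤ D := hT ▸ inf_le_right
    have hEH : E ≤ H₂ := hH₂ ▸ le_sup_left
    have hEgH : Eg ≤ H₂ := hH₂ ▸ le_sup_right
    have hQcent : H₂ ≤ Subgroup.centralizer (Q : Set S) := by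
      rw [hH₂]
      refine sup_le ?_ ?_
      · intro e he
        exact Subgroup.mem_centralizer_iff.2 (fun q hq => hEc q (hQE hq) e he)
      · intro y hy
        exact Subgroup.mem_centralizer_iff.2 (fun q hq => hEgc q (hQEg hq) y hy)
    have hTQ : ∀ t ∈ T, ∀ q ∈ Q, t * q = q * t := by
      intro t ht q hq
      exact (Subgroup.mem_centralizer_iff.1 (hQcent (hTH ht)) q hq).symm
    have hAssc : IsMulCommutative ↥(Q ⊔ T) := by
      rw [← Subgroup.le_centralizer_iff_isMulCommutative, Helper5.centralizer_sup_eq]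
      refine sup_le (le_inf ?_ ?_) (le_inf ?_ ?_)
      · intro q hq
        exact Subgroup.mem_centralizer_iff.2 (fun q' hq' => hEc q' (hQE hq') q (hQE hq))
      · intro q hq
        exact Subgroup.mem_centralizer_iff.2 (fun t ht => hTQ t ht q hq)
      · intro t ht
        exact Subgroup.mem_centralizer_iff.2 (fun q hq => (hTQ t ht q hq).symm)
      · intro t ht
        exact Subgroup.mem_centralizer_iff.2 (fun t' ht' => hDc t' (hTD ht') t (hTD ht))
    have hs_le : Nat.card ↥(Q ⊔ T) ≤ Nat.card E := hE.2 _ hAssc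
    have hTNQ : T ≤ Subgroup.normalizer (Q : Set S) := by
      apply Helper3.le_normalizer_of_conj_mem
      intro t ht q hq
      have e1 : t * q * t⁻¹ = q := by rw [hTQ t ht q hq]; group
      rw [e1]; exact hq
    have c1 := Helper3.GR.card_mul_card_of_le_normalizer Q T hTNQ
    have c2 := Helper3.GR.card_mul_card_of_le_normalizer E Eg hEgN
    have hTNE : T ≤ Subgroup.normalizer (E : Set S) := hTD.trans hDE
    have c3 := Helper3.GR.card_mul_card_of_le_normalizer E T hTNE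
    have hET : E ⊔ T = H₂ := by
      apply le_antisymm (sup_le hEH hTH)
      rw [hH₂]
      refine sup_le le_sup_left ?_
      intro y hy
      obtain ⟨e, he, rfl⟩ := hEg_ex y hy
      have e1 : g * e * g⁻¹ = ⁅g, e⁆ * e := by rw [commutatorElement_def]; group
      have h1 : ⁅g, e⁆ ∈ T := by
        rw [hT]
        refine ⟨?_, hcomm_mem g e⟩
        have e2 : ⁅g, e⁆ = (g * e * g⁻¹) * e⁻¹ := by rw [commutatorElement_def]
        rw [e2]
        exact Subgroup.mul_mem _ (hEgH (hEg_mem e he)) (hEH (E.inv_mem he))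
      rw [e1]
      exact Subgroup.mul_mem _ ((le_sup_right : T ≤ E ⊔ T) h1) ((le_sup_left : E ≤ E ⊔ T) he)
    have hETinf : E ⊓ T = E ⊓ D := by
      rw [hT]
      apply le_antisymm
      · exact inf_le_inf_left E inf_le_right
      · exact le_inf inf_le_left (le_inf (inf_le_left.trans hEH) inf_le_right)
    rw [hET, hETinf] at c3
    rw [← hH₂, ← hQ, hcardEg] at c2
    have hrm : Nat.card ↥(Q ⊓ T) ≤ Nat.card ↥(E ⊓ D) :=
      Subgroup.card_le_of_le (inf_le_inf hQE hTD)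
    obtain ⟨hrm_eq, hsx⟩ := arith _ _ _ _ _ _ _ c1 c2 c3 hs_le hrm Nat.card_pos Nat.card_pos
      Nat.card_pos
    have hAss : Q ⊔ T ∈ Cfsg.maxAbelianSubgroups S :=
      ⟨hAssc, fun B' hB' => by rw [hsx]; exact hE.2 B' hB'⟩
    have hAssN : Q ⊔ T ≤ N :=
      sup_le (hQE.trans hEN) (hTH.trans (by rw [hH₂]; exact sup_le hEN hEgNcl))
    have h5 := hmax (Q ⊔ T) ⟨hAss, hAssN⟩
    have h6 : Nat.card T ≤ Nat.card ↥((Q ⊔ T) ⊓ D) :=
      Subgroup.card_le_of_le (le_inf le_sup_right hTD)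
    have h7 : Nat.card H₂ ≤ Nat.card E := arith2 _ _ _ _ c3 (h6.trans h5) Nat.card_pos
    have h8 : E = H₂ := Subgroup.eq_of_le_of_card_ge hEH h7
    rw [h8]; exact hEgH
  exact ⟨E, hE, ⟨fun e he g => hnormal g ⟨e, he, rfl⟩⟩, by rw [← hN]; exact hEN⟩

end Cfsg.Agent.S3063
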