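import Cfsg.Statements.S3078
import Cfsg.Agent.Helper3.GlaubOmega
import Cfsg.Agent.S0649

set_option autoImplicit false
open Cfsg

namespace Cfsg.Agent.S3078

/-- A replacement Theorem for abelian subgroups of p-groups, p odd. Let G be a finite p-group with p odd, A an abelian subgroup of G, and B a subgroup of nilpotency class at most 2 with [B, B] ≤ A, such that A normalizes B but B does not normalize A. Then there is an abelian subgroup A* of G of the same order as A with A ∩ B strictly contained in A* ∩ B, A* contained in N_G(A) and in the normal closure of A, the exponent of A* dividing the exponent of A, and with the subgroup generated by the elements of order dividing p in A of order at most that of the corresponding subgroup of A* (the rank of A is at most the rank of A*). -/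
theorem result {G : Type*} [Group G] [Finite G] {p : ℕ} [Fact p.Prime] (hp : p ≠ 2) (hG : IsPGroup p G) (A B : Subgroup G) (hA : IsMulCommutative A) (hB2 : ⁅⁅B, B⁆, B⁆ = ⊥) (hBA : ⁅B, B⁆ ≤ A) (hAB : A ≤ Subgroup.normalizer (B : Set G)) (hBnA : ¬ B ≤ Subgroup.normalizer (A : Set G)) : ∃ Astar : Subgroup G, IsMulCommutative Astar ∧ Nat.card Astar = Nat.card A ∧ A ⊓ B < Astar ⊓ B ∧ Astar ≤ Subgroup.normalizer (A : Set G) ∧ Astar ≤ Subgroup.normalClosure (A : Set G) ∧ Monoid.exponent Astar ∣ Monoid.exponent A ∧ Nat.card (Cfsg.omegaOne p A) ≤ Nat.card (Cfsg.omegaOne p Astar) := by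
  classical
  obtain ⟨S₀, hS₀⟩ : ∃ S₀ : Subgroup G, S₀ = A ⊔ B := ⟨_, rfl⟩
  have hAS : A ≤ S₀ := hS₀ ▸ le_sup_left
  have hBS : B ≤ S₀ := hS₀ ▸ le_sup_right
  have hSN : S₀ ≤ Subgroup.normalizer (B : Set G) := hS₀ ▸ sup_le hAB Subgroup.le_normalizer
  haveI hBn : (B.subgroupOf S₀).Normal := Subgroup.normal_subgroupOf_of_le_normalizer hSN
  have hSp : IsPGroup p ↥S₀ := hG.to_subgroup S₀
  have hinj : Function.Injective S₀.subtype := Subgroup.subtype_injective S₀
  have hmA : (A.subgroupOf S₀).map S₀.subtype = A := Subgroup.map_subgroupOf_eq_of_le hAS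
  have hmB : (B.subgroupOf S₀).map S₀.subtype = B := Subgroup.map_subgroupOf_eq_of_le hBS
  have hcomm : ∀ x ∈ A.subgroupOf S₀, ∀ y ∈ A.subgroupOf S₀, x * y = y * x := by
    intro x hx y hy
    apply Subtype.ext
    show (x : G) * (y : G) = (y : G) * (x : G)
    exact congrArg Subtype.val (mul_comm' (⟨x.1, Subgroup.mem_subgroupOf.1 hx⟩ : ↥A) ⟨y.1, Subgroup.mem_subgroupOf.1 hy⟩)
  have hAc : IsMulCommutative ↥(A.subgroupOf S₀) := ⟨⟨fun x y => Subtype.ext (hcomm x.1 x.2 y.1 y.2)⟩⟩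
  have hder : ⁅B.subgroupOf S₀, B.subgroupOf S₀⁆ ≤ A.subgroupOf S₀ := by
    rw [← Subgroup.map_le_map_iff_of_injective hinj, Subgroup.map_commutator, hmA, hmB]
    exact hBA
  have hnot : ¬ B.subgroupOf S₀ ≤ Subgroup.normalizer ((A.subgroupOf S₀ : Subgroup ↥S₀) : Set ↥S₀) := by
    intro hle
    apply hBnA
    intro x hx
    apply Helper5.mem_normalizer_of_conj_le
    rintro _ ⟨a, ha, rfl⟩
    show x * a * x⁻¹ ∈ A
    have h1 : (⟨x, hBS hx⟩ : ↥S₀) ∈ B.subgroupOf S₀ := Subgroup.mem_subgroupOf.2 hx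
    have h2 : (⟨a, hAS ha⟩ : ↥S₀) ∈ A.subgroupOf S₀ := Subgroup.mem_subgroupOf.2 ha
    have h3 := (Subgroup.mem_normalizer_iff.1 (hle h1) _).1 h2
    exact Subgroup.mem_subgroupOf.1 h3
  obtain ⟨b, hb, hbN, hbA⟩ := S0649.result hSp (B.subgroupOf S₀) (fun h => absurd h hp)
    (A.subgroupOf S₀) hAc hder hnot
  have h : Helper3.GR.Hyp (A.subgroupOf S₀) (B.subgroupOf S₀) b := ⟨hcomm, inferInstance, hder, hb, hbN⟩
  have hsc := h.star_comm hSp (fun h2 => absurd h2 hp)
  refine ⟨(Helper3.GR.star (A.subgroupOf S₀) b).map S₀.subtype, ?_, ?_, ?_, ?_, ?_, ?_, ?_⟩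
  · refine ⟨⟨fun x y => Subtype.ext ?_⟩⟩
    obtain ⟨x', hx', hx⟩ := x.2
    obtain ⟨y', hy', hy⟩ := y.2
    show x.1 * y.1 = y.1 * x.1
    rw [← hx, ← hy, ← map_mul, ← map_mul, hsc x' hx' y' hy']
  · rw [Subgroup.card_map_of_injective hinj, h.card_star, ← Subgroup.card_map_of_injective hinj, hmA]
  · have h1 := h.inf_lt hbA
    have h2 := (Subgroup.map_lt_map_iff_of_injective hinj).2 h1
    rw [Subgroup.map_inf _ _ _ hinj, Subgroup.map_inf _ _ _ hinj, hmA, hmB] at h2
    exact h2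
  · rintro _ ⟨x, hx, rfl⟩
    have hxN := h.star_le_N hx
    apply Helper5.mem_normalizer_of_conj_le
    rintro _ ⟨a, ha, rfl⟩
    show (x : G) * a * (x : G)⁻¹ ∈ A
    have h2 : (⟨a, hAS ha⟩ : ↥S₀) ∈ A.subgroupOf S₀ := Subgroup.mem_subgroupOf.2 ha
    have h3 := (Subgroup.mem_normalizer_iff.1 hxN _).1 h2
    exact Subgroup.mem_subgroupOf.1 h3
  · have hAD : A.subgroupOf S₀ ≤ (Subgroup.normalClosure (A : Set G)).subgroupOf S₀ := by
      intro x hx
      exact Subgroup.mem_subgroupOf.2 (Subgroup.le_normalClosure (Subgroup.mem_subgroupOf.1 hx))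
    have h1 := Helper3.GR.star_le_of_normal ((Subgroup.normalClosure (A : Set G)).subgroupOf S₀) h hAD
    rintro _ ⟨x, hx, rfl⟩
    exact Subgroup.mem_subgroupOf.1 (h1 hx)
  · have h1 := h.exponent_star hSp hp
    have e1 : Monoid.exponent ↥((Helper3.GR.star (A.subgroupOf S₀) b).map S₀.subtype) =
        Monoid.exponent ↥(Helper3.GR.star (A.subgroupOf S₀) b) :=
      (Monoid.exponent_eq_of_mulEquiv (Subgroup.equivMapOfInjective _ S₀.subtype hinj)).symm
    have e2 : Monoid.exponent ↥(A.subgroupOf S₀) = Monoid.exponent ↥A :=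
      Monoid.exponent_eq_of_mulEquiv (Subgroup.subgroupOfEquivOfLe hAS)
    rw [e1, ← e2]
    exact h1
  · have h1 := h.card_omega_le hp
    rw [Helper3.GR.omegaOne_map p S₀.subtype hinj, Subgroup.card_map_of_injective hinj]
    have e : Nat.card ↥(Cfsg.omegaOne p A) = Nat.card ↥(Cfsg.omegaOne p (A.subgroupOf S₀)) := by
      conv_lhs => rw [← hmA]
      rw [Helper3.GR.omegaOne_map p S₀.subtype hinj, Subgroup.card_map_of_injective hinj]
    rw [e]
    exact h1

end Cfsg.Agent.S3078
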