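import Cfsg.Statements.S3224
import Mathlib
import Cfsg.Agent.S0113
import Cfsg.Agent.S0114
import Cfsg.Agent.S0115
import Cfsg.Agent.S0646
import Cfsg.Agent.S0206
import Cfsg.Agent.S3803

set_option autoImplicit false
open Cfsg

namespace Cfsg.Agent.S3224

/-- A finite 2-group containing an involution whose centralizer has order 4 is dihedral, quasi-dihedral (semidihedral), or of order 4. -/
theorem result {S : Type*} [Group S] [Finite S] (hS : IsPGroup 2 S)
    (x : S) (hx : orderOf x = 2) (hC : Nat.card ↥(Subgroup.centralizer ({x} : Set S)) = 4) :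
    (∃ n : ℕ, Nonempty (S ≃* DihedralGroup n)) ∨ Cfsg.IsQuasiDihedral S ∨ Nat.card S = 4 := by
  haveI : Fact (Nat.Prime 2) := ⟨Nat.prime_two⟩
  obtain ⟨n, hn⟩ := IsPGroup.iff_card.mp hS
  have hdvd : Nat.card ↥(Subgroup.centralizer ({x} : Set S)) ∣ Nat.card S :=
    Subgroup.card_subgroup_dvd_card _
  rw [hC, hn] at hdvd
  have h4le : 4 ≤ 2 ^ n := Nat.le_of_dvd (by positivity) hdvd
  by_cases hn2 : n ≤ 2
  · right; right
    rw [hn]
    have h1 : 2 ^ n ≤ 2 ^ 2 := Nat.pow_le_pow_right (by norm_num) hn2
    norm_num at h1
    omega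
  · push_neg at hn2
    have hn3 : 3 ≤ n := hn2
    have h8 : 8 ≤ 2 ^ n := by
      calc 8 = 2 ^ 3 := by norm_num
        _ ≤ 2 ^ n := Nat.pow_le_pow_right (by norm_num) hn3
    have hxnc : x ∉ Subgroup.center S := by
      intro hxc
      have h1 : Subgroup.centralizer ({x} : Set S) = ⊤ := by
        rw [Subgroup.centralizer_eq_top_iff_subset]
        intro y hy
        rw [Set.mem_singleton_iff] at hy
        rw [hy]; exact hxc
      rw [h1, Subgroup.card_top, hn] at hC
      omega
    have hna : ∃ u v : S, u * v ≠ v * u := by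
      by_contra hcon
      push_neg at hcon
      exact hxnc (Subgroup.mem_center_iff.mpr (fun g => hcon g x))
    have hidx_le : (commutator S).index ≤ 4 := by
      have hsub : commutatorSet S ⊆ ((commutator S : Subgroup S) : Set S) := by
        rw [commutator_eq_closure]; exact Subgroup.subset_closure
      have h1 : Nat.card (S ⧸ Subgroup.centralizer ({x} : Set S)) ≤ Nat.card ↥(commutator S) :=
        Nat.card_le_card_of_injective
          (Set.inclusion hsub ∘ Subgroup.quotientCentralizerEmbedding x)
          ((Set.inclusion_injective hsub).comp (Subgroup.quotientCentralizerEmbedding x).injective)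
      have h1' : (Subgroup.centralizer ({x} : Set S)).index ≤ Nat.card ↥(commutator S) := h1
      have h2 := Subgroup.card_mul_index (Subgroup.centralizer ({x} : Set S))
      have h3 := Subgroup.card_mul_index (commutator S)
      rw [hC] at h2
      have hpos : 0 < Nat.card ↥(commutator S) := Nat.card_pos
      have h4 : Nat.card ↥(commutator S) * (commutator S).index ≤ Nat.card ↥(commutator S) * 4 := by
        rw [h3, ← h2]; omega
      exact Nat.le_of_mul_le_mul_left h4 hpos
    have hncyc : ¬ IsCyclic (S ⧸ commutator S) := by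
      intro hcyc
      haveI := hcyc
      obtain ⟨q, hq⟩ := IsCyclic.exists_generator (α := S ⧸ commutator S)
      obtain ⟨g, rfl⟩ := QuotientGroup.mk_surjective q
      by_cases hZ : Subgroup.zpowers g = ⊤
      · obtain ⟨u, v, huv⟩ := hna
        apply huv
        have hu : u ∈ Subgroup.zpowers g := by rw [hZ]; exact Subgroup.mem_top u
        have hv : v ∈ Subgroup.zpowers g := by rw [hZ]; exact Subgroup.mem_top v
        obtain ⟨i, rfl⟩ := Subgroup.mem_zpowers_iff.mp hu
        obtain ⟨j, rfl⟩ := Subgroup.mem_zpowers_iff.mp hv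
        rw [← zpow_add, ← zpow_add, add_comm]
      · obtain ⟨j, hj⟩ := IsPGroup.iff_card.mp (hS.to_subgroup (Subgroup.zpowers g))
        have hjn : j < n := by
          by_contra hge
          push_neg at hge
          apply hZ
          apply Subgroup.eq_top_of_card_eq
          have h1 : Nat.card ↥(Subgroup.zpowers g) ≤ Nat.card S :=
            Nat.le_of_dvd Nat.card_pos (Subgroup.card_subgroup_dvd_card _)
          have h2 := Nat.pow_le_pow_right (show 0 < 2 by norm_num) hge
          rw [hj, hn] at h1 ⊢
          exact le_antisymm h1 h2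
        obtain ⟨M, hZM, -, hMc⟩ := S3803.sub_ext (⊤ : Subgroup S) (Subgroup.zpowers g) le_top
          (n := n) (by rw [Subgroup.card_top]; exact hn) hj (m := n - 1) (by omega) (Nat.sub_le n 1)
        have hMi : M.index = 2 := by
          have h1 := Subgroup.card_mul_index M
          rw [hMc, hn] at h1
          have h2 : 2 ^ n = 2 ^ (n - 1) * 2 := by rw [← pow_succ]; congr 1; omega
          rw [h2] at h1
          exact Nat.eq_of_mul_eq_mul_left (by positivity) h1
        haveI : M.Normal := Subgroup.normal_of_index_eq_two hMi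
        have hcomM : commutator S ≤ M := by
          apply Subgroup.Normal.quotient_commutative_iff_commutator_le.mp
          have hcard : Nat.card (S ⧸ M) = 2 := hMi
          haveI : IsCyclic (S ⧸ M) := isCyclic_of_prime_card hcard
          infer_instance
        have hMtop : M = ⊤ := by
          rw [Subgroup.eq_top_iff']
          intro s
          obtain ⟨i, hi⟩ := Subgroup.mem_zpowers_iff.mp (hq (QuotientGroup.mk s))
          rw [← QuotientGroup.mk_zpow, QuotientGroup.eq] at hi
          have h1 := hcomM hi
          have h2 : g ^ i ∈ M := hZM (Subgroup.zpow_mem_zpowers g i)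
          have h3 := mul_mem h2 h1
          rwa [mul_inv_cancel_left] at h3
        rw [hMtop, Subgroup.index_top] at hMi
        omega
    have hidx : (commutator S).index = 4 := by
      have hd : (commutator S).index ∣ Nat.card S :=
        Dvd.intro_left _ (Subgroup.card_mul_index (commutator S))
      rw [hn] at hd
      obtain ⟨i, hi, hidx⟩ := (Nat.dvd_prime_pow Nat.prime_two).mp hd
      have hi2 : i ≤ 2 := by
        by_contra hgt
        push_neg at hgt
        have h1 := Nat.pow_le_pow_right (show 0 < 2 by norm_num) (show 3 ≤ i from hgt)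
        rw [hidx] at hidx_le
        norm_num at h1
        omega
      interval_cases i
      · exfalso; apply hncyc
        have hc1 : Nat.card (S ⧸ commutator S) = 1 := hidx.trans (by norm_num)
        haveI : Subsingleton (S ⧸ commutator S) := (Nat.card_eq_one_iff_unique.mp hc1).1
        exact isCyclic_of_subsingleton
      · exfalso; apply hncyc
        have hc2 : Nat.card (S ⧸ commutator S) = 2 := hidx.trans (by norm_num)
        exact isCyclic_of_prime_card hc2
      · exact hidx.trans (by norm_num)
    have hK : IsKleinFour (S ⧸ commutator S) := by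
      have hc4 : Nat.card (S ⧸ commutator S) = 4 := hidx
      refine ⟨hc4, ?_⟩
      have hsq : ∀ q : S ⧸ commutator S, q ^ 2 = 1 := by
        intro q
        have h1 : orderOf q ∣ Nat.card (S ⧸ commutator S) := orderOf_dvd_natCard q
        rw [hc4] at h1
        have h2 : orderOf q ≠ 4 := by
          intro h4
          exact hncyc (isCyclic_of_orderOf_eq_card q (h4.trans hc4.symm))
        have h3 : orderOf q ∣ 2 := by
          obtain ⟨j, hj, hj'⟩ := (Nat.dvd_prime_pow Nat.prime_two).mp (show orderOf q ∣ 2 ^ 2 from h1)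
          interval_cases j
          · rw [hj']; norm_num
          · rw [hj']; norm_num
          · exact absurd (hj'.trans (by norm_num)) h2
        exact orderOf_dvd_iff_pow_eq_one.mp h3
      have hdvd2 : Monoid.exponent (S ⧸ commutator S) ∣ 2 :=
        Monoid.exponent_dvd_of_forall_pow_eq_one hsq
      rcases (Nat.dvd_prime Nat.prime_two).mp hdvd2 with h | h
      · exfalso
        rw [Monoid.exp_eq_one_iff] at h
        have h1 : Nat.card (S ⧸ commutator S) = 1 := Nat.card_eq_one_iff_unique.mpr ⟨h, ⟨1⟩⟩
        omega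
      · exact h
    have hcl : Group.nilpotencyClass S = n - 1 := (S0115.result n hn3 hn).mpr hK
    obtain ⟨C, hCc, hCi⟩ := S0113.result n hn3 hn hcl
    obtain ⟨a, b, hoa, hbC, hcases⟩ := S0646.result n hn3 hn C hCc hCi hna
    have hCa : (Subgroup.zpowers a).index = 2 := by
      have h1 := Subgroup.card_mul_index (Subgroup.zpowers a)
      rw [Nat.card_zpowers, hoa, hn] at h1
      have h2 : 2 ^ n = 2 ^ (n - 1) * 2 := by rw [← pow_succ]; congr 1; omega
      rw [h2] at h1
      exact Nat.eq_of_mul_eq_mul_left (by positivity) h1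
    have hCform : ∀ g ∈ Subgroup.zpowers a, ∃ i : ℤ, g = a ^ i := fun g hg => by
      obtain ⟨i, hi⟩ := Subgroup.mem_zpowers_iff.mp hg
      exact ⟨i, hi.symm⟩
    obtain ⟨hs1, hs2, -, -, -⟩ := S0114.index_two_struct (Subgroup.zpowers a) hCa a
      (Subgroup.mem_zpowers a) hCform b hbC
    have hb1 : b ≠ 1 := fun h => hbC (h ▸ one_mem _)
    have hxx : x * x = 1 := by rw [← pow_two, ← hx]; exact pow_orderOf_eq_one x
    rcases hcases with ⟨hb2, hrel⟩ | ⟨hb2, hrel⟩ | ⟨hn4, hb2, hrel⟩ | ⟨hn4, hb2, hrel⟩
    · left
      have hob : orderOf b = 2 := orderOf_eq_prime hb2 hb1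
      have hbb : b * b = 1 := by rw [← pow_two]; exact hb2
      have hba2 : (b * a) ^ 2 = 1 := by
        rw [pow_two]
        have e : b * a * (b * a) = (b * a * b⁻¹) * (b * b) * a := by
          simp only [mul_assoc, inv_mul_cancel_left]
        rw [e, hrel, hbb, mul_one, inv_mul_cancel]
      have hba1 : b * a ≠ 1 := by
        intro h
        apply hbC
        have h1 : b = a⁻¹ := eq_inv_of_mul_eq_one_left h
        rw [h1]; exact inv_mem (Subgroup.mem_zpowers a)
      have hoba : orderOf (b * a) = 2 := orderOf_eq_prime hba2 hba1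
      have ha1 : a ≠ 1 := by
        intro h
        rw [h, orderOf_one] at hoa
        have h1 : 2 ^ 1 ≤ 2 ^ (n - 1) := Nat.pow_le_pow_right (by norm_num) (by omega)
        omega
      have hne : b ≠ b * a := by
        intro h
        apply ha1
        have h1 : b * 1 = b * a := by rw [mul_one]; exact h
        exact (mul_left_cancel h1).symm
      obtain ⟨e⟩ := S0206.result b (b * a) hob hoba hne
      have hprod : b * (b * a) = a := by rw [← mul_assoc, hbb, one_mul]
      rw [hprod, hoa] at e
      have hcl2 : Subgroup.closure ({b, b * a} : Set S) = ⊤ := by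
        apply Subgroup.eq_top_of_card_eq
        rw [Nat.card_congr e.toEquiv, DihedralGroup.nat_card, hn, ← pow_succ']
        congr 1; omega
      have e2 : (⊤ : Subgroup S) ≃* DihedralGroup (2 ^ (n - 1)) := hcl2 ▸ e
      exact ⟨2 ^ (n - 1), ⟨Subgroup.topEquiv.symm.trans e2⟩⟩
    · exfalso
      have hz1 : a ^ (2 ^ (n - 2)) ≠ 1 := by
        apply pow_ne_one_of_lt_orderOf (by positivity)
        rw [hoa]; exact Nat.pow_lt_pow_right (by norm_num) (by omega)
      have hconj : ∀ i : ℤ, b * a ^ i * b⁻¹ = (a ^ i)⁻¹ := by
        intro i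
        rw [← conj_zpow, hrel, inv_zpow]
      by_cases hxC : x ∈ Subgroup.zpowers a
      · obtain ⟨i, hi⟩ := Subgroup.mem_zpowers_iff.mp hxC
        apply hxnc
        apply hs2 _ hxC
        have h1 := hconj i
        rw [hi] at h1
        have h2 : x⁻¹ = x := inv_eq_of_mul_eq_one_right hxx
        rw [h2] at h1
        calc b * x = b * x * b⁻¹ * b := by group
          _ = x * b := by rw [h1]
      · have h1 := hs1 x hxC
        obtain ⟨i, hi⟩ := Subgroup.mem_zpowers_iff.mp h1
        have hxe : x = b * a ^ i := by rw [hi, mul_inv_cancel_left]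
        apply hz1
        have e : x * x = (b * a ^ i * b⁻¹) * (b * b) * a ^ i := by
          rw [hxe]; simp only [mul_assoc, inv_mul_cancel_left]
        rw [hconj i, ← pow_two b, hb2, hxx] at e
        have e2 : (a ^ i)⁻¹ * a ^ (2 ^ (n - 2)) * a ^ i = a ^ (2 ^ (n - 2)) := by
          have hc : Commute (a ^ i) (a ^ (2 ^ (n - 2))) :=
            ((Commute.refl a).zpow_left i).pow_right _
          rw [mul_assoc, ← hc.eq, inv_mul_cancel_left]
        rw [e2] at e
        exact e.symm
    · exfalso
      have hw : a ^ 2 ∈ Subgroup.center S := by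
        apply hs2 _ (Subgroup.pow_mem _ (Subgroup.mem_zpowers a) 2)
        have h1 : b * a ^ 2 * b⁻¹ = a ^ 2 := by
          have e : (1 + 2 ^ (n - 2)) * 2 = 2 + 2 ^ (n - 1) := by
            have h2 : 2 ^ (n - 1) = 2 ^ (n - 2) * 2 := by rw [← pow_succ]; congr 1; omega
            omega
          rw [← conj_pow, hrel, ← pow_mul, e, pow_add, ← hoa, pow_orderOf_eq_one, mul_one]
        calc b * a ^ 2 = b * a ^ 2 * b⁻¹ * b := by group
          _ = a ^ 2 * b := by rw [h1]
      have hzle : Subgroup.zpowers (a ^ 2) ≤ Subgroup.centralizer ({x} : Set S) := by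
        rw [Subgroup.zpowers_le, Subgroup.mem_centralizer_singleton_iff]
        exact (Subgroup.mem_center_iff.mp hw x).symm
      have hord : 4 ≤ orderOf (a ^ 2) := by
        rw [orderOf_pow_of_dvd (by norm_num) (by rw [hoa]; exact dvd_pow_self 2 (by omega)), hoa]
        obtain ⟨m, rfl⟩ : ∃ m, n = m + 4 := ⟨n - 4, by omega⟩
        have h8' : 2 ^ (m + 4 - 1) = 8 * 2 ^ m := by
          have h9 : m + 4 - 1 = m + 3 := by omega
          rw [h9, pow_add]; norm_num [mul_comm]
        have hpos : 1 ≤ 2 ^ m := Nat.one_le_two_pow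
        rw [h8']; omega
      have hcard : Nat.card ↥(Subgroup.zpowers (a ^ 2)) = orderOf (a ^ 2) := Nat.card_zpowers _
      have heq : Subgroup.zpowers (a ^ 2) = Subgroup.centralizer ({x} : Set S) :=
        Subgroup.eq_of_le_of_card_ge hzle (by rw [hC, hcard]; exact hord)
      have hxz : x ∈ Subgroup.zpowers (a ^ 2) := by
        rw [heq, Subgroup.mem_centralizer_singleton_iff]
      exact hxnc ((Subgroup.zpowers_le.mpr hw) hxz)
    · right; left
      have hob : orderOf b = 2 := orderOf_eq_prime hb2 hb1
      unfold Cfsg.IsQuasiDihedral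
      refine ⟨n - 1, by omega, ?_, a, b, hoa, hob, ?_⟩
      · rw [hn]; congr 1; omega
      · have e : n - 1 - 1 = n - 2 := by omega
        rw [e]; exact hrel


end Cfsg.Agent.S3224
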