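import Cfsg.Statements.S3377
import Mathlib
-- import your own Cfsg.Agent.* helpers here

set_option autoImplicit false
open Cfsg

namespace Cfsg.Agent.S3377


abbrev R : Set (FreeGroup (Fin 2)) := {FreeGroup.of (0 : Fin 2) ^ 3, FreeGroup.of (1 : Fin 2) ^ 5,
        (FreeGroup.of (0 : Fin 2) * FreeGroup.of 1) ^ 2}

abbrev P := PresentedGroup R

def xa : P := PresentedGroup.of 0
def xb : P := PresentedGroup.of 1

theorem xa3 : xa * xa * xa = 1 := by
  have h := PresentedGroup.one_of_mem (rels := R) (x := FreeGroup.of (0 : Fin 2) ^ 3) (Or.inl rfl)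
  rw [map_pow] at h
  rw [← h, pow_succ, pow_succ, pow_one]
  rfl

theorem xb5 : xb * xb * xb * xb * xb = 1 := by
  have h := PresentedGroup.one_of_mem (rels := R) (x := FreeGroup.of (1 : Fin 2) ^ 5)
    (Or.inr (Or.inl rfl))
  rw [map_pow] at h
  rw [← h, pow_succ, pow_succ, pow_succ, pow_succ, pow_one]
  rfl

theorem xab2 : xa * xb * (xa * xb) = 1 := by
  have h := PresentedGroup.one_of_mem (rels := R)
    (x := (FreeGroup.of (0 : Fin 2) * FreeGroup.of 1) ^ 2) (Or.inr (Or.inr rfl))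
  rw [map_pow, map_mul] at h
  rw [← h, pow_succ, pow_one]
  rfl

theorem r0 (t : P) : xa * (xa * (xa * t)) = t := by
  rw [← mul_assoc, ← mul_assoc, xa3, one_mul]

theorem r1 (t : P) : xb * (xb * (xb * (xb * (xb * t)))) = t := by
  rw [← mul_assoc, ← mul_assoc, ← mul_assoc, ← mul_assoc, xb5, one_mul]

theorem r2 (t : P) : xa * (xb * (xa * (xb * t))) = t := by
  have h : xa * (xb * (xa * (xb * t))) = xa * xb * (xa * xb) * t := by simp only [mul_assoc]
  rw [h, xab2, one_mul]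

theorem fc {p : P → Prop} {x : P} {l : List P} (h1 : p x) (h2 : ∀ y ∈ l, p y) :
    ∀ y ∈ x :: l, p y :=
  List.forall_mem_cons.mpr ⟨h1, h2⟩

theorem r3 (t : P) : xb * (xa * (xb * t)) = xa * (xa * t) :=
  ((r0 (xb * (xa * (xb * t)))).symm).trans (congrArg (fun z => xa * (xa * z)) (r2 t))
theorem r4 (t : P) : xb * (xb * (xb * (xb * t))) = xa * (xb * (xa * t)) :=
  ((r2 (xb * (xb * (xb * (xb * t))))).symm).trans (congrArg (fun z => xa * (xb * (xa * z))) (r1 t))
theorem r5 (t : P) : xa * (xb * (xa * (xa * (xb * (xa * t))))) = xb * (xb * (xb * t)) :=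
  ((r4 (xa * (xb * (xa * t)))).symm).trans ((congrArg (fun z => xb * (xb * (xb * (xb * z)))) ((r4 t).symm)).trans (r1 (xb * (xb * (xb * t)))))
theorem r6 (t : P) : xb * (xb * (xb * (xa * (xa * t)))) = xa * (xb * (xa * (xa * (xb * t)))) :=
  (congrArg (fun z => xb * (xb * (xb * z))) ((r3 t).symm)).trans (r4 (xa * (xb * t)))
theorem r7 (t : P) : xb * (xa * (xa * (xb * (xa * t)))) = xa * (xa * (xb * (xb * (xb * t)))) :=
  (congrArg (fun z => xb * (xa * z)) ((r4 t).symm)).trans (r3 (xb * (xb * (xb * t))))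
theorem r8 (t : P) : xb * (xb * (xa * (xa * (xb * (xb * (xb * t)))))) = xa * (xb * (xa * (xa * (xb * (xb * (xa * t)))))) :=
  (congrArg (fun z => xb * (xb * z)) ((r7 t).symm)).trans (r6 (xb * (xa * t)))
theorem r9 (t : P) : xa * (xb * (xa * (xa * (xb * (xb * (xa * (xa * (xb * t)))))))) = xb * (xb * (xa * (xa * (xb * (xb * (xa * (xa * t))))))) :=
  ((r8 (xa * (xb * t))).symm).trans (congrArg (fun z => xb * (xb * (xa * (xa * (xb * (xb * z)))))) (r3 t))
theorem r10 (t : P) : xa * (xa * (xb * (xb * (xa * (xa * (xb * (xb * (xa * (xa * t))))))))) = xb * (xa * (xa * (xb * (xb * (xa * (xa * (xb * t))))))) :=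
  (congrArg (fun z => xa * (xa * z)) ((r9 t).symm)).trans (r0 (xb * (xa * (xa * (xb * (xb * (xa * (xa * (xb * t)))))))))
theorem r11 (t : P) : xb * (xb * (xa * (xa * (xb * (xb * (xa * (xa * (xb * (xb * t))))))))) = xa * (xb * (xb * (xa * (xa * (xb * (xb * (xa * t))))))) :=
  ((r9 (xb * (xb * t))).symm).trans ((congrArg (fun z => xa * (xb * (xa * (xa * z)))) (r8 t)).trans (congrArg (fun z => xa * (xb * z)) (r0 (xb * (xa * (xa * (xb * (xb * (xa * t)))))))))
theorem r12 (t : P) : xb * (xa * (xa * (xb * (xb * (xa * (xa * (xb * (xb * (xa * t))))))))) = xa * (xb * (xb * (xa * (xa * (xb * (xb * (xa * (xa * (xb * t))))))))) :=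
  ((r10 (xb * (xa * t))).symm).trans ((congrArg (fun z => xa * (xa * (xb * (xb * (xa * (xa * (xb * z))))))) (r7 t)).trans ((congrArg (fun z => xa * (xa * (xb * z))) (r7 (xa * (xb * (xb * (xb * t)))))).trans ((congrArg (fun z => xa * (xa * (xb * (xa * (xa * (xb * (xb * z))))))) (r3 (xb * (xb * t)))).trans (congrArg (fun z => xa * z) (r9 (xb * t))))))
def L : List P := [(1 : P), xa * 1, xb * 1, xa * (xa * 1), xa * (xb * 1), xb * (xa * 1), xb * (xb * 1), xa * (xa * (xb * 1)), xa * (xb * (xa * 1)), xa * (xb * (xb * 1)), xb * (xa * (xa * 1)), xb * (xb * (xa * 1)), xb * (xb * (xb * 1)), xa * (xa * (xb * (xa * 1))), xa * (xa * (xb * (xb * 1))), xa * (xb * (xa * (xa * 1))), xa * (xb * (xb * (xa * 1))), xa * (xb * (xb * (xb * 1))), xb * (xa * (xa * (xb * 1))), xb * (xb * (xa * (xa * 1))), xb * (xb * (xb * (xa * 1))), xa * (xa * (xb * (xa * (xa * 1)))), xa * (xa * (xb * (xb * (xa * 1)))), xa * (xa * (xb * (xb * (xb * 1)))), xa * (xb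 * (xa * (xa * (xb * 1)))), xa * (xb * (xb * (xa * (xa * 1)))), xa * (xb * (xb * (xb * (xa * 1)))), xb * (xa * (xa * (xb * (xb * 1)))), xb * (xb * (xa * (xa * (xb * 1)))), xa * (xa * (xb * (xa * (xa * (xb * 1))))), xa * (xa * (xb * (xb * (xa * (xa * 1))))), xa * (xa * (xb * (xb * (xb * (xa * 1))))), xa * (xb * (xa * (xa * (xb * (xb * 1))))), xa * (xb * (xb * (xa * (xa * (xb * 1))))), xb * (xa * (xa * (xb * (xb * (xa * 1))))), xb * (xa * (xa * (xb * (xb * (xb * 1))))), xb * (xb * (xa * (xa * (xb * (xb * 1))))), xa * (xa * (xb * (xa * (xa * (xb * (xb * 1)))))), xa * (xa * (xb * (xb * (xa * (xa * (xb * 1)))))), xa * (xb * (xa * (xa * (xb * (xb * (xa * 1)))))), xa * (xb * (xa * (xa * (xb * (xb * (xb * 1)))))), xa * (xb * (xb * (xa * (xa * (xb * (xb * 1)))))), xb * (xa * (xa * (xb * (xb * (xa * (xa * 1)))))), xb * (xa * (xa * (xb * (xb * (xb * (xa * 1)))))), xb * (xb * (xa * (xa * (xb * (xb * (xa * 1)))))), xa * (xa * (xb * (xa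 * (xa * (xb * (xb * (xa * 1))))))), xa * (xa * (xb * (xa * (xa * (xb * (xb * (xb * 1))))))), xa * (xa * (xb * (xb * (xa * (xa * (xb * (xb * 1))))))), xa * (xb * (xa * (xa * (xb * (xb * (xa * (xa * 1))))))), xa * (xb * (xa * (xa * (xb * (xb * (xb * (xa * 1))))))), xa * (xb * (xb * (xa * (xa * (xb * (xb * (xa * 1))))))), xb * (xa * (xa * (xb * (xb * (xa * (xa * (xb * 1))))))), xb * (xb * (xa * (xa * (xb * (xb * (xa * (xa * 1))))))), xa * (xa * (xb * (xa * (xa * (xb * (xb * (xa * (xa * 1)))))))), xa * (xa * (xb * (xa * (xa * (xb * (xb * (xb * (xa * 1)))))))), xa * (xa * (xb * (xb * (xa * (xa * (xb * (xb * (xa * 1)))))))), xa * (xb * (xb * (xa * (xa * (xb * (xb * (xa * (xa * 1)))))))), xb * (xa * (xa * (xb * (xb * (xa * (xa * (xb * (xb * 1)))))))), xb * (xb * (xa * (xa * (xb * (xb * (xa * (xa * (xb * 1)))))))), xa * (xb * (xb * (xa * (xa * (xb * (xb * (xa * (xa * (xb * 1)))))))))]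
theorem m0 : (1 : P) ∈ L := by
  unfold L
  exact List.Mem.head _
theorem m1 : xa * 1 ∈ L := by
  unfold L
  exact List.Mem.tail _ (List.Mem.head _)
theorem m2 : xb * 1 ∈ L := by
  unfold L
  exact List.Mem.tail _ (List.Mem.tail _ (List.Mem.head _))
theorem m3 : xa * (xa * 1) ∈ L := by
  unfold L
  exact List.Mem.tail _ (List.Mem.tail _ (List.Mem.tail _ (List.Mem.head _)))
theorem m4 : xa * (xb * 1) ∈ L := by
  unfold L
  exact List.Mem.tail _ (List.Mem.tail _ (List.Mem.tail _ (List.Mem.tail _ (List.Mem.head _))))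
theorem m5 : xb * (xa * 1) ∈ L := by
  unfold L
  exact List.Mem.tail _ (List.Mem.tail _ (List.Mem.tail _ (List.Mem.tail _ (List.Mem.tail _ (List.Mem.head _)))))
theorem m6 : xb * (xb * 1) ∈ L := by
  unfold L
  exact List.Mem.tail _ (List.Mem.tail _ (List.Mem.tail _ (List.Mem.tail _ (List.Mem.tail _ (List.Mem.tail _ (List.Mem.head _))))))
theorem m7 : xa * (xa * (xb * 1)) ∈ L := by
  unfold L
  exact List.Mem.tail _ (List.Mem.tail _ (List.Mem.tail _ (List.Mem.tail _ (List.Mem.tail _ (List.Mem.tail _ (List.Mem.tail _ (List.Mem.head _)))))))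
theorem m8 : xa * (xb * (xa * 1)) ∈ L := by
  unfold L
  exact List.Mem.tail _ (List.Mem.tail _ (List.Mem.tail _ (List.Mem.tail _ (List.Mem.tail _ (List.Mem.tail _ (List.Mem.tail _ (List.Mem.tail _ (List.Mem.head _))))))))
theorem m9 : xa * (xb * (xb * 1)) ∈ L := by
  unfold L
  exact List.Mem.tail _ (List.Mem.tail _ (List.Mem.tail _ (List.Mem.tail _ (List.Mem.tail _ (List.Mem.tail _ (List.Mem.tail _ (List.Mem.tail _ (List.Mem.tail _ (List.Mem.head _)))))))))
theorem m10 : xb * (xa * (xa * 1)) ∈ L := by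
  unfold L
  exact List.Mem.tail _ (List.Mem.tail _ (List.Mem.tail _ (List.Mem.tail _ (List.Mem.tail _ (List.Mem.tail _ (List.Mem.tail _ (List.Mem.tail _ (List.Mem.tail _ (List.Mem.tail _ (List.Mem.head _))))))))))
theorem m11 : xb * (xb * (xa * 1)) ∈ L := by
  unfold L
  exact List.Mem.tail _ (List.Mem.tail _ (List.Mem.tail _ (List.Mem.tail _ (List.Mem.tail _ (List.Mem.tail _ (List.Mem.tail _ (List.Mem.tail _ (List.Mem.tail _ (List.Mem.tail _ (List.Mem.tail _ (List.Mem.head _)))))))))))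
theorem m12 : xb * (xb * (xb * 1)) ∈ L := by
  unfold L
  exact List.Mem.tail _ (List.Mem.tail _ (List.Mem.tail _ (List.Mem.tail _ (List.Mem.tail _ (List.Mem.tail _ (List.Mem.tail _ (List.Mem.tail _ (List.Mem.tail _ (List.Mem.tail _ (List.Mem.tail _ (List.Mem.tail _ (List.Mem.head _))))))))))))
theorem m13 : xa * (xa * (xb * (xa * 1))) ∈ L := by
  unfold L
  exact List.Mem.tail _ (List.Mem.tail _ (List.Mem.tail _ (List.Mem.tail _ (List.Mem.tail _ (List.Mem.tail _ (List.Mem.tail _ (List.Mem.tail _ (List.Mem.tail _ (List.Mem.tail _ (List.Mem.tail _ (List.Mem.tail _ (List.Mem.tail _ (List.Mem.head _)))))))))))))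
theorem m14 : xa * (xa * (xb * (xb * 1))) ∈ L := by
  unfold L
  exact List.Mem.tail _ (List.Mem.tail _ (List.Mem.tail _ (List.Mem.tail _ (List.Mem.tail _ (List.Mem.tail _ (List.Mem.tail _ (List.Mem.tail _ (List.Mem.tail _ (List.Mem.tail _ (List.Mem.tail _ (List.Mem.tail _ (List.Mem.tail _ (List.Mem.tail _ (List.Mem.head _))))))))))))))
theorem m15 : xa * (xb * (xa * (xa * 1))) ∈ L := by
  unfold L
  exact List.Mem.tail _ (List.Mem.tail _ (List.Mem.tail _ (List.Mem.tail _ (List.Mem.tail _ (List.Mem.tail _ (List.Mem.tail _ (List.Mem.tail _ (List.Mem.tail _ (List.Mem.tail _ (List.Mem.tail _ (List.Mem.tail _ (List.Mem.tail _ (List.Mem.tail _ (List.Mem.tail _ (List.Mem.head _)))))))))))))))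
theorem m16 : xa * (xb * (xb * (xa * 1))) ∈ L := by
  unfold L
  exact List.Mem.tail _ (List.Mem.tail _ (List.Mem.tail _ (List.Mem.tail _ (List.Mem.tail _ (List.Mem.tail _ (List.Mem.tail _ (List.Mem.tail _ (List.Mem.tail _ (List.Mem.tail _ (List.Mem.tail _ (List.Mem.tail _ (List.Mem.tail _ (List.Mem.tail _ (List.Mem.tail _ (List.Mem.tail _ (List.Mem.head _))))))))))))))))
theorem m17 : xa * (xb * (xb * (xb * 1))) ∈ L := by
  unfold L
  exact List.Mem.tail _ (List.Mem.tail _ (List.Mem.tail _ (List.Mem.tail _ (List.Mem.tail _ (List.Mem.tail _ (List.Mem.tail _ (List.Mem.tail _ (List.Mem.tail _ (List.Mem.tail _ (List.Mem.tail _ (List.Mem.tail _ (List.Mem.tail _ (List.Mem.tail _ (List.Mem.tail _ (List.Mem.tail _ (List.Mem.tail _ (List.Mem.head _)))))))))))))))))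
theorem m18 : xb * (xa * (xa * (xb * 1))) ∈ L := by
  unfold L
  exact List.Mem.tail _ (List.Mem.tail _ (List.Mem.tail _ (List.Mem.tail _ (List.Mem.tail _ (List.Mem.tail _ (List.Mem.tail _ (List.Mem.tail _ (List.Mem.tail _ (List.Mem.tail _ (List.Mem.tail _ (List.Mem.tail _ (List.Mem.tail _ (List.Mem.tail _ (List.Mem.tail _ (List.Mem.tail _ (List.Mem.tail _ (List.Mem.tail _ (List.Mem.head _))))))))))))))))))
theorem m19 : xb * (xb * (xa * (xa * 1))) ∈ L := by
  unfold L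
  exact List.Mem.tail _ (List.Mem.tail _ (List.Mem.tail _ (List.Mem.tail _ (List.Mem.tail _ (List.Mem.tail _ (List.Mem.tail _ (List.Mem.tail _ (List.Mem.tail _ (List.Mem.tail _ (List.Mem.tail _ (List.Mem.tail _ (List.Mem.tail _ (List.Mem.tail _ (List.Mem.tail _ (List.Mem.tail _ (List.Mem.tail _ (List.Mem.tail _ (List.Mem.tail _ (List.Mem.head _)))))))))))))))))))
theorem m20 : xb * (xb * (xb * (xa * 1))) ∈ L := by
  unfold L
  exact List.Mem.tail _ (List.Mem.tail _ (List.Mem.tail _ (List.Mem.tail _ (List.Mem.tail _ (List.Mem.tail _ (List.Mem.tail _ (List.Mem.tail _ (List.Mem.tail _ (List.Mem.tail _ (List.Mem.tail _ (List.Mem.tail _ (List.Mem.tail _ (List.Mem.tail _ (List.Mem.tail _ (List.Mem.tail _ (List.Mem.tail _ (List.Mem.tail _ (List.Mem.tail _ (List.Mem.tail _ (List.Mem.head _))))))))))))))))))))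
theorem m21 : xa * (xa * (xb * (xa * (xa * 1)))) ∈ L := by
  unfold L
  exact List.Mem.tail _ (List.Mem.tail _ (List.Mem.tail _ (List.Mem.tail _ (List.Mem.tail _ (List.Mem.tail _ (List.Mem.tail _ (List.Mem.tail _ (List.Mem.tail _ (List.Mem.tail _ (List.Mem.tail _ (List.Mem.tail _ (List.Mem.tail _ (List.Mem.tail _ (List.Mem.tail _ (List.Mem.tail _ (List.Mem.tail _ (List.Mem.tail _ (List.Mem.tail _ (List.Mem.tail _ (List.Mem.tail _ (List.Mem.head _)))))))))))))))))))))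
theorem m22 : xa * (xa * (xb * (xb * (xa * 1)))) ∈ L := by
  unfold L
  exact List.Mem.tail _ (List.Mem.tail _ (List.Mem.tail _ (List.Mem.tail _ (List.Mem.tail _ (List.Mem.tail _ (List.Mem.tail _ (List.Mem.tail _ (List.Mem.tail _ (List.Mem.tail _ (List.Mem.tail _ (List.Mem.tail _ (List.Mem.tail _ (List.Mem.tail _ (List.Mem.tail _ (List.Mem.tail _ (List.Mem.tail _ (List.Mem.tail _ (List.Mem.tail _ (List.Mem.tail _ (List.Mem.tail _ (List.Mem.tail _ (List.Mem.head _))))))))))))))))))))))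
theorem m23 : xa * (xa * (xb * (xb * (xb * 1)))) ∈ L := by
  unfold L
  exact List.Mem.tail _ (List.Mem.tail _ (List.Mem.tail _ (List.Mem.tail _ (List.Mem.tail _ (List.Mem.tail _ (List.Mem.tail _ (List.Mem.tail _ (List.Mem.tail _ (List.Mem.tail _ (List.Mem.tail _ (List.Mem.tail _ (List.Mem.tail _ (List.Mem.tail _ (List.Mem.tail _ (List.Mem.tail _ (List.Mem.tail _ (List.Mem.tail _ (List.Mem.tail _ (List.Mem.tail _ (List.Mem.tail _ (List.Mem.tail _ (List.Mem.tail _ (List.Mem.head _)))))))))))))))))))))))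
theorem m24 : xa * (xb * (xa * (xa * (xb * 1)))) ∈ L := by
  unfold L
  exact List.Mem.tail _ (List.Mem.tail _ (List.Mem.tail _ (List.Mem.tail _ (List.Mem.tail _ (List.Mem.tail _ (List.Mem.tail _ (List.Mem.tail _ (List.Mem.tail _ (List.Mem.tail _ (List.Mem.tail _ (List.Mem.tail _ (List.Mem.tail _ (List.Mem.tail _ (List.Mem.tail _ (List.Mem.tail _ (List.Mem.tail _ (List.Mem.tail _ (List.Mem.tail _ (List.Mem.tail _ (List.Mem.tail _ (List.Mem.tail _ (List.Mem.tail _ (List.Mem.tail _ (List.Mem.head _))))))))))))))))))))))))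
theorem m25 : xa * (xb * (xb * (xa * (xa * 1)))) ∈ L := by
  unfold L
  exact List.Mem.tail _ (List.Mem.tail _ (List.Mem.tail _ (List.Mem.tail _ (List.Mem.tail _ (List.Mem.tail _ (List.Mem.tail _ (List.Mem.tail _ (List.Mem.tail _ (List.Mem.tail _ (List.Mem.tail _ (List.Mem.tail _ (List.Mem.tail _ (List.Mem.tail _ (List.Mem.tail _ (List.Mem.tail _ (List.Mem.tail _ (List.Mem.tail _ (List.Mem.tail _ (List.Mem.tail _ (List.Mem.tail _ (List.Mem.tail _ (List.Mem.tail _ (List.Mem.tail _ (List.Mem.tail _ (List.Mem.head _)))))))))))))))))))))))))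
theorem m26 : xa * (xb * (xb * (xb * (xa * 1)))) ∈ L := by
  unfold L
  exact List.Mem.tail _ (List.Mem.tail _ (List.Mem.tail _ (List.Mem.tail _ (List.Mem.tail _ (List.Mem.tail _ (List.Mem.tail _ (List.Mem.tail _ (List.Mem.tail _ (List.Mem.tail _ (List.Mem.tail _ (List.Mem.tail _ (List.Mem.tail _ (List.Mem.tail _ (List.Mem.tail _ (List.Mem.tail _ (List.Mem.tail _ (List.Mem.tail _ (List.Mem.tail _ (List.Mem.tail _ (List.Mem.tail _ (List.Mem.tail _ (List.Mem.tail _ (List.Mem.tail _ (List.Mem.tail _ (List.Mem.tail _ (List.Mem.head _))))))))))))))))))))))))))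
theorem m27 : xb * (xa * (xa * (xb * (xb * 1)))) ∈ L := by
  unfold L
  exact List.Mem.tail _ (List.Mem.tail _ (List.Mem.tail _ (List.Mem.tail _ (List.Mem.tail _ (List.Mem.tail _ (List.Mem.tail _ (List.Mem.tail _ (List.Mem.tail _ (List.Mem.tail _ (List.Mem.tail _ (List.Mem.tail _ (List.Mem.tail _ (List.Mem.tail _ (List.Mem.tail _ (List.Mem.tail _ (List.Mem.tail _ (List.Mem.tail _ (List.Mem.tail _ (List.Mem.tail _ (List.Mem.tail _ (List.Mem.tail _ (List.Mem.tail _ (List.Mem.tail _ (List.Mem.tail _ (List.Mem.tail _ (List.Mem.tail _ (List.Mem.head _)))))))))))))))))))))))))))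
theorem m28 : xb * (xb * (xa * (xa * (xb * 1)))) ∈ L := by
  unfold L
  exact List.Mem.tail _ (List.Mem.tail _ (List.Mem.tail _ (List.Mem.tail _ (List.Mem.tail _ (List.Mem.tail _ (List.Mem.tail _ (List.Mem.tail _ (List.Mem.tail _ (List.Mem.tail _ (List.Mem.tail _ (List.Mem.tail _ (List.Mem.tail _ (List.Mem.tail _ (List.Mem.tail _ (List.Mem.tail _ (List.Mem.tail _ (List.Mem.tail _ (List.Mem.tail _ (List.Mem.tail _ (List.Mem.tail _ (List.Mem.tail _ (List.Mem.tail _ (List.Mem.tail _ (List.Mem.tail _ (List.Mem.tail _ (List.Mem.tail _ (List.Mem.tail _ (List.Mem.head _))))))))))))))))))))))))))))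
theorem m29 : xa * (xa * (xb * (xa * (xa * (xb * 1))))) ∈ L := by
  unfold L
  exact List.Mem.tail _ (List.Mem.tail _ (List.Mem.tail _ (List.Mem.tail _ (List.Mem.tail _ (List.Mem.tail _ (List.Mem.tail _ (List.Mem.tail _ (List.Mem.tail _ (List.Mem.tail _ (List.Mem.tail _ (List.Mem.tail _ (List.Mem.tail _ (List.Mem.tail _ (List.Mem.tail _ (List.Mem.tail _ (List.Mem.tail _ (List.Mem.tail _ (List.Mem.tail _ (List.Mem.tail _ (List.Mem.tail _ (List.Mem.tail _ (List.Mem.tail _ (List.Mem.tail _ (List.Mem.tail _ (List.Mem.tail _ (List.Mem.tail _ (List.Mem.tail _ (List.Mem.tail _ (List.Mem.head _)))))))))))))))))))))))))))))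
theorem m30 : xa * (xa * (xb * (xb * (xa * (xa * 1))))) ∈ L := by
  unfold L
  exact List.Mem.tail _ (List.Mem.tail _ (List.Mem.tail _ (List.Mem.tail _ (List.Mem.tail _ (List.Mem.tail _ (List.Mem.tail _ (List.Mem.tail _ (List.Mem.tail _ (List.Mem.tail _ (List.Mem.tail _ (List.Mem.tail _ (List.Mem.tail _ (List.Mem.tail _ (List.Mem.tail _ (List.Mem.tail _ (List.Mem.tail _ (List.Mem.tail _ (List.Mem.tail _ (List.Mem.tail _ (List.Mem.tail _ (List.Mem.tail _ (List.Mem.tail _ (List.Mem.tail _ (List.Mem.tail _ (List.Mem.tail _ (List.Mem.tail _ (List.Mem.tail _ (List.Mem.tail _ (List.Mem.tail _ (List.Mem.head _))))))))))))))))))))))))))))))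
theorem m31 : xa * (xa * (xb * (xb * (xb * (xa * 1))))) ∈ L := by
  unfold L
  exact List.Mem.tail _ (List.Mem.tail _ (List.Mem.tail _ (List.Mem.tail _ (List.Mem.tail _ (List.Mem.tail _ (List.Mem.tail _ (List.Mem.tail _ (List.Mem.tail _ (List.Mem.tail _ (List.Mem.tail _ (List.Mem.tail _ (List.Mem.tail _ (List.Mem.tail _ (List.Mem.tail _ (List.Mem.tail _ (List.Mem.tail _ (List.Mem.tail _ (List.Mem.tail _ (List.Mem.tail _ (List.Mem.tail _ (List.Mem.tail _ (List.Mem.tail _ (List.Mem.tail _ (List.Mem.tail _ (List.Mem.tail _ (List.Mem.tail _ (List.Mem.tail _ (List.Mem.tail _ (List.Mem.tail _ (List.Mem.tail _ (List.Mem.head _)))))))))))))))))))))))))))))))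
theorem m32 : xa * (xb * (xa * (xa * (xb * (xb * 1))))) ∈ L := by
  unfold L
  exact List.Mem.tail _ (List.Mem.tail _ (List.Mem.tail _ (List.Mem.tail _ (List.Mem.tail _ (List.Mem.tail _ (List.Mem.tail _ (List.Mem.tail _ (List.Mem.tail _ (List.Mem.tail _ (List.Mem.tail _ (List.Mem.tail _ (List.Mem.tail _ (List.Mem.tail _ (List.Mem.tail _ (List.Mem.tail _ (List.Mem.tail _ (List.Mem.tail _ (List.Mem.tail _ (List.Mem.tail _ (List.Mem.tail _ (List.Mem.tail _ (List.Mem.tail _ (List.Mem.tail _ (List.Mem.tail _ (List.Mem.tail _ (List.Mem.tail _ (List.Mem.tail _ (List.Mem.tail _ (List.Mem.tail _ (List.Mem.tail _ (List.Mem.tail _ (List.Mem.head _))))))))))))))))))))))))))))))))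
theorem m33 : xa * (xb * (xb * (xa * (xa * (xb * 1))))) ∈ L := by
  unfold L
  exact List.Mem.tail _ (List.Mem.tail _ (List.Mem.tail _ (List.Mem.tail _ (List.Mem.tail _ (List.Mem.tail _ (List.Mem.tail _ (List.Mem.tail _ (List.Mem.tail _ (List.Mem.tail _ (List.Mem.tail _ (List.Mem.tail _ (List.Mem.tail _ (List.Mem.tail _ (List.Mem.tail _ (List.Mem.tail _ (List.Mem.tail _ (List.Mem.tail _ (List.Mem.tail _ (List.Mem.tail _ (List.Mem.tail _ (List.Mem.tail _ (List.Mem.tail _ (List.Mem.tail _ (List.Mem.tail _ (List.Mem.tail _ (List.Mem.tail _ (List.Mem.tail _ (List.Mem.tail _ (List.Mem.tail _ (List.Mem.tail _ (List.Mem.tail _ (List.Mem.tail _ (List.Mem.head _)))))))))))))))))))))))))))))))))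
theorem m34 : xb * (xa * (xa * (xb * (xb * (xa * 1))))) ∈ L := by
  unfold L
  exact List.Mem.tail _ (List.Mem.tail _ (List.Mem.tail _ (List.Mem.tail _ (List.Mem.tail _ (List.Mem.tail _ (List.Mem.tail _ (List.Mem.tail _ (List.Mem.tail _ (List.Mem.tail _ (List.Mem.tail _ (List.Mem.tail _ (List.Mem.tail _ (List.Mem.tail _ (List.Mem.tail _ (List.Mem.tail _ (List.Mem.tail _ (List.Mem.tail _ (List.Mem.tail _ (List.Mem.tail _ (List.Mem.tail _ (List.Mem.tail _ (List.Mem.tail _ (List.Mem.tail _ (List.Mem.tail _ (List.Mem.tail _ (List.Mem.tail _ (List.Mem.tail _ (List.Mem.tail _ (List.Mem.tail _ (List.Mem.tail _ (List.Mem.tail _ (List.Mem.tail _ (List.Mem.tail _ (List.Mem.head _))))))))))))))))))))))))))))))))))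
theorem m35 : xb * (xa * (xa * (xb * (xb * (xb * 1))))) ∈ L := by
  unfold L
  exact List.Mem.tail _ (List.Mem.tail _ (List.Mem.tail _ (List.Mem.tail _ (List.Mem.tail _ (List.Mem.tail _ (List.Mem.tail _ (List.Mem.tail _ (List.Mem.tail _ (List.Mem.tail _ (List.Mem.tail _ (List.Mem.tail _ (List.Mem.tail _ (List.Mem.tail _ (List.Mem.tail _ (List.Mem.tail _ (List.Mem.tail _ (List.Mem.tail _ (List.Mem.tail _ (List.Mem.tail _ (List.Mem.tail _ (List.Mem.tail _ (List.Mem.tail _ (List.Mem.tail _ (List.Mem.tail _ (List.Mem.tail _ (List.Mem.tail _ (List.Mem.tail _ (List.Mem.tail _ (List.Mem.tail _ (List.Mem.tail _ (List.Mem.tail _ (List.Mem.tail _ (List.Mem.tail _ (List.Mem.tail _ (List.Mem.head _)))))))))))))))))))))))))))))))))))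
theorem m36 : xb * (xb * (xa * (xa * (xb * (xb * 1))))) ∈ L := by
  unfold L
  exact List.Mem.tail _ (List.Mem.tail _ (List.Mem.tail _ (List.Mem.tail _ (List.Mem.tail _ (List.Mem.tail _ (List.Mem.tail _ (List.Mem.tail _ (List.Mem.tail _ (List.Mem.tail _ (List.Mem.tail _ (List.Mem.tail _ (List.Mem.tail _ (List.Mem.tail _ (List.Mem.tail _ (List.Mem.tail _ (List.Mem.tail _ (List.Mem.tail _ (List.Mem.tail _ (List.Mem.tail _ (List.Mem.tail _ (List.Mem.tail _ (List.Mem.tail _ (List.Mem.tail _ (List.Mem.tail _ (List.Mem.tail _ (List.Mem.tail _ (List.Mem.tail _ (List.Mem.tail _ (List.Mem.tail _ (List.Mem.tail _ (List.Mem.tail _ (List.Mem.tail _ (List.Mem.tail _ (List.Mem.tail _ (List.Mem.tail _ (List.Mem.head _))))))))))))))))))))))))))))))))))))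
theorem m37 : xa * (xa * (xb * (xa * (xa * (xb * (xb * 1)))))) ∈ L := by
  unfold L
  exact List.Mem.tail _ (List.Mem.tail _ (List.Mem.tail _ (List.Mem.tail _ (List.Mem.tail _ (List.Mem.tail _ (List.Mem.tail _ (List.Mem.tail _ (List.Mem.tail _ (List.Mem.tail _ (List.Mem.tail _ (List.Mem.tail _ (List.Mem.tail _ (List.Mem.tail _ (List.Mem.tail _ (List.Mem.tail _ (List.Mem.tail _ (List.Mem.tail _ (List.Mem.tail _ (List.Mem.tail _ (List.Mem.tail _ (List.Mem.tail _ (List.Mem.tail _ (List.Mem.tail _ (List.Mem.tail _ (List.Mem.tail _ (List.Mem.tail _ (List.Mem.tail _ (List.Mem.tail _ (List.Mem.tail _ (List.Mem.tail _ (List.Mem.tail _ (List.Mem.tail _ (List.Mem.tail _ (List.Mem.tail _ (List.Mem.tail _ (List.Mem.tail _ (List.Mem.head _)))))))))))))))))))))))))))))))))))))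
theorem m38 : xa * (xa * (xb * (xb * (xa * (xa * (xb * 1)))))) ∈ L := by
  unfold L
  exact List.Mem.tail _ (List.Mem.tail _ (List.Mem.tail _ (List.Mem.tail _ (List.Mem.tail _ (List.Mem.tail _ (List.Mem.tail _ (List.Mem.tail _ (List.Mem.tail _ (List.Mem.tail _ (List.Mem.tail _ (List.Mem.tail _ (List.Mem.tail _ (List.Mem.tail _ (List.Mem.tail _ (List.Mem.tail _ (List.Mem.tail _ (List.Mem.tail _ (List.Mem.tail _ (List.Mem.tail _ (List.Mem.tail _ (List.Mem.tail _ (List.Mem.tail _ (List.Mem.tail _ (List.Mem.tail _ (List.Mem.tail _ (List.Mem.tail _ (List.Mem.tail _ (List.Mem.tail _ (List.Mem.tail _ (List.Mem.tail _ (List.Mem.tail _ (List.Mem.tail _ (List.Mem.tail _ (List.Mem.tail _ (List.Mem.tail _ (List.Mem.tail _ (List.Mem.tail _ (List.Mem.head _))))))))))))))))))))))))))))))))))))))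
theorem m39 : xa * (xb * (xa * (xa * (xb * (xb * (xa * 1)))))) ∈ L := by
  unfold L
  exact List.Mem.tail _ (List.Mem.tail _ (List.Mem.tail _ (List.Mem.tail _ (List.Mem.tail _ (List.Mem.tail _ (List.Mem.tail _ (List.Mem.tail _ (List.Mem.tail _ (List.Mem.tail _ (List.Mem.tail _ (List.Mem.tail _ (List.Mem.tail _ (List.Mem.tail _ (List.Mem.tail _ (List.Mem.tail _ (List.Mem.tail _ (List.Mem.tail _ (List.Mem.tail _ (List.Mem.tail _ (List.Mem.tail _ (List.Mem.tail _ (List.Mem.tail _ (List.Mem.tail _ (List.Mem.tail _ (List.Mem.tail _ (List.Mem.tail _ (List.Mem.tail _ (List.Mem.tail _ (List.Mem.tail _ (List.Mem.tail _ (List.Mem.tail _ (List.Mem.tail _ (List.Mem.tail _ (List.Mem.tail _ (List.Mem.tail _ (List.Mem.tail _ (List.Mem.tail _ (List.Mem.tail _ (List.Mem.head _)))))))))))))))))))))))))))))))))))))))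
theorem m40 : xa * (xb * (xa * (xa * (xb * (xb * (xb * 1)))))) ∈ L := by
  unfold L
  exact List.Mem.tail _ (List.Mem.tail _ (List.Mem.tail _ (List.Mem.tail _ (List.Mem.tail _ (List.Mem.tail _ (List.Mem.tail _ (List.Mem.tail _ (List.Mem.tail _ (List.Mem.tail _ (List.Mem.tail _ (List.Mem.tail _ (List.Mem.tail _ (List.Mem.tail _ (List.Mem.tail _ (List.Mem.tail _ (List.Mem.tail _ (List.Mem.tail _ (List.Mem.tail _ (List.Mem.tail _ (List.Mem.tail _ (List.Mem.tail _ (List.Mem.tail _ (List.Mem.tail _ (List.Mem.tail _ (List.Mem.tail _ (List.Mem.tail _ (List.Mem.tail _ (List.Mem.tail _ (List.Mem.tail _ (List.Mem.tail _ (List.Mem.tail _ (List.Mem.tail _ (List.Mem.tail _ (List.Mem.tail _ (List.Mem.tail _ (List.Mem.tail _ (List.Mem.tail _ (List.Mem.tail _ (List.Mem.tail _ (List.Mem.head _))))))))))))))))))))))))))))))))))))))))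
theorem m41 : xa * (xb * (xb * (xa * (xa * (xb * (xb * 1)))))) ∈ L := by
  unfold L
  exact List.Mem.tail _ (List.Mem.tail _ (List.Mem.tail _ (List.Mem.tail _ (List.Mem.tail _ (List.Mem.tail _ (List.Mem.tail _ (List.Mem.tail _ (List.Mem.tail _ (List.Mem.tail _ (List.Mem.tail _ (List.Mem.tail _ (List.Mem.tail _ (List.Mem.tail _ (List.Mem.tail _ (List.Mem.tail _ (List.Mem.tail _ (List.Mem.tail _ (List.Mem.tail _ (List.Mem.tail _ (List.Mem.tail _ (List.Mem.tail _ (List.Mem.tail _ (List.Mem.tail _ (List.Mem.tail _ (List.Mem.tail _ (List.Mem.tail _ (List.Mem.tail _ (List.Mem.tail _ (List.Mem.tail _ (List.Mem.tail _ (List.Mem.tail _ (List.Mem.tail _ (List.Mem.tail _ (List.Mem.tail _ (List.Mem.tail _ (List.Mem.tail _ (List.Mem.tail _ (List.Mem.tail _ (List.Mem.tail _ (List.Mem.tail _ (List.Mem.head _)))))))))))))))))))))))))))))))))))))))))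
theorem m42 : xb * (xa * (xa * (xb * (xb * (xa * (xa * 1)))))) ∈ L := by
  unfold L
  exact List.Mem.tail _ (List.Mem.tail _ (List.Mem.tail _ (List.Mem.tail _ (List.Mem.tail _ (List.Mem.tail _ (List.Mem.tail _ (List.Mem.tail _ (List.Mem.tail _ (List.Mem.tail _ (List.Mem.tail _ (List.Mem.tail _ (List.Mem.tail _ (List.Mem.tail _ (List.Mem.tail _ (List.Mem.tail _ (List.Mem.tail _ (List.Mem.tail _ (List.Mem.tail _ (List.Mem.tail _ (List.Mem.tail _ (List.Mem.tail _ (List.Mem.tail _ (List.Mem.tail _ (List.Mem.tail _ (List.Mem.tail _ (List.Mem.tail _ (List.Mem.tail _ (List.Mem.tail _ (List.Mem.tail _ (List.Mem.tail _ (List.Mem.tail _ (List.Mem.tail _ (List.Mem.tail _ (List.Mem.tail _ (List.Mem.tail _ (List.Mem.tail _ (List.Mem.tail _ (List.Mem.tail _ (List.Mem.tail _ (List.Mem.tail _ (List.Mem.tail _ (List.Mem.head _))))))))))))))))))))))))))))))))))))))))))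
theorem m43 : xb * (xa * (xa * (xb * (xb * (xb * (xa * 1)))))) ∈ L := by
  unfold L
  exact List.Mem.tail _ (List.Mem.tail _ (List.Mem.tail _ (List.Mem.tail _ (List.Mem.tail _ (List.Mem.tail _ (List.Mem.tail _ (List.Mem.tail _ (List.Mem.tail _ (List.Mem.tail _ (List.Mem.tail _ (List.Mem.tail _ (List.Mem.tail _ (List.Mem.tail _ (List.Mem.tail _ (List.Mem.tail _ (List.Mem.tail _ (List.Mem.tail _ (List.Mem.tail _ (List.Mem.tail _ (List.Mem.tail _ (List.Mem.tail _ (List.Mem.tail _ (List.Mem.tail _ (List.Mem.tail _ (List.Mem.tail _ (List.Mem.tail _ (List.Mem.tail _ (List.Mem.tail _ (List.Mem.tail _ (List.Mem.tail _ (List.Mem.tail _ (List.Mem.tail _ (List.Mem.tail _ (List.Mem.tail _ (List.Mem.tail _ (List.Mem.tail _ (List.Mem.tail _ (List.Mem.tail _ (List.Mem.tail _ (List.Mem.tail _ (List.Mem.tail _ (List.Mem.tail _ (List.Mem.head _)))))))))))))))))))))))))))))))))))))))))))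
theorem m44 : xb * (xb * (xa * (xa * (xb * (xb * (xa * 1)))))) ∈ L := by
  unfold L
  exact List.Mem.tail _ (List.Mem.tail _ (List.Mem.tail _ (List.Mem.tail _ (List.Mem.tail _ (List.Mem.tail _ (List.Mem.tail _ (List.Mem.tail _ (List.Mem.tail _ (List.Mem.tail _ (List.Mem.tail _ (List.Mem.tail _ (List.Mem.tail _ (List.Mem.tail _ (List.Mem.tail _ (List.Mem.tail _ (List.Mem.tail _ (List.Mem.tail _ (List.Mem.tail _ (List.Mem.tail _ (List.Mem.tail _ (List.Mem.tail _ (List.Mem.tail _ (List.Mem.tail _ (List.Mem.tail _ (List.Mem.tail _ (List.Mem.tail _ (List.Mem.tail _ (List.Mem.tail _ (List.Mem.tail _ (List.Mem.tail _ (List.Mem.tail _ (List.Mem.tail _ (List.Mem.tail _ (List.Mem.tail _ (List.Mem.tail _ (List.Mem.tail _ (List.Mem.tail _ (List.Mem.tail _ (List.Mem.tail _ (List.Mem.tail _ (List.Mem.tail _ (List.Mem.tail _ (List.Mem.tail _ (List.Mem.head _))))))))))))))))))))))))))))))))))))))))))))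
theorem m45 : xa * (xa * (xb * (xa * (xa * (xb * (xb * (xa * 1))))))) ∈ L := by
  unfold L
  exact List.Mem.tail _ (List.Mem.tail _ (List.Mem.tail _ (List.Mem.tail _ (List.Mem.tail _ (List.Mem.tail _ (List.Mem.tail _ (List.Mem.tail _ (List.Mem.tail _ (List.Mem.tail _ (List.Mem.tail _ (List.Mem.tail _ (List.Mem.tail _ (List.Mem.tail _ (List.Mem.tail _ (List.Mem.tail _ (List.Mem.tail _ (List.Mem.tail _ (List.Mem.tail _ (List.Mem.tail _ (List.Mem.tail _ (List.Mem.tail _ (List.Mem.tail _ (List.Mem.tail _ (List.Mem.tail _ (List.Mem.tail _ (List.Mem.tail _ (List.Mem.tail _ (List.Mem.tail _ (List.Mem.tail _ (List.Mem.tail _ (List.Mem.tail _ (List.Mem.tail _ (List.Mem.tail _ (List.Mem.tail _ (List.Mem.tail _ (List.Mem.tail _ (List.Mem.tail _ (List.Mem.tail _ (List.Mem.tail _ (List.Mem.tail _ (List.Mem.tail _ (List.Mem.tail _ (List.Mem.tail _ (List.Mem.tail _ (List.Mem.head _)))))))))))))))))))))))))))))))))))))))))))))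
theorem m46 : xa * (xa * (xb * (xa * (xa * (xb * (xb * (xb * 1))))))) ∈ L := by
  unfold L
  exact List.Mem.tail _ (List.Mem.tail _ (List.Mem.tail _ (List.Mem.tail _ (List.Mem.tail _ (List.Mem.tail _ (List.Mem.tail _ (List.Mem.tail _ (List.Mem.tail _ (List.Mem.tail _ (List.Mem.tail _ (List.Mem.tail _ (List.Mem.tail _ (List.Mem.tail _ (List.Mem.tail _ (List.Mem.tail _ (List.Mem.tail _ (List.Mem.tail _ (List.Mem.tail _ (List.Mem.tail _ (List.Mem.tail _ (List.Mem.tail _ (List.Mem.tail _ (List.Mem.tail _ (List.Mem.tail _ (List.Mem.tail _ (List.Mem.tail _ (List.Mem.tail _ (List.Mem.tail _ (List.Mem.tail _ (List.Mem.tail _ (List.Mem.tail _ (List.Mem.tail _ (List.Mem.tail _ (List.Mem.tail _ (List.Mem.tail _ (List.Mem.tail _ (List.Mem.tail _ (List.Mem.tail _ (List.Mem.tail _ (List.Mem.tail _ (List.Mem.tail _ (List.Mem.tail _ (List.Mem.tail _ (List.Mem.tail _ (List.Mem.tail _ (List.Mem.head _))))))))))))))))))))))))))))))))))))))))))))))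
theorem m47 : xa * (xa * (xb * (xb * (xa * (xa * (xb * (xb * 1))))))) ∈ L := by
  unfold L
  exact List.Mem.tail _ (List.Mem.tail _ (List.Mem.tail _ (List.Mem.tail _ (List.Mem.tail _ (List.Mem.tail _ (List.Mem.tail _ (List.Mem.tail _ (List.Mem.tail _ (List.Mem.tail _ (List.Mem.tail _ (List.Mem.tail _ (List.Mem.tail _ (List.Mem.tail _ (List.Mem.tail _ (List.Mem.tail _ (List.Mem.tail _ (List.Mem.tail _ (List.Mem.tail _ (List.Mem.tail _ (List.Mem.tail _ (List.Mem.tail _ (List.Mem.tail _ (List.Mem.tail _ (List.Mem.tail _ (List.Mem.tail _ (List.Mem.tail _ (List.Mem.tail _ (List.Mem.tail _ (List.Mem.tail _ (List.Mem.tail _ (List.Mem.tail _ (List.Mem.tail _ (List.Mem.tail _ (List.Mem.tail _ (List.Mem.tail _ (List.Mem.tail _ (List.Mem.tail _ (List.Mem.tail _ (List.Mem.tail _ (List.Mem.tail _ (List.Mem.tail _ (List.Mem.tail _ (List.Mem.tail _ (List.Mem.tail _ (List.Mem.tail _ (List.Mem.tail _ (List.Mem.head _)))))))))))))))))))))))))))))))))))))))))))))))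
theorem m48 : xa * (xb * (xa * (xa * (xb * (xb * (xa * (xa * 1))))))) ∈ L := by
  unfold L
  exact List.Mem.tail _ (List.Mem.tail _ (List.Mem.tail _ (List.Mem.tail _ (List.Mem.tail _ (List.Mem.tail _ (List.Mem.tail _ (List.Mem.tail _ (List.Mem.tail _ (List.Mem.tail _ (List.Mem.tail _ (List.Mem.tail _ (List.Mem.tail _ (List.Mem.tail _ (List.Mem.tail _ (List.Mem.tail _ (List.Mem.tail _ (List.Mem.tail _ (List.Mem.tail _ (List.Mem.tail _ (List.Mem.tail _ (List.Mem.tail _ (List.Mem.tail _ (List.Mem.tail _ (List.Mem.tail _ (List.Mem.tail _ (List.Mem.tail _ (List.Mem.tail _ (List.Mem.tail _ (List.Mem.tail _ (List.Mem.tail _ (List.Mem.tail _ (List.Mem.tail _ (List.Mem.tail _ (List.Mem.tail _ (List.Mem.tail _ (List.Mem.tail _ (List.Mem.tail _ (List.Mem.tail _ (List.Mem.tail _ (List.Mem.tail _ (List.Mem.tail _ (List.Mem.tail _ (List.Mem.tail _ (List.Mem.tail _ (List.Mem.tail _ (List.Mem.tail _ (List.Mem.tail _ (List.Mem.head _))))))))))))))))))))))))))))))))))))))))))))))))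
theorem m49 : xa * (xb * (xa * (xa * (xb * (xb * (xb * (xa * 1))))))) ∈ L := by
  unfold L
  exact List.Mem.tail _ (List.Mem.tail _ (List.Mem.tail _ (List.Mem.tail _ (List.Mem.tail _ (List.Mem.tail _ (List.Mem.tail _ (List.Mem.tail _ (List.Mem.tail _ (List.Mem.tail _ (List.Mem.tail _ (List.Mem.tail _ (List.Mem.tail _ (List.Mem.tail _ (List.Mem.tail _ (List.Mem.tail _ (List.Mem.tail _ (List.Mem.tail _ (List.Mem.tail _ (List.Mem.tail _ (List.Mem.tail _ (List.Mem.tail _ (List.Mem.tail _ (List.Mem.tail _ (List.Mem.tail _ (List.Mem.tail _ (List.Mem.tail _ (List.Mem.tail _ (List.Mem.tail _ (List.Mem.tail _ (List.Mem.tail _ (List.Mem.tail _ (List.Mem.tail _ (List.Mem.tail _ (List.Mem.tail _ (List.Mem.tail _ (List.Mem.tail _ (List.Mem.tail _ (List.Mem.tail _ (List.Mem.tail _ (List.Mem.tail _ (List.Mem.tail _ (List.Mem.tail _ (List.Mem.tail _ (List.Mem.tail _ (List.Mem.tail _ (List.Mem.tail _ (List.Mem.tail _ (List.Mem.tail _ (List.Mem.head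 _)))))))))))))))))))))))))))))))))))))))))))))))))
theorem m50 : xa * (xb * (xb * (xa * (xa * (xb * (xb * (xa * 1))))))) ∈ L := by
  unfold L
  exact List.Mem.tail _ (List.Mem.tail _ (List.Mem.tail _ (List.Mem.tail _ (List.Mem.tail _ (List.Mem.tail _ (List.Mem.tail _ (List.Mem.tail _ (List.Mem.tail _ (List.Mem.tail _ (List.Mem.tail _ (List.Mem.tail _ (List.Mem.tail _ (List.Mem.tail _ (List.Mem.tail _ (List.Mem.tail _ (List.Mem.tail _ (List.Mem.tail _ (List.Mem.tail _ (List.Mem.tail _ (List.Mem.tail _ (List.Mem.tail _ (List.Mem.tail _ (List.Mem.tail _ (List.Mem.tail _ (List.Mem.tail _ (List.Mem.tail _ (List.Mem.tail _ (List.Mem.tail _ (List.Mem.tail _ (List.Mem.tail _ (List.Mem.tail _ (List.Mem.tail _ (List.Mem.tail _ (List.Mem.tail _ (List.Mem.tail _ (List.Mem.tail _ (List.Mem.tail _ (List.Mem.tail _ (List.Mem.tail _ (List.Mem.tail _ (List.Mem.tail _ (List.Mem.tail _ (List.Mem.tail _ (List.Mem.tail _ (List.Mem.tail _ (List.Mem.tail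 _ (List.Mem.tail _ (List.Mem.tail _ (List.Mem.tail _ (List.Mem.head _))))))))))))))))))))))))))))))))))))))))))))))))))
theorem m51 : xb * (xa * (xa * (xb * (xb * (xa * (xa * (xb * 1))))))) ∈ L := by
  unfold L
  exact List.Mem.tail _ (List.Mem.tail _ (List.Mem.tail _ (List.Mem.tail _ (List.Mem.tail _ (List.Mem.tail _ (List.Mem.tail _ (List.Mem.tail _ (List.Mem.tail _ (List.Mem.tail _ (List.Mem.tail _ (List.Mem.tail _ (List.Mem.tail _ (List.Mem.tail _ (List.Mem.tail _ (List.Mem.tail _ (List.Mem.tail _ (List.Mem.tail _ (List.Mem.tail _ (List.Mem.tail _ (List.Mem.tail _ (List.Mem.tail _ (List.Mem.tail _ (List.Mem.tail _ (List.Mem.tail _ (List.Mem.tail _ (List.Mem.tail _ (List.Mem.tail _ (List.Mem.tail _ (List.Mem.tail _ (List.Mem.tail _ (List.Mem.tail _ (List.Mem.tail _ (List.Mem.tail _ (List.Mem.tail _ (List.Mem.tail _ (List.Mem.tail _ (List.Mem.tail _ (List.Mem.tail _ (List.Mem.tail _ (List.Mem.tail _ (List.Mem.tail _ (List.Mem.tail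 _ (List.Mem.tail _ (List.Mem.tail _ (List.Mem.tail _ (List.Mem.tail _ (List.Mem.tail _ (List.Mem.tail _ (List.Mem.tail _ (List.Mem.tail _ (List.Mem.head _)))))))))))))))))))))))))))))))))))))))))))))))))))
theorem m52 : xb * (xb * (xa * (xa * (xb * (xb * (xa * (xa * 1))))))) ∈ L := by
  unfold L
  exact List.Mem.tail _ (List.Mem.tail _ (List.Mem.tail _ (List.Mem.tail _ (List.Mem.tail _ (List.Mem.tail _ (List.Mem.tail _ (List.Mem.tail _ (List.Mem.tail _ (List.Mem.tail _ (List.Mem.tail _ (List.Mem.tail _ (List.Mem.tail _ (List.Mem.tail _ (List.Mem.tail _ (List.Mem.tail _ (List.Mem.tail _ (List.Mem.tail _ (List.Mem.tail _ (List.Mem.tail _ (List.Mem.tail _ (List.Mem.tail _ (List.Mem.tail _ (List.Mem.tail _ (List.Mem.tail _ (List.Mem.tail _ (List.Mem.tail _ (List.Mem.tail _ (List.Mem.tail _ (List.Mem.tail _ (List.Mem.tail _ (List.Mem.tail _ (List.Mem.tail _ (List.Mem.tail _ (List.Mem.tail _ (List.Mem.tail _ (List.Mem.tail _ (List.Mem.tail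 _ (List.Mem.tail _ (List.Mem.tail _ (List.Mem.tail _ (List.Mem.tail _ (List.Mem.tail _ (List.Mem.tail _ (List.Mem.tail _ (List.Mem.tail _ (List.Mem.tail _ (List.Mem.tail _ (List.Mem.tail _ (List.Mem.tail _ (List.Mem.tail _ (List.Mem.tail _ (List.Mem.head _))))))))))))))))))))))))))))))))))))))))))))))))))))
theorem m53 : xa * (xa * (xb * (xa * (xa * (xb * (xb * (xa * (xa * 1)))))))) ∈ L := by
  unfold L
  exact List.Mem.tail _ (List.Mem.tail _ (List.Mem.tail _ (List.Mem.tail _ (List.Mem.tail _ (List.Mem.tail _ (List.Mem.tail _ (List.Mem.tail _ (List.Mem.tail _ (List.Mem.tail _ (List.Mem.tail _ (List.Mem.tail _ (List.Mem.tail _ (List.Mem.tail _ (List.Mem.tail _ (List.Mem.tail _ (List.Mem.tail _ (List.Mem.tail _ (List.Mem.tail _ (List.Mem.tail _ (List.Mem.tail _ (List.Mem.tail _ (List.Mem.tail _ (List.Mem.tail _ (List.Mem.tail _ (List.Mem.tail _ (List.Mem.tail _ (List.Mem.tail _ (List.Mem.tail _ (List.Mem.tail _ (List.Mem.tail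 _ (List.Mem.tail _ (List.Mem.tail _ (List.Mem.tail _ (List.Mem.tail _ (List.Mem.tail _ (List.Mem.tail _ (List.Mem.tail _ (List.Mem.tail _ (List.Mem.tail _ (List.Mem.tail _ (List.Mem.tail _ (List.Mem.tail _ (List.Mem.tail _ (List.Mem.tail _ (List.Mem.tail _ (List.Mem.tail _ (List.Mem.tail _ (List.Mem.tail _ (List.Mem.tail _ (List.Mem.tail _ (List.Mem.tail _ (List.Mem.tail _ (List.Mem.head _)))))))))))))))))))))))))))))))))))))))))))))))))))))
theorem m54 : xa * (xa * (xb * (xa * (xa * (xb * (xb * (xb * (xa * 1)))))))) ∈ L := by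
  unfold L
  exact List.Mem.tail _ (List.Mem.tail _ (List.Mem.tail _ (List.Mem.tail _ (List.Mem.tail _ (List.Mem.tail _ (List.Mem.tail _ (List.Mem.tail _ (List.Mem.tail _ (List.Mem.tail _ (List.Mem.tail _ (List.Mem.tail _ (List.Mem.tail _ (List.Mem.tail _ (List.Mem.tail _ (List.Mem.tail _ (List.Mem.tail _ (List.Mem.tail _ (List.Mem.tail _ (List.Mem.tail _ (List.Mem.tail _ (List.Mem.tail _ (List.Mem.tail _ (List.Mem.tail _ (List.Mem.tail _ (List.Mem.tail _ (List.Mem.tail _ (List.Mem.tail _ (List.Mem.tail _ (List.Mem.tail _ (List.Mem.tail _ (List.Mem.tail _ (List.Mem.tail _ (List.Mem.tail _ (List.Mem.tail _ (List.Mem.tail _ (List.Mem.tail _ (List.Mem.tail _ (List.Mem.tail _ (List.Mem.tail _ (List.Mem.tail _ (List.Mem.tail _ (List.Mem.tail _ (List.Mem.tail _ (List.Mem.tail _ (List.Mem.tail _ (List.Mem.tail _ (List.Mem.tail _ (List.Mem.tail _ (List.Mem.tail _ (List.Mem.tail _ (List.Mem.tail _ (List.Mem.tail _ (List.Mem.tail _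 (List.Mem.head _))))))))))))))))))))))))))))))))))))))))))))))))))))))
theorem m55 : xa * (xa * (xb * (xb * (xa * (xa * (xb * (xb * (xa * 1)))))))) ∈ L := by
  unfold L
  exact List.Mem.tail _ (List.Mem.tail _ (List.Mem.tail _ (List.Mem.tail _ (List.Mem.tail _ (List.Mem.tail _ (List.Mem.tail _ (List.Mem.tail _ (List.Mem.tail _ (List.Mem.tail _ (List.Mem.tail _ (List.Mem.tail _ (List.Mem.tail _ (List.Mem.tail _ (List.Mem.tail _ (List.Mem.tail _ (List.Mem.tail _ (List.Mem.tail _ (List.Mem.tail _ (List.Mem.tail _ (List.Mem.tail _ (List.Mem.tail _ (List.Mem.tail _ (List.Mem.tail _ (List.Mem.tail _ (List.Mem.tail _ (List.Mem.tail _ (List.Mem.tail _ (List.Mem.tail _ (List.Mem.tail _ (List.Mem.tail _ (List.Mem.tail _ (List.Mem.tail _ (List.Mem.tail _ (List.Mem.tail _ (List.Mem.tail _ (List.Mem.tail _ (List.Mem.tail _ (List.Mem.tail _ (List.Mem.tail _ (List.Mem.tail _ (List.Mem.tail _ (List.Mem.tail _ (List.Mem.tail _ (List.Mem.tail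 _ (List.Mem.tail _ (List.Mem.tail _ (List.Mem.tail _ (List.Mem.tail _ (List.Mem.tail _ (List.Mem.tail _ (List.Mem.tail _ (List.Mem.tail _ (List.Mem.tail _ (List.Mem.tail _ (List.Mem.head _)))))))))))))))))))))))))))))))))))))))))))))))))))))))
theorem m56 : xa * (xb * (xb * (xa * (xa * (xb * (xb * (xa * (xa * 1)))))))) ∈ L := by
  unfold L
  exact List.Mem.tail _ (List.Mem.tail _ (List.Mem.tail _ (List.Mem.tail _ (List.Mem.tail _ (List.Mem.tail _ (List.Mem.tail _ (List.Mem.tail _ (List.Mem.tail _ (List.Mem.tail _ (List.Mem.tail _ (List.Mem.tail _ (List.Mem.tail _ (List.Mem.tail _ (List.Mem.tail _ (List.Mem.tail _ (List.Mem.tail _ (List.Mem.tail _ (List.Mem.tail _ (List.Mem.tail _ (List.Mem.tail _ (List.Mem.tail _ (List.Mem.tail _ (List.Mem.tail _ (List.Mem.tail _ (List.Mem.tail _ (List.Mem.tail _ (List.Mem.tail _ (List.Mem.tail _ (List.Mem.tail _ (List.Mem.tail _ (List.Mem.tail _ (List.Mem.tail _ (List.Mem.tail _ (List.Mem.tail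 _ (List.Mem.tail _ (List.Mem.tail _ (List.Mem.tail _ (List.Mem.tail _ (List.Mem.tail _ (List.Mem.tail _ (List.Mem.tail _ (List.Mem.tail _ (List.Mem.tail _ (List.Mem.tail _ (List.Mem.tail _ (List.Mem.tail _ (List.Mem.tail _ (List.Mem.tail _ (List.Mem.tail _ (List.Mem.tail _ (List.Mem.tail _ (List.Mem.tail _ (List.Mem.tail _ (List.Mem.tail _ (List.Mem.tail _ (List.Mem.head _))))))))))))))))))))))))))))))))))))))))))))))))))))))))
theorem m57 : xb * (xa * (xa * (xb * (xb * (xa * (xa * (xb * (xb * 1)))))))) ∈ L := by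
  unfold L
  exact List.Mem.tail _ (List.Mem.tail _ (List.Mem.tail _ (List.Mem.tail _ (List.Mem.tail _ (List.Mem.tail _ (List.Mem.tail _ (List.Mem.tail _ (List.Mem.tail _ (List.Mem.tail _ (List.Mem.tail _ (List.Mem.tail _ (List.Mem.tail _ (List.Mem.tail _ (List.Mem.tail _ (List.Mem.tail _ (List.Mem.tail _ (List.Mem.tail _ (List.Mem.tail _ (List.Mem.tail _ (List.Mem.tail _ (List.Mem.tail _ (List.Mem.tail _ (List.Mem.tail _ (List.Mem.tail _ (List.Mem.tail _ (List.Mem.tail _ (List.Mem.tail _ (List.Mem.tail _ (List.Mem.tail _ (List.Mem.tail _ (List.Mem.tail _ (List.Mem.tail _ (List.Mem.tail _ (List.Mem.tail _ (List.Mem.tail _ (List.Mem.tail _ (List.Mem.tail _ (List.Mem.tail _ (List.Mem.tail _ (List.Mem.tail _ (List.Mem.tail _ (List.Mem.tail _ (List.Mem.tail _ (List.Mem.tail _ (List.Mem.tail _ (List.Mem.tail _ (List.Mem.tail _ (List.Mem.tail _ (List.Mem.tail _ (List.Mem.tail _ (List.Mem.tail _ (List.Mem.tail _ (List.Mem.tail _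 (List.Mem.tail _ (List.Mem.tail _ (List.Mem.tail _ (List.Mem.head _)))))))))))))))))))))))))))))))))))))))))))))))))))))))))
theorem m58 : xb * (xb * (xa * (xa * (xb * (xb * (xa * (xa * (xb * 1)))))))) ∈ L := by
  unfold L
  exact List.Mem.tail _ (List.Mem.tail _ (List.Mem.tail _ (List.Mem.tail _ (List.Mem.tail _ (List.Mem.tail _ (List.Mem.tail _ (List.Mem.tail _ (List.Mem.tail _ (List.Mem.tail _ (List.Mem.tail _ (List.Mem.tail _ (List.Mem.tail _ (List.Mem.tail _ (List.Mem.tail _ (List.Mem.tail _ (List.Mem.tail _ (List.Mem.tail _ (List.Mem.tail _ (List.Mem.tail _ (List.Mem.tail _ (List.Mem.tail _ (List.Mem.tail _ (List.Mem.tail _ (List.Mem.tail _ (List.Mem.tail _ (List.Mem.tail _ (List.Mem.tail _ (List.Mem.tail _ (List.Mem.tail _ (List.Mem.tail _ (List.Mem.tail _ (List.Mem.tail _ (List.Mem.tail _ (List.Mem.tail _ (List.Mem.tail _ (List.Mem.tail _ (List.Mem.tail _ (List.Mem.tail _ (List.Mem.tail _ (List.Mem.tail _ (List.Mem.tail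 _ (List.Mem.tail _ (List.Mem.tail _ (List.Mem.tail _ (List.Mem.tail _ (List.Mem.tail _ (List.Mem.tail _ (List.Mem.tail _ (List.Mem.tail _ (List.Mem.tail _ (List.Mem.tail _ (List.Mem.tail _ (List.Mem.tail _ (List.Mem.tail _ (List.Mem.tail _ (List.Mem.tail _ (List.Mem.tail _ (List.Mem.head _))))))))))))))))))))))))))))))))))))))))))))))))))))))))))
theorem m59 : xa * (xb * (xb * (xa * (xa * (xb * (xb * (xa * (xa * (xb * 1))))))))) ∈ L := by
  unfold L
  exact List.Mem.tail _ (List.Mem.tail _ (List.Mem.tail _ (List.Mem.tail _ (List.Mem.tail _ (List.Mem.tail _ (List.Mem.tail _ (List.Mem.tail _ (List.Mem.tail _ (List.Mem.tail _ (List.Mem.tail _ (List.Mem.tail _ (List.Mem.tail _ (List.Mem.tail _ (List.Mem.tail _ (List.Mem.tail _ (List.Mem.tail _ (List.Mem.tail _ (List.Mem.tail _ (List.Mem.tail _ (List.Mem.tail _ (List.Mem.tail _ (List.Mem.tail _ (List.Mem.tail _ (List.Mem.tail _ (List.Mem.tail _ (List.Mem.tail _ (List.Mem.tail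 _ (List.Mem.tail _ (List.Mem.tail _ (List.Mem.tail _ (List.Mem.tail _ (List.Mem.tail _ (List.Mem.tail _ (List.Mem.tail _ (List.Mem.tail _ (List.Mem.tail _ (List.Mem.tail _ (List.Mem.tail _ (List.Mem.tail _ (List.Mem.tail _ (List.Mem.tail _ (List.Mem.tail _ (List.Mem.tail _ (List.Mem.tail _ (List.Mem.tail _ (List.Mem.tail _ (List.Mem.tail _ (List.Mem.tail _ (List.Mem.tail _ (List.Mem.tail _ (List.Mem.tail _ (List.Mem.tail _ (List.Mem.tail _ (List.Mem.tail _ (List.Mem.tail _ (List.Mem.tail _ (List.Mem.tail _ (List.Mem.tail _ (List.Mem.head _)))))))))))))))))))))))))))))))))))))))))))))))))))))))))))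
theorem ea0 : xa * (1 : P) = xa * 1 :=
  rfl
theorem ha0 : xa * (1 : P) ∈ L := by
  rw [ea0]; exact m1
theorem ea1 : xa * (xa * 1) = xa * (xa * 1) :=
  rfl
theorem ha1 : xa * (xa * 1) ∈ L := by
  rw [ea1]; exact m3
theorem ea2 : xa * (xb * 1) = xa * (xb * 1) :=
  rfl
theorem ha2 : xa * (xb * 1) ∈ L := by
  rw [ea2]; exact m4
theorem ea3 : xa * (xa * (xa * 1)) = (1 : P) :=
  r0 1
theorem ha3 : xa * (xa * (xa * 1)) ∈ L := by
  rw [ea3]; exact m0
theorem ea4 : xa * (xa * (xb * 1)) = xa * (xa * (xb * 1)) :=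
  rfl
theorem ha4 : xa * (xa * (xb * 1)) ∈ L := by
  rw [ea4]; exact m7
theorem ea5 : xa * (xb * (xa * 1)) = xa * (xb * (xa * 1)) :=
  rfl
theorem ha5 : xa * (xb * (xa * 1)) ∈ L := by
  rw [ea5]; exact m8
theorem ea6 : xa * (xb * (xb * 1)) = xa * (xb * (xb * 1)) :=
  rfl
theorem ha6 : xa * (xb * (xb * 1)) ∈ L := by
  rw [ea6]; exact m9
theorem ea7 : xa * (xa * (xa * (xb * 1))) = xb * 1 :=
  r0 (xb * 1)
theorem ha7 : xa * (xa * (xa * (xb * 1))) ∈ L := by
  rw [ea7]; exact m2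
theorem ea8 : xa * (xa * (xb * (xa * 1))) = xa * (xa * (xb * (xa * 1))) :=
  rfl
theorem ha8 : xa * (xa * (xb * (xa * 1))) ∈ L := by
  rw [ea8]; exact m13
theorem ea9 : xa * (xa * (xb * (xb * 1))) = xa * (xa * (xb * (xb * 1))) :=
  rfl
theorem ha9 : xa * (xa * (xb * (xb * 1))) ∈ L := by
  rw [ea9]; exact m14
theorem ea10 : xa * (xb * (xa * (xa * 1))) = xa * (xb * (xa * (xa * 1))) :=
  rfl
theorem ha10 : xa * (xb * (xa * (xa * 1))) ∈ L := by
  rw [ea10]; exact m15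
theorem ea11 : xa * (xb * (xb * (xa * 1))) = xa * (xb * (xb * (xa * 1))) :=
  rfl
theorem ha11 : xa * (xb * (xb * (xa * 1))) ∈ L := by
  rw [ea11]; exact m16
theorem ea12 : xa * (xb * (xb * (xb * 1))) = xa * (xb * (xb * (xb * 1))) :=
  rfl
theorem ha12 : xa * (xb * (xb * (xb * 1))) ∈ L := by
  rw [ea12]; exact m17
theorem ea13 : xa * (xa * (xa * (xb * (xa * 1)))) = xb * (xa * 1) :=
  r0 (xb * (xa * 1))
theorem ha13 : xa * (xa * (xa * (xb * (xa * 1)))) ∈ L := by
  rw [ea13]; exact m5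
theorem ea14 : xa * (xa * (xa * (xb * (xb * 1)))) = xb * (xb * 1) :=
  r0 (xb * (xb * 1))
theorem ha14 : xa * (xa * (xa * (xb * (xb * 1)))) ∈ L := by
  rw [ea14]; exact m6
theorem ea15 : xa * (xa * (xb * (xa * (xa * 1)))) = xa * (xa * (xb * (xa * (xa * 1)))) :=
  rfl
theorem ha15 : xa * (xa * (xb * (xa * (xa * 1)))) ∈ L := by
  rw [ea15]; exact m21
theorem ea16 : xa * (xa * (xb * (xb * (xa * 1)))) = xa * (xa * (xb * (xb * (xa * 1)))) :=
  rfl
theorem ha16 : xa * (xa * (xb * (xb * (xa * 1)))) ∈ L := by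
  rw [ea16]; exact m22
theorem ea17 : xa * (xa * (xb * (xb * (xb * 1)))) = xa * (xa * (xb * (xb * (xb * 1)))) :=
  rfl
theorem ha17 : xa * (xa * (xb * (xb * (xb * 1)))) ∈ L := by
  rw [ea17]; exact m23
theorem ea18 : xa * (xb * (xa * (xa * (xb * 1)))) = xa * (xb * (xa * (xa * (xb * 1)))) :=
  rfl
theorem ha18 : xa * (xb * (xa * (xa * (xb * 1)))) ∈ L := by
  rw [ea18]; exact m24
theorem ea19 : xa * (xb * (xb * (xa * (xa * 1)))) = xa * (xb * (xb * (xa * (xa * 1)))) :=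
  rfl
theorem ha19 : xa * (xb * (xb * (xa * (xa * 1)))) ∈ L := by
  rw [ea19]; exact m25
theorem ea20 : xa * (xb * (xb * (xb * (xa * 1)))) = xa * (xb * (xb * (xb * (xa * 1)))) :=
  rfl
theorem ha20 : xa * (xb * (xb * (xb * (xa * 1)))) ∈ L := by
  rw [ea20]; exact m26
theorem ea21 : xa * (xa * (xa * (xb * (xa * (xa * 1))))) = xb * (xa * (xa * 1)) :=
  r0 (xb * (xa * (xa * 1)))
theorem ha21 : xa * (xa * (xa * (xb * (xa * (xa * 1))))) ∈ L := by
  rw [ea21]; exact m10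
theorem ea22 : xa * (xa * (xa * (xb * (xb * (xa * 1))))) = xb * (xb * (xa * 1)) :=
  r0 (xb * (xb * (xa * 1)))
theorem ha22 : xa * (xa * (xa * (xb * (xb * (xa * 1))))) ∈ L := by
  rw [ea22]; exact m11
theorem ea23 : xa * (xa * (xa * (xb * (xb * (xb * 1))))) = xb * (xb * (xb * 1)) :=
  r0 (xb * (xb * (xb * 1)))
theorem ha23 : xa * (xa * (xa * (xb * (xb * (xb * 1))))) ∈ L := by
  rw [ea23]; exact m12
theorem ea24 : xa * (xa * (xb * (xa * (xa * (xb * 1))))) = xa * (xa * (xb * (xa * (xa * (xb * 1))))) :=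
  rfl
theorem ha24 : xa * (xa * (xb * (xa * (xa * (xb * 1))))) ∈ L := by
  rw [ea24]; exact m29
theorem ea25 : xa * (xa * (xb * (xb * (xa * (xa * 1))))) = xa * (xa * (xb * (xb * (xa * (xa * 1))))) :=
  rfl
theorem ha25 : xa * (xa * (xb * (xb * (xa * (xa * 1))))) ∈ L := by
  rw [ea25]; exact m30
theorem ea26 : xa * (xa * (xb * (xb * (xb * (xa * 1))))) = xa * (xa * (xb * (xb * (xb * (xa * 1))))) :=
  rfl
theorem ha26 : xa * (xa * (xb * (xb * (xb * (xa * 1))))) ∈ L := by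
  rw [ea26]; exact m31
theorem ea27 : xa * (xb * (xa * (xa * (xb * (xb * 1))))) = xa * (xb * (xa * (xa * (xb * (xb * 1))))) :=
  rfl
theorem ha27 : xa * (xb * (xa * (xa * (xb * (xb * 1))))) ∈ L := by
  rw [ea27]; exact m32
theorem ea28 : xa * (xb * (xb * (xa * (xa * (xb * 1))))) = xa * (xb * (xb * (xa * (xa * (xb * 1))))) :=
  rfl
theorem ha28 : xa * (xb * (xb * (xa * (xa * (xb * 1))))) ∈ L := by
  rw [ea28]; exact m33
theorem ea29 : xa * (xa * (xa * (xb * (xa * (xa * (xb * 1)))))) = xb * (xa * (xa * (xb * 1))) :=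
  r0 (xb * (xa * (xa * (xb * 1))))
theorem ha29 : xa * (xa * (xa * (xb * (xa * (xa * (xb * 1)))))) ∈ L := by
  rw [ea29]; exact m18
theorem ea30 : xa * (xa * (xa * (xb * (xb * (xa * (xa * 1)))))) = xb * (xb * (xa * (xa * 1))) :=
  r0 (xb * (xb * (xa * (xa * 1))))
theorem ha30 : xa * (xa * (xa * (xb * (xb * (xa * (xa * 1)))))) ∈ L := by
  rw [ea30]; exact m19
theorem ea31 : xa * (xa * (xa * (xb * (xb * (xb * (xa * 1)))))) = xb * (xb * (xb * (xa * 1))) :=
  r0 (xb * (xb * (xb * (xa * 1))))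
theorem ha31 : xa * (xa * (xa * (xb * (xb * (xb * (xa * 1)))))) ∈ L := by
  rw [ea31]; exact m20
theorem ea32 : xa * (xa * (xb * (xa * (xa * (xb * (xb * 1)))))) = xa * (xa * (xb * (xa * (xa * (xb * (xb * 1)))))) :=
  rfl
theorem ha32 : xa * (xa * (xb * (xa * (xa * (xb * (xb * 1)))))) ∈ L := by
  rw [ea32]; exact m37
theorem ea33 : xa * (xa * (xb * (xb * (xa * (xa * (xb * 1)))))) = xa * (xa * (xb * (xb * (xa * (xa * (xb * 1)))))) :=
  rfl
theorem ha33 : xa * (xa * (xb * (xb * (xa * (xa * (xb * 1)))))) ∈ L := by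
  rw [ea33]; exact m38
theorem ea34 : xa * (xb * (xa * (xa * (xb * (xb * (xa * 1)))))) = xa * (xb * (xa * (xa * (xb * (xb * (xa * 1)))))) :=
  rfl
theorem ha34 : xa * (xb * (xa * (xa * (xb * (xb * (xa * 1)))))) ∈ L := by
  rw [ea34]; exact m39
theorem ea35 : xa * (xb * (xa * (xa * (xb * (xb * (xb * 1)))))) = xa * (xb * (xa * (xa * (xb * (xb * (xb * 1)))))) :=
  rfl
theorem ha35 : xa * (xb * (xa * (xa * (xb * (xb * (xb * 1)))))) ∈ L := by
  rw [ea35]; exact m40
theorem ea36 : xa * (xb * (xb * (xa * (xa * (xb * (xb * 1)))))) = xa * (xb * (xb * (xa * (xa * (xb * (xb * 1)))))) :=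
  rfl
theorem ha36 : xa * (xb * (xb * (xa * (xa * (xb * (xb * 1)))))) ∈ L := by
  rw [ea36]; exact m41
theorem ea37 : xa * (xa * (xa * (xb * (xa * (xa * (xb * (xb * 1))))))) = xb * (xa * (xa * (xb * (xb * 1)))) :=
  r0 (xb * (xa * (xa * (xb * (xb * 1)))))
theorem ha37 : xa * (xa * (xa * (xb * (xa * (xa * (xb * (xb * 1))))))) ∈ L := by
  rw [ea37]; exact m27
theorem ea38 : xa * (xa * (xa * (xb * (xb * (xa * (xa * (xb * 1))))))) = xb * (xb * (xa * (xa * (xb * 1)))) :=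
  r0 (xb * (xb * (xa * (xa * (xb * 1)))))
theorem ha38 : xa * (xa * (xa * (xb * (xb * (xa * (xa * (xb * 1))))))) ∈ L := by
  rw [ea38]; exact m28
theorem ea39 : xa * (xa * (xb * (xa * (xa * (xb * (xb * (xa * 1))))))) = xa * (xa * (xb * (xa * (xa * (xb * (xb * (xa * 1))))))) :=
  rfl
theorem ha39 : xa * (xa * (xb * (xa * (xa * (xb * (xb * (xa * 1))))))) ∈ L := by
  rw [ea39]; exact m45
theorem ea40 : xa * (xa * (xb * (xa * (xa * (xb * (xb * (xb * 1))))))) = xa * (xa * (xb * (xa * (xa * (xb * (xb * (xb * 1))))))) :=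
  rfl
theorem ha40 : xa * (xa * (xb * (xa * (xa * (xb * (xb * (xb * 1))))))) ∈ L := by
  rw [ea40]; exact m46
theorem ea41 : xa * (xa * (xb * (xb * (xa * (xa * (xb * (xb * 1))))))) = xa * (xa * (xb * (xb * (xa * (xa * (xb * (xb * 1))))))) :=
  rfl
theorem ha41 : xa * (xa * (xb * (xb * (xa * (xa * (xb * (xb * 1))))))) ∈ L := by
  rw [ea41]; exact m47
theorem ea42 : xa * (xb * (xa * (xa * (xb * (xb * (xa * (xa * 1))))))) = xa * (xb * (xa * (xa * (xb * (xb * (xa * (xa * 1))))))) :=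
  rfl
theorem ha42 : xa * (xb * (xa * (xa * (xb * (xb * (xa * (xa * 1))))))) ∈ L := by
  rw [ea42]; exact m48
theorem ea43 : xa * (xb * (xa * (xa * (xb * (xb * (xb * (xa * 1))))))) = xa * (xb * (xa * (xa * (xb * (xb * (xb * (xa * 1))))))) :=
  rfl
theorem ha43 : xa * (xb * (xa * (xa * (xb * (xb * (xb * (xa * 1))))))) ∈ L := by
  rw [ea43]; exact m49
theorem ea44 : xa * (xb * (xb * (xa * (xa * (xb * (xb * (xa * 1))))))) = xa * (xb * (xb * (xa * (xa * (xb * (xb * (xa * 1))))))) :=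
  rfl
theorem ha44 : xa * (xb * (xb * (xa * (xa * (xb * (xb * (xa * 1))))))) ∈ L := by
  rw [ea44]; exact m50
theorem ea45 : xa * (xa * (xa * (xb * (xa * (xa * (xb * (xb * (xa * 1)))))))) = xb * (xa * (xa * (xb * (xb * (xa * 1))))) :=
  r0 (xb * (xa * (xa * (xb * (xb * (xa * 1))))))
theorem ha45 : xa * (xa * (xa * (xb * (xa * (xa * (xb * (xb * (xa * 1)))))))) ∈ L := by
  rw [ea45]; exact m34
theorem ea46 : xa * (xa * (xa * (xb * (xa * (xa * (xb * (xb * (xb * 1)))))))) = xb * (xa * (xa * (xb * (xb * (xb * 1))))) :=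
  r0 (xb * (xa * (xa * (xb * (xb * (xb * 1))))))
theorem ha46 : xa * (xa * (xa * (xb * (xa * (xa * (xb * (xb * (xb * 1)))))))) ∈ L := by
  rw [ea46]; exact m35
theorem ea47 : xa * (xa * (xa * (xb * (xb * (xa * (xa * (xb * (xb * 1)))))))) = xb * (xb * (xa * (xa * (xb * (xb * 1))))) :=
  r0 (xb * (xb * (xa * (xa * (xb * (xb * 1))))))
theorem ha47 : xa * (xa * (xa * (xb * (xb * (xa * (xa * (xb * (xb * 1)))))))) ∈ L := by
  rw [ea47]; exact m36
theorem ea48 : xa * (xa * (xb * (xa * (xa * (xb * (xb * (xa * (xa * 1)))))))) = xa * (xa * (xb * (xa * (xa * (xb * (xb * (xa * (xa * 1)))))))) :=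
  rfl
theorem ha48 : xa * (xa * (xb * (xa * (xa * (xb * (xb * (xa * (xa * 1)))))))) ∈ L := by
  rw [ea48]; exact m53
theorem ea49 : xa * (xa * (xb * (xa * (xa * (xb * (xb * (xb * (xa * 1)))))))) = xa * (xa * (xb * (xa * (xa * (xb * (xb * (xb * (xa * 1)))))))) :=
  rfl
theorem ha49 : xa * (xa * (xb * (xa * (xa * (xb * (xb * (xb * (xa * 1)))))))) ∈ L := by
  rw [ea49]; exact m54
theorem ea50 : xa * (xa * (xb * (xb * (xa * (xa * (xb * (xb * (xa * 1)))))))) = xa * (xa * (xb * (xb * (xa * (xa * (xb * (xb * (xa * 1)))))))) :=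
  rfl
theorem ha50 : xa * (xa * (xb * (xb * (xa * (xa * (xb * (xb * (xa * 1)))))))) ∈ L := by
  rw [ea50]; exact m55
theorem ea51 : xa * (xb * (xa * (xa * (xb * (xb * (xa * (xa * (xb * 1)))))))) = xb * (xb * (xa * (xa * (xb * (xb * (xa * (xa * 1))))))) :=
  r9 1
theorem ha51 : xa * (xb * (xa * (xa * (xb * (xb * (xa * (xa * (xb * 1)))))))) ∈ L := by
  rw [ea51]; exact m52
theorem ea52 : xa * (xb * (xb * (xa * (xa * (xb * (xb * (xa * (xa * 1)))))))) = xa * (xb * (xb * (xa * (xa * (xb * (xb * (xa * (xa * 1)))))))) :=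
  rfl
theorem ha52 : xa * (xb * (xb * (xa * (xa * (xb * (xb * (xa * (xa * 1)))))))) ∈ L := by
  rw [ea52]; exact m56
theorem ea53 : xa * (xa * (xa * (xb * (xa * (xa * (xb * (xb * (xa * (xa * 1))))))))) = xb * (xa * (xa * (xb * (xb * (xa * (xa * 1)))))) :=
  r0 (xb * (xa * (xa * (xb * (xb * (xa * (xa * 1)))))))
theorem ha53 : xa * (xa * (xa * (xb * (xa * (xa * (xb * (xb * (xa * (xa * 1))))))))) ∈ L := by
  rw [ea53]; exact m42
theorem ea54 : xa * (xa * (xa * (xb * (xa * (xa * (xb * (xb * (xb * (xa * 1))))))))) = xb * (xa * (xa * (xb * (xb * (xb * (xa * 1)))))) :=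
  r0 (xb * (xa * (xa * (xb * (xb * (xb * (xa * 1)))))))
theorem ha54 : xa * (xa * (xa * (xb * (xa * (xa * (xb * (xb * (xb * (xa * 1))))))))) ∈ L := by
  rw [ea54]; exact m43
theorem ea55 : xa * (xa * (xa * (xb * (xb * (xa * (xa * (xb * (xb * (xa * 1))))))))) = xb * (xb * (xa * (xa * (xb * (xb * (xa * 1)))))) :=
  r0 (xb * (xb * (xa * (xa * (xb * (xb * (xa * 1)))))))
theorem ha55 : xa * (xa * (xa * (xb * (xb * (xa * (xa * (xb * (xb * (xa * 1))))))))) ∈ L := by
  rw [ea55]; exact m44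
theorem ea56 : xa * (xa * (xb * (xb * (xa * (xa * (xb * (xb * (xa * (xa * 1))))))))) = xb * (xa * (xa * (xb * (xb * (xa * (xa * (xb * 1))))))) :=
  r10 1
theorem ha56 : xa * (xa * (xb * (xb * (xa * (xa * (xb * (xb * (xa * (xa * 1))))))))) ∈ L := by
  rw [ea56]; exact m51
theorem ea57 : xa * (xb * (xa * (xa * (xb * (xb * (xa * (xa * (xb * (xb * 1))))))))) = xb * (xb * (xa * (xa * (xb * (xb * (xa * (xa * (xb * 1)))))))) :=
  r9 (xb * 1)
theorem ha57 : xa * (xb * (xa * (xa * (xb * (xb * (xa * (xa * (xb * (xb * 1))))))))) ∈ L := by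
  rw [ea57]; exact m58
theorem ea58 : xa * (xb * (xb * (xa * (xa * (xb * (xb * (xa * (xa * (xb * 1))))))))) = xa * (xb * (xb * (xa * (xa * (xb * (xb * (xa * (xa * (xb * 1))))))))) :=
  rfl
theorem ha58 : xa * (xb * (xb * (xa * (xa * (xb * (xb * (xa * (xa * (xb * 1))))))))) ∈ L := by
  rw [ea58]; exact m59
theorem ea59 : xa * (xa * (xb * (xb * (xa * (xa * (xb * (xb * (xa * (xa * (xb * 1)))))))))) = xb * (xa * (xa * (xb * (xb * (xa * (xa * (xb * (xb * 1)))))))) :=
  r10 (xb * 1)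
theorem ha59 : xa * (xa * (xb * (xb * (xa * (xa * (xb * (xb * (xa * (xa * (xb * 1)))))))))) ∈ L := by
  rw [ea59]; exact m57
theorem La : ∀ x ∈ L, xa * x ∈ L := by
  unfold L
  exact (fc (p := fun y => xa * y ∈ L) ha0 (fc (p := fun y => xa * y ∈ L) ha1 (fc (p := fun y => xa * y ∈ L) ha2 (fc (p := fun y => xa * y ∈ L) ha3 (fc (p := fun y => xa * y ∈ L) ha4 (fc (p := fun y => xa * y ∈ L) ha5 (fc (p := fun y => xa * y ∈ L) ha6 (fc (p := fun y => xa * y ∈ L) ha7 (fc (p := fun y => xa * y ∈ L) ha8 (fc (p := fun y => xa * y ∈ L) ha9 (fc (p := fun y => xa * y ∈ L) ha10 (fc (p := fun y => xa * y ∈ L) ha11 (fc (p := fun y => xa * y ∈ L) ha12 (fc (p := fun y => xa * y ∈ L) ha13 (fc (p := fun y => xa * y ∈ L) ha14 (fc (p := fun y => xa * y ∈ L) ha15 (fc (p := fun y => xa * y ∈ L) ha16 (fc (p := fun y => xa * y ∈ L) ha17 (fc (p := fun y => xa * y ∈ L) ha18 (fc (p := fun y => xa * y ∈ L) ha19 (fc (p := fun y => xa * y ∈ L) ha20 (fc (p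 := fun y => xa * y ∈ L) ha21 (fc (p := fun y => xa * y ∈ L) ha22 (fc (p := fun y => xa * y ∈ L) ha23 (fc (p := fun y => xa * y ∈ L) ha24 (fc (p := fun y => xa * y ∈ L) ha25 (fc (p := fun y => xa * y ∈ L) ha26 (fc (p := fun y => xa * y ∈ L) ha27 (fc (p := fun y => xa * y ∈ L) ha28 (fc (p := fun y => xa * y ∈ L) ha29 (fc (p := fun y => xa * y ∈ L) ha30 (fc (p := fun y => xa * y ∈ L) ha31 (fc (p := fun y => xa * y ∈ L) ha32 (fc (p := fun y => xa * y ∈ L) ha33 (fc (p := fun y => xa * y ∈ L) ha34 (fc (p := fun y => xa * y ∈ L) ha35 (fc (p := fun y => xa * y ∈ L) ha36 (fc (p := fun y => xa * y ∈ L) ha37 (fc (p := fun y => xa * y ∈ L) ha38 (fc (p := fun y => xa * y ∈ L) ha39 (fc (p := fun y => xa * y ∈ L) ha40 (fc (p := fun y => xa * y ∈ L) ha41 (fc (p := fun y => xa * y ∈ L) ha42 (fc (p := fun y => xa * y ∈ L) ha43 (fc (p := fun y => xa * y ∈ L) ha44 (fc (p := fun y => xa * y ∈ L) ha45 (fc (p := fun y => xa * y ∈ L) ha46 (fc (p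 := fun y => xa * y ∈ L) ha47 (fc (p := fun y => xa * y ∈ L) ha48 (fc (p := fun y => xa * y ∈ L) ha49 (fc (p := fun y => xa * y ∈ L) ha50 (fc (p := fun y => xa * y ∈ L) ha51 (fc (p := fun y => xa * y ∈ L) ha52 (fc (p := fun y => xa * y ∈ L) ha53 (fc (p := fun y => xa * y ∈ L) ha54 (fc (p := fun y => xa * y ∈ L) ha55 (fc (p := fun y => xa * y ∈ L) ha56 (fc (p := fun y => xa * y ∈ L) ha57 (fc (p := fun y => xa * y ∈ L) ha58 (fc (p := fun y => xa * y ∈ L) ha59 (fun y hy => absurd hy List.not_mem_nil)))))))))))))))))))))))))))))))))))))))))))))))))))))))))))))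
theorem eb0 : xb * (1 : P) = xb * 1 :=
  rfl
theorem hb0 : xb * (1 : P) ∈ L := by
  rw [eb0]; exact m2
theorem eb1 : xb * (xa * 1) = xb * (xa * 1) :=
  rfl
theorem hb1 : xb * (xa * 1) ∈ L := by
  rw [eb1]; exact m5
theorem eb2 : xb * (xb * 1) = xb * (xb * 1) :=
  rfl
theorem hb2 : xb * (xb * 1) ∈ L := by
  rw [eb2]; exact m6
theorem eb3 : xb * (xa * (xa * 1)) = xb * (xa * (xa * 1)) :=
  rfl
theorem hb3 : xb * (xa * (xa * 1)) ∈ L := by
  rw [eb3]; exact m10
theorem eb4 : xb * (xa * (xb * 1)) = xa * (xa * 1) :=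
  r3 1
theorem hb4 : xb * (xa * (xb * 1)) ∈ L := by
  rw [eb4]; exact m3
theorem eb5 : xb * (xb * (xa * 1)) = xb * (xb * (xa * 1)) :=
  rfl
theorem hb5 : xb * (xb * (xa * 1)) ∈ L := by
  rw [eb5]; exact m11
theorem eb6 : xb * (xb * (xb * 1)) = xb * (xb * (xb * 1)) :=
  rfl
theorem hb6 : xb * (xb * (xb * 1)) ∈ L := by
  rw [eb6]; exact m12
theorem eb7 : xb * (xa * (xa * (xb * 1))) = xb * (xa * (xa * (xb * 1))) :=
  rfl
theorem hb7 : xb * (xa * (xa * (xb * 1))) ∈ L := by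
  rw [eb7]; exact m18
theorem eb8 : xb * (xa * (xb * (xa * 1))) = (1 : P) :=
  (r3 (xa * 1)).trans (r0 1)
theorem hb8 : xb * (xa * (xb * (xa * 1))) ∈ L := by
  rw [eb8]; exact m0
theorem eb9 : xb * (xa * (xb * (xb * 1))) = xa * (xa * (xb * 1)) :=
  r3 (xb * 1)
theorem hb9 : xb * (xa * (xb * (xb * 1))) ∈ L := by
  rw [eb9]; exact m7
theorem eb10 : xb * (xb * (xa * (xa * 1))) = xb * (xb * (xa * (xa * 1))) :=
  rfl
theorem hb10 : xb * (xb * (xa * (xa * 1))) ∈ L := by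
  rw [eb10]; exact m19
theorem eb11 : xb * (xb * (xb * (xa * 1))) = xb * (xb * (xb * (xa * 1))) :=
  rfl
theorem hb11 : xb * (xb * (xb * (xa * 1))) ∈ L := by
  rw [eb11]; exact m20
theorem eb12 : xb * (xb * (xb * (xb * 1))) = xa * (xb * (xa * 1)) :=
  r4 1
theorem hb12 : xb * (xb * (xb * (xb * 1))) ∈ L := by
  rw [eb12]; exact m8
theorem eb13 : xb * (xa * (xa * (xb * (xa * 1)))) = xa * (xa * (xb * (xb * (xb * 1)))) :=
  r7 1
theorem hb13 : xb * (xa * (xa * (xb * (xa * 1)))) ∈ L := by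
  rw [eb13]; exact m23
theorem eb14 : xb * (xa * (xa * (xb * (xb * 1)))) = xb * (xa * (xa * (xb * (xb * 1)))) :=
  rfl
theorem hb14 : xb * (xa * (xa * (xb * (xb * 1)))) ∈ L := by
  rw [eb14]; exact m27
theorem eb15 : xb * (xa * (xb * (xa * (xa * 1)))) = xa * 1 :=
  (r3 (xa * (xa * 1))).trans (r0 (xa * 1))
theorem hb15 : xb * (xa * (xb * (xa * (xa * 1)))) ∈ L := by
  rw [eb15]; exact m1
theorem eb16 : xb * (xa * (xb * (xb * (xa * 1)))) = xa * (xa * (xb * (xa * 1))) :=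
  r3 (xb * (xa * 1))
theorem hb16 : xb * (xa * (xb * (xb * (xa * 1)))) ∈ L := by
  rw [eb16]; exact m13
theorem eb17 : xb * (xa * (xb * (xb * (xb * 1)))) = xa * (xa * (xb * (xb * 1))) :=
  r3 (xb * (xb * 1))
theorem hb17 : xb * (xa * (xb * (xb * (xb * 1)))) ∈ L := by
  rw [eb17]; exact m14
theorem eb18 : xb * (xb * (xa * (xa * (xb * 1)))) = xb * (xb * (xa * (xa * (xb * 1)))) :=
  rfl
theorem hb18 : xb * (xb * (xa * (xa * (xb * 1)))) ∈ L := by
  rw [eb18]; exact m28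
theorem eb19 : xb * (xb * (xb * (xa * (xa * 1)))) = xa * (xb * (xa * (xa * (xb * 1)))) :=
  r6 1
theorem hb19 : xb * (xb * (xb * (xa * (xa * 1)))) ∈ L := by
  rw [eb19]; exact m24
theorem eb20 : xb * (xb * (xb * (xb * (xa * 1)))) = xa * (xb * (xa * (xa * 1))) :=
  r4 (xa * 1)
theorem hb20 : xb * (xb * (xb * (xb * (xa * 1)))) ∈ L := by
  rw [eb20]; exact m15
theorem eb21 : xb * (xa * (xa * (xb * (xa * (xa * 1))))) = xa * (xa * (xb * (xb * (xb * (xa * 1))))) :=
  r7 (xa * 1)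
theorem hb21 : xb * (xa * (xa * (xb * (xa * (xa * 1))))) ∈ L := by
  rw [eb21]; exact m31
theorem eb22 : xb * (xa * (xa * (xb * (xb * (xa * 1))))) = xb * (xa * (xa * (xb * (xb * (xa * 1))))) :=
  rfl
theorem hb22 : xb * (xa * (xa * (xb * (xb * (xa * 1))))) ∈ L := by
  rw [eb22]; exact m34
theorem eb23 : xb * (xa * (xa * (xb * (xb * (xb * 1))))) = xb * (xa * (xa * (xb * (xb * (xb * 1))))) :=
  rfl
theorem hb23 : xb * (xa * (xa * (xb * (xb * (xb * 1))))) ∈ L := by
  rw [eb23]; exact m35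
theorem eb24 : xb * (xa * (xb * (xa * (xa * (xb * 1))))) = xa * (xb * 1) :=
  (r3 (xa * (xa * (xb * 1)))).trans (r0 (xa * (xb * 1)))
theorem hb24 : xb * (xa * (xb * (xa * (xa * (xb * 1))))) ∈ L := by
  rw [eb24]; exact m4
theorem eb25 : xb * (xa * (xb * (xb * (xa * (xa * 1))))) = xa * (xa * (xb * (xa * (xa * 1)))) :=
  r3 (xb * (xa * (xa * 1)))
theorem hb25 : xb * (xa * (xb * (xb * (xa * (xa * 1))))) ∈ L := by
  rw [eb25]; exact m21
theorem eb26 : xb * (xa * (xb * (xb * (xb * (xa * 1))))) = xa * (xa * (xb * (xb * (xa * 1)))) :=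
  r3 (xb * (xb * (xa * 1)))
theorem hb26 : xb * (xa * (xb * (xb * (xb * (xa * 1))))) ∈ L := by
  rw [eb26]; exact m22
theorem eb27 : xb * (xb * (xa * (xa * (xb * (xb * 1))))) = xb * (xb * (xa * (xa * (xb * (xb * 1))))) :=
  rfl
theorem hb27 : xb * (xb * (xa * (xa * (xb * (xb * 1))))) ∈ L := by
  rw [eb27]; exact m36
theorem eb28 : xb * (xb * (xb * (xa * (xa * (xb * 1))))) = xa * (xb * (xa * (xa * (xb * (xb * 1))))) :=
  r6 (xb * 1)
theorem hb28 : xb * (xb * (xb * (xa * (xa * (xb * 1))))) ∈ L := by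
  rw [eb28]; exact m32
theorem eb29 : xb * (xa * (xa * (xb * (xa * (xa * (xb * 1)))))) = xa * (xa * (xb * (xb * (xa * (xa * 1))))) :=
  (r7 (xa * (xb * 1))).trans (congrArg (fun z => xa * (xa * (xb * (xb * z)))) (r3 1))
theorem hb29 : xb * (xa * (xa * (xb * (xa * (xa * (xb * 1)))))) ∈ L := by
  rw [eb29]; exact m30
theorem eb30 : xb * (xa * (xa * (xb * (xb * (xa * (xa * 1)))))) = xb * (xa * (xa * (xb * (xb * (xa * (xa * 1)))))) :=
  rfl
theorem hb30 : xb * (xa * (xa * (xb * (xb * (xa * (xa * 1)))))) ∈ L := by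
  rw [eb30]; exact m42
theorem eb31 : xb * (xa * (xa * (xb * (xb * (xb * (xa * 1)))))) = xb * (xa * (xa * (xb * (xb * (xb * (xa * 1)))))) :=
  rfl
theorem hb31 : xb * (xa * (xa * (xb * (xb * (xb * (xa * 1)))))) ∈ L := by
  rw [eb31]; exact m43
theorem eb32 : xb * (xa * (xb * (xa * (xa * (xb * (xb * 1)))))) = xa * (xb * (xb * 1)) :=
  (r3 (xa * (xa * (xb * (xb * 1))))).trans (r0 (xa * (xb * (xb * 1))))
theorem hb32 : xb * (xa * (xb * (xa * (xa * (xb * (xb * 1)))))) ∈ L := by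
  rw [eb32]; exact m9
theorem eb33 : xb * (xa * (xb * (xb * (xa * (xa * (xb * 1)))))) = xa * (xa * (xb * (xa * (xa * (xb * 1))))) :=
  r3 (xb * (xa * (xa * (xb * 1))))
theorem hb33 : xb * (xa * (xb * (xb * (xa * (xa * (xb * 1)))))) ∈ L := by
  rw [eb33]; exact m29
theorem eb34 : xb * (xb * (xa * (xa * (xb * (xb * (xa * 1)))))) = xb * (xb * (xa * (xa * (xb * (xb * (xa * 1)))))) :=
  rfl
theorem hb34 : xb * (xb * (xa * (xa * (xb * (xb * (xa * 1)))))) ∈ L := by
  rw [eb34]; exact m44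
theorem eb35 : xb * (xb * (xa * (xa * (xb * (xb * (xb * 1)))))) = xa * (xb * (xa * (xa * (xb * (xb * (xa * 1)))))) :=
  r8 1
theorem hb35 : xb * (xb * (xa * (xa * (xb * (xb * (xb * 1)))))) ∈ L := by
  rw [eb35]; exact m39
theorem eb36 : xb * (xb * (xb * (xa * (xa * (xb * (xb * 1)))))) = xa * (xb * (xa * (xa * (xb * (xb * (xb * 1)))))) :=
  r6 (xb * (xb * 1))
theorem hb36 : xb * (xb * (xb * (xa * (xa * (xb * (xb * 1)))))) ∈ L := by
  rw [eb36]; exact m40
theorem eb37 : xb * (xa * (xa * (xb * (xa * (xa * (xb * (xb * 1))))))) = xa * (xa * (xb * (xb * (xa * (xa * (xb * 1)))))) :=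
  (r7 (xa * (xb * (xb * 1)))).trans (congrArg (fun z => xa * (xa * (xb * (xb * z)))) (r3 (xb * 1)))
theorem hb37 : xb * (xa * (xa * (xb * (xa * (xa * (xb * (xb * 1))))))) ∈ L := by
  rw [eb37]; exact m38
theorem eb38 : xb * (xa * (xa * (xb * (xb * (xa * (xa * (xb * 1))))))) = xb * (xa * (xa * (xb * (xb * (xa * (xa * (xb * 1))))))) :=
  rfl
theorem hb38 : xb * (xa * (xa * (xb * (xb * (xa * (xa * (xb * 1))))))) ∈ L := by
  rw [eb38]; exact m51
theorem eb39 : xb * (xa * (xb * (xa * (xa * (xb * (xb * (xa * 1))))))) = xa * (xb * (xb * (xa * 1))) :=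
  (r3 (xa * (xa * (xb * (xb * (xa * 1)))))).trans (r0 (xa * (xb * (xb * (xa * 1)))))
theorem hb39 : xb * (xa * (xb * (xa * (xa * (xb * (xb * (xa * 1))))))) ∈ L := by
  rw [eb39]; exact m16
theorem eb40 : xb * (xa * (xb * (xa * (xa * (xb * (xb * (xb * 1))))))) = xa * (xb * (xb * (xb * 1))) :=
  (r3 (xa * (xa * (xb * (xb * (xb * 1)))))).trans (r0 (xa * (xb * (xb * (xb * 1)))))
theorem hb40 : xb * (xa * (xb * (xa * (xa * (xb * (xb * (xb * 1))))))) ∈ L := by
  rw [eb40]; exact m17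
theorem eb41 : xb * (xa * (xb * (xb * (xa * (xa * (xb * (xb * 1))))))) = xa * (xa * (xb * (xa * (xa * (xb * (xb * 1)))))) :=
  r3 (xb * (xa * (xa * (xb * (xb * 1)))))
theorem hb41 : xb * (xa * (xb * (xb * (xa * (xa * (xb * (xb * 1))))))) ∈ L := by
  rw [eb41]; exact m37
theorem eb42 : xb * (xb * (xa * (xa * (xb * (xb * (xa * (xa * 1))))))) = xb * (xb * (xa * (xa * (xb * (xb * (xa * (xa * 1))))))) :=
  rfl
theorem hb42 : xb * (xb * (xa * (xa * (xb * (xb * (xa * (xa * 1))))))) ∈ L := by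
  rw [eb42]; exact m52
theorem eb43 : xb * (xb * (xa * (xa * (xb * (xb * (xb * (xa * 1))))))) = xa * (xb * (xa * (xa * (xb * (xb * (xa * (xa * 1))))))) :=
  r8 (xa * 1)
theorem hb43 : xb * (xb * (xa * (xa * (xb * (xb * (xb * (xa * 1))))))) ∈ L := by
  rw [eb43]; exact m48
theorem eb44 : xb * (xb * (xb * (xa * (xa * (xb * (xb * (xa * 1))))))) = xa * (xb * (xa * (xa * (xb * (xb * (xb * (xa * 1))))))) :=
  r6 (xb * (xb * (xa * 1)))
theorem hb44 : xb * (xb * (xb * (xa * (xa * (xb * (xb * (xa * 1))))))) ∈ L := by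
  rw [eb44]; exact m49
theorem eb45 : xb * (xa * (xa * (xb * (xa * (xa * (xb * (xb * (xa * 1)))))))) = xa * (xa * (xb * (xa * (xa * (xb * (xb * (xb * 1))))))) :=
  (r7 (xa * (xb * (xb * (xa * 1))))).trans ((congrArg (fun z => xa * (xa * (xb * (xb * z)))) (r3 (xb * (xa * 1)))).trans (congrArg (fun z => xa * (xa * (xb * z))) (r7 1)))
theorem hb45 : xb * (xa * (xa * (xb * (xa * (xa * (xb * (xb * (xa * 1)))))))) ∈ L := by
  rw [eb45]; exact m46
theorem eb46 : xb * (xa * (xa * (xb * (xa * (xa * (xb * (xb * (xb * 1)))))))) = xa * (xa * (xb * (xb * (xa * (xa * (xb * (xb * 1))))))) :=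
  (r7 (xa * (xb * (xb * (xb * 1))))).trans (congrArg (fun z => xa * (xa * (xb * (xb * z)))) (r3 (xb * (xb * 1))))
theorem hb46 : xb * (xa * (xa * (xb * (xa * (xa * (xb * (xb * (xb * 1)))))))) ∈ L := by
  rw [eb46]; exact m47
theorem eb47 : xb * (xa * (xa * (xb * (xb * (xa * (xa * (xb * (xb * 1)))))))) = xb * (xa * (xa * (xb * (xb * (xa * (xa * (xb * (xb * 1)))))))) :=
  rfl
theorem hb47 : xb * (xa * (xa * (xb * (xb * (xa * (xa * (xb * (xb * 1)))))))) ∈ L := by
  rw [eb47]; exact m57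
theorem eb48 : xb * (xa * (xb * (xa * (xa * (xb * (xb * (xa * (xa * 1)))))))) = xa * (xb * (xb * (xa * (xa * 1)))) :=
  (r3 (xa * (xa * (xb * (xb * (xa * (xa * 1))))))).trans (r0 (xa * (xb * (xb * (xa * (xa * 1))))))
theorem hb48 : xb * (xa * (xb * (xa * (xa * (xb * (xb * (xa * (xa * 1)))))))) ∈ L := by
  rw [eb48]; exact m25
theorem eb49 : xb * (xa * (xb * (xa * (xa * (xb * (xb * (xb * (xa * 1)))))))) = xa * (xb * (xb * (xb * (xa * 1)))) :=
  (r3 (xa * (xa * (xb * (xb * (xb * (xa * 1))))))).trans (r0 (xa * (xb * (xb * (xb * (xa * 1))))))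
theorem hb49 : xb * (xa * (xb * (xa * (xa * (xb * (xb * (xb * (xa * 1)))))))) ∈ L := by
  rw [eb49]; exact m26
theorem eb50 : xb * (xa * (xb * (xb * (xa * (xa * (xb * (xb * (xa * 1)))))))) = xa * (xa * (xb * (xa * (xa * (xb * (xb * (xa * 1))))))) :=
  r3 (xb * (xa * (xa * (xb * (xb * (xa * 1))))))
theorem hb50 : xb * (xa * (xb * (xb * (xa * (xa * (xb * (xb * (xa * 1)))))))) ∈ L := by
  rw [eb50]; exact m45
theorem eb51 : xb * (xb * (xa * (xa * (xb * (xb * (xa * (xa * (xb * 1)))))))) = xb * (xb * (xa * (xa * (xb * (xb * (xa * (xa * (xb * 1)))))))) :=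
  rfl
theorem hb51 : xb * (xb * (xa * (xa * (xb * (xb * (xa * (xa * (xb * 1)))))))) ∈ L := by
  rw [eb51]; exact m58
theorem eb52 : xb * (xb * (xb * (xa * (xa * (xb * (xb * (xa * (xa * 1)))))))) = xa * (xb * (xb * (xa * (xa * (xb * 1))))) :=
  (r6 (xb * (xb * (xa * (xa * 1))))).trans ((congrArg (fun z => xa * (xb * (xa * (xa * z)))) (r6 1)).trans (congrArg (fun z => xa * (xb * z)) (r0 (xb * (xa * (xa * (xb * 1)))))))
theorem hb52 : xb * (xb * (xb * (xa * (xa * (xb * (xb * (xa * (xa * 1)))))))) ∈ L := by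
  rw [eb52]; exact m33
theorem eb53 : xb * (xa * (xa * (xb * (xa * (xa * (xb * (xb * (xa * (xa * 1))))))))) = xa * (xa * (xb * (xa * (xa * (xb * (xb * (xb * (xa * 1)))))))) :=
  (r7 (xa * (xb * (xb * (xa * (xa * 1)))))).trans ((congrArg (fun z => xa * (xa * (xb * (xb * z)))) (r3 (xb * (xa * (xa * 1))))).trans (congrArg (fun z => xa * (xa * (xb * z))) (r7 (xa * 1))))
theorem hb53 : xb * (xa * (xa * (xb * (xa * (xa * (xb * (xb * (xa * (xa * 1))))))))) ∈ L := by
  rw [eb53]; exact m54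
theorem eb54 : xb * (xa * (xa * (xb * (xa * (xa * (xb * (xb * (xb * (xa * 1))))))))) = xa * (xa * (xb * (xb * (xa * (xa * (xb * (xb * (xa * 1)))))))) :=
  (r7 (xa * (xb * (xb * (xb * (xa * 1)))))).trans (congrArg (fun z => xa * (xa * (xb * (xb * z)))) (r3 (xb * (xb * (xa * 1)))))
theorem hb54 : xb * (xa * (xa * (xb * (xa * (xa * (xb * (xb * (xb * (xa * 1))))))))) ∈ L := by
  rw [eb54]; exact m55
theorem eb55 : xb * (xa * (xa * (xb * (xb * (xa * (xa * (xb * (xb * (xa * 1))))))))) = xa * (xb * (xb * (xa * (xa * (xb * (xb * (xa * (xa * (xb * 1))))))))) :=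
  r12 1
theorem hb55 : xb * (xa * (xa * (xb * (xb * (xa * (xa * (xb * (xb * (xa * 1))))))))) ∈ L := by
  rw [eb55]; exact m59
theorem eb56 : xb * (xa * (xb * (xb * (xa * (xa * (xb * (xb * (xa * (xa * 1))))))))) = xa * (xa * (xb * (xa * (xa * (xb * (xb * (xa * (xa * 1)))))))) :=
  r3 (xb * (xa * (xa * (xb * (xb * (xa * (xa * 1)))))))
theorem hb56 : xb * (xa * (xb * (xb * (xa * (xa * (xb * (xb * (xa * (xa * 1))))))))) ∈ L := by
  rw [eb56]; exact m53
theorem eb57 : xb * (xb * (xa * (xa * (xb * (xb * (xa * (xa * (xb * (xb * 1))))))))) = xa * (xb * (xb * (xa * (xa * (xb * (xb * (xa * 1))))))) :=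
  r11 1
theorem hb57 : xb * (xb * (xa * (xa * (xb * (xb * (xa * (xa * (xb * (xb * 1))))))))) ∈ L := by
  rw [eb57]; exact m50
theorem eb58 : xb * (xb * (xb * (xa * (xa * (xb * (xb * (xa * (xa * (xb * 1))))))))) = xa * (xb * (xb * (xa * (xa * (xb * (xb * 1)))))) :=
  (r6 (xb * (xb * (xa * (xa * (xb * 1)))))).trans ((congrArg (fun z => xa * (xb * (xa * (xa * z)))) (r6 (xb * 1))).trans (congrArg (fun z => xa * (xb * z)) (r0 (xb * (xa * (xa * (xb * (xb * 1))))))))
theorem hb58 : xb * (xb * (xb * (xa * (xa * (xb * (xb * (xa * (xa * (xb * 1))))))))) ∈ L := by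
  rw [eb58]; exact m41
theorem eb59 : xb * (xa * (xb * (xb * (xa * (xa * (xb * (xb * (xa * (xa * (xb * 1)))))))))) = xa * (xb * (xb * (xa * (xa * (xb * (xb * (xa * (xa * 1)))))))) :=
  (r3 (xb * (xa * (xa * (xb * (xb * (xa * (xa * (xb * 1))))))))).trans (congrArg (fun z => xa * z) (r9 1))
theorem hb59 : xb * (xa * (xb * (xb * (xa * (xa * (xb * (xb * (xa * (xa * (xb * 1)))))))))) ∈ L := by
  rw [eb59]; exact m56
theorem Lb : ∀ x ∈ L, xb * x ∈ L := by
  unfold L
  exact (fc (p := fun y => xb * y ∈ L) hb0 (fc (p := fun y => xb * y ∈ L) hb1 (fc (p := fun y => xb * y ∈ L) hb2 (fc (p := fun y => xb * y ∈ L) hb3 (fc (p := fun y => xb * y ∈ L) hb4 (fc (p := fun y => xb * y ∈ L) hb5 (fc (p := fun y => xb * y ∈ L) hb6 (fc (p := fun y => xb * y ∈ L) hb7 (fc (p := fun y => xb * y ∈ L) hb8 (fc (p := fun y => xb * y ∈ L) hb9 (fc (p := fun y => xb * y ∈ L) hb10 (fc (p := fun y => xb * y ∈ L) hb11 (fc (p := fun y => xb * y ∈ L) hb12 (fc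 (p := fun y => xb * y ∈ L) hb13 (fc (p := fun y => xb * y ∈ L) hb14 (fc (p := fun y => xb * y ∈ L) hb15 (fc (p := fun y => xb * y ∈ L) hb16 (fc (p := fun y => xb * y ∈ L) hb17 (fc (p := fun y => xb * y ∈ L) hb18 (fc (p := fun y => xb * y ∈ L) hb19 (fc (p := fun y => xb * y ∈ L) hb20 (fc (p := fun y => xb * y ∈ L) hb21 (fc (p := fun y => xb * y ∈ L) hb22 (fc (p := fun y => xb * y ∈ L) hb23 (fc (p := fun y => xb * y ∈ L) hb24 (fc (p := fun y => xb * y ∈ L) hb25 (fc (p := fun y => xb * y ∈ L) hb26 (fc (p := fun y => xb * y ∈ L) hb27 (fc (p := fun y => xb * y ∈ L) hb28 (fc (p := fun y => xb * y ∈ L) hb29 (fc (p := fun y => xb * y ∈ L) hb30 (fc (p := fun y => xb * y ∈ L) hb31 (fc (p := fun y => xb * y ∈ L) hb32 (fc (p := fun y => xb * y ∈ L) hb33 (fc (p := fun y => xb * y ∈ L) hb34 (fc (p := fun y => xb * y ∈ L) hb35 (fc (p := fun y => xb * y ∈ L) hb36 (fc (p := fun y => xb * y ∈ L) hb37 (fc (p := fun y => xb * y ∈ L) hb38 (fc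 (p := fun y => xb * y ∈ L) hb39 (fc (p := fun y => xb * y ∈ L) hb40 (fc (p := fun y => xb * y ∈ L) hb41 (fc (p := fun y => xb * y ∈ L) hb42 (fc (p := fun y => xb * y ∈ L) hb43 (fc (p := fun y => xb * y ∈ L) hb44 (fc (p := fun y => xb * y ∈ L) hb45 (fc (p := fun y => xb * y ∈ L) hb46 (fc (p := fun y => xb * y ∈ L) hb47 (fc (p := fun y => xb * y ∈ L) hb48 (fc (p := fun y => xb * y ∈ L) hb49 (fc (p := fun y => xb * y ∈ L) hb50 (fc (p := fun y => xb * y ∈ L) hb51 (fc (p := fun y => xb * y ∈ L) hb52 (fc (p := fun y => xb * y ∈ L) hb53 (fc (p := fun y => xb * y ∈ L) hb54 (fc (p := fun y => xb * y ∈ L) hb55 (fc (p := fun y => xb * y ∈ L) hb56 (fc (p := fun y => xb * y ∈ L) hb57 (fc (p := fun y => xb * y ∈ L) hb58 (fc (p := fun y => xb * y ∈ L) hb59 (fun y hy => absurd hy List.not_mem_nil)))))))))))))))))))))))))))))))))))))))))))))))))))))))))))))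

theorem all_mem : ∀ x : P, x ∈ L := by
  intro x
  have hx : x ∈ Subgroup.closure (Set.range (PresentedGroup.of : Fin 2 → P)) := by
    rw [PresentedGroup.closure_range_of]; exact Subgroup.mem_top x
  induction hx using Subgroup.closure_induction_left with
  | one => exact m0
  | mul_left g hg y _ ih =>
    obtain ⟨i, rfl⟩ := hg
    fin_cases i
    · exact La y ih
    · exact Lb y ih
  | inv_mul_cancel g hg y _ ih =>
    obtain ⟨i, rfl⟩ := hg
    fin_cases i
    · have h : (xa)⁻¹ = xa * xa := by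
        rw [inv_eq_iff_mul_eq_one, ← mul_assoc]; exact xa3
      show xa⁻¹ * y ∈ L
      rw [h, mul_assoc]; exact La _ (La y ih)
    · have h : (xb)⁻¹ = xb * xb * xb * xb := by
        rw [inv_eq_iff_mul_eq_one, ← mul_assoc, ← mul_assoc, ← mul_assoc]; exact xb5
      show xb⁻¹ * y ∈ L
      rw [h, mul_assoc, mul_assoc, mul_assoc]; exact Lb _ (Lb _ (Lb _ (Lb y ih)))

theorem L_surj : Function.Surjective (fun i : Fin L.length => L.get i) := fun x => by
  obtain ⟨i, hi⟩ := List.mem_iff_get.mp (all_mem x)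
  exact ⟨i, hi⟩

instance finP : Finite P := Finite.of_surjective _ L_surj

theorem card_le : Nat.card P ≤ 60 := by
  have h := Nat.card_le_card_of_surjective _ L_surj
  rw [Nat.card_fin] at h
  exact h

def pa : alternatingGroup (Fin 5) :=
  ⟨Equiv.swap 0 1 * Equiv.swap 1 2, Equiv.Perm.mem_alternatingGroup.mpr (by decide)⟩

def pb : alternatingGroup (Fin 5) :=
  ⟨Equiv.swap 0 2 * Equiv.swap 2 4 * Equiv.swap 4 1 * Equiv.swap 1 3,
    Equiv.Perm.mem_alternatingGroup.mpr (by decide)⟩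

def gen : Fin 2 → alternatingGroup (Fin 5)
  | 0 => pa
  | 1 => pb

set_option maxRecDepth 100000 in
theorem pa3 : pa ^ 3 = 1 := by apply Subtype.ext; decide

set_option maxRecDepth 100000 in
theorem pb5 : pb ^ 5 = 1 := by apply Subtype.ext; decide

set_option maxRecDepth 100000 in
theorem pab2 : (pa * pb) ^ 2 = 1 := by apply Subtype.ext; decide

set_option maxRecDepth 100000 in
theorem pa_ne : pa ≠ 1 := by
  intro h; have := congrArg Subtype.val h; revert this; decide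

set_option maxRecDepth 100000 in
theorem pb_ne : pb ≠ 1 := by
  intro h; have := congrArg Subtype.val h; revert this; decide

set_option maxRecDepth 100000 in
theorem pab_ne : pa * pb ≠ 1 := by
  intro h; have := congrArg Subtype.val h; revert this; decide

theorem gen_rel : ∀ r ∈ R, FreeGroup.lift gen r = 1 := by
  intro r hr
  rcases hr with rfl | rfl | rfl
  · rw [map_pow, FreeGroup.lift_apply_of]; exact pa3
  · rw [map_pow, FreeGroup.lift_apply_of]; exact pb5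
  · rw [map_pow, map_mul, FreeGroup.lift_apply_of, FreeGroup.lift_apply_of]; exact pab2

def phi : P →* alternatingGroup (Fin 5) := PresentedGroup.toGroup gen_rel

theorem phi_surj : Function.Surjective phi := by
  rw [← MonoidHom.range_eq_top]
  obtain ⟨H, hH⟩ : ∃ H : Subgroup (alternatingGroup (Fin 5)), H = phi.range := ⟨_, rfl⟩
  rw [← hH]
  have ha : pa ∈ H := by rw [hH]; exact ⟨xa, PresentedGroup.toGroup.of gen_rel⟩
  have hb : pb ∈ H := by rw [hH]; exact ⟨xb, PresentedGroup.toGroup.of gen_rel⟩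
  have hab : pa * pb ∈ H := H.mul_mem ha hb
  haveI : Fact (Nat.Prime 2) := ⟨Nat.prime_two⟩
  haveI : Fact (Nat.Prime 3) := ⟨Nat.prime_three⟩
  haveI : Fact (Nat.Prime 5) := ⟨Nat.prime_five⟩
  have h3 : 3 ∣ Nat.card H := by
    have hd := Subgroup.orderOf_dvd_natCard H ha
    rw [orderOf_eq_prime pa3 pa_ne] at hd
    exact hd
  have h5 : 5 ∣ Nat.card H := by
    have hd := Subgroup.orderOf_dvd_natCard H hb
    rw [orderOf_eq_prime pb5 pb_ne] at hd
    exact hd
  have h2 : 2 ∣ Nat.card H := by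
    have hd := Subgroup.orderOf_dvd_natCard H hab
    rw [orderOf_eq_prime pab2 pab_ne] at hd
    exact hd
  have h30 : 30 ∣ Nat.card H := by
    have h6 : 6 ∣ Nat.card H := Nat.Coprime.mul_dvd_of_dvd_of_dvd (by decide) h2 h3
    exact Nat.Coprime.mul_dvd_of_dvd_of_dvd (by decide) h6 h5
  have hcard : Nat.card (alternatingGroup (Fin 5)) = 60 := by
    rw [nat_card_alternatingGroup, Nat.card_fin]; rfl
  have hmul : Nat.card H * H.index = 60 := by rw [Subgroup.card_mul_index, hcard]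
  have hidx : H.index ∣ 2 := by
    have h1 : 30 * H.index ∣ 30 * 2 := by
      have : 30 * H.index ∣ Nat.card H * H.index := Nat.mul_dvd_mul_right h30 _
      rw [hmul] at this; exact this
    exact Nat.dvd_of_mul_dvd_mul_left (by norm_num) h1
  rcases (Nat.dvd_prime Nat.prime_two).mp hidx with h | h
  · exact Subgroup.index_eq_one.mp h
  · haveI := Subgroup.normal_of_index_eq_two h
    rcases Subgroup.Normal.eq_bot_or_eq_top (inferInstance : H.Normal) with hbot | htop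
    · exfalso
      rw [hbot, Subgroup.mem_bot] at ha
      exact pa_ne ha
    · exact htop

/-- The alternating group of degree 5 has the presentation ⟨x, y | x³ = 1, y⁵ = 1, (xy)² = 1⟩: the group so presented is isomorphic to Alt(5). -/
theorem result :
    Nonempty (PresentedGroup ({FreeGroup.of (0 : Fin 2) ^ 3, FreeGroup.of (1 : Fin 2) ^ 5,
        (FreeGroup.of (0 : Fin 2) * FreeGroup.of 1) ^ 2} : Set (FreeGroup (Fin 2))) ≃* alternatingGroup (Fin 5)) := by
  have hbij : Function.Bijective phi := by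
    apply Function.Surjective.bijective_of_nat_card_le phi_surj
    have hcard : Nat.card (alternatingGroup (Fin 5)) = 60 := by
      rw [nat_card_alternatingGroup, Nat.card_fin]; rfl
    rw [hcard]; exact card_le
  exact ⟨MulEquiv.ofBijective phi hbij⟩

end Cfsg.Agent.S3377
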