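import Cfsg.Statements.S3554
import Mathlib
-- import your own Cfsg.Agent.* helpers here

set_option autoImplicit false
open Cfsg

namespace Cfsg.Agent.S3554

/-- Let G act faithfully and transitively on a finite set and suppose G has a non-trivial cyclic normal subgroup. Then some element of G of prime order fixes no point. -/
theorem result {G Ω : Type*} [Group G] [Finite G] [MulAction G Ω] [FaithfulSMul G Ω] [Finite Ω]
    (htrans : MulAction.IsPretransitive G Ω) (C : Subgroup G) (hC : C.Normal) (hC1 : C ≠ ⊥) (hcyc : IsCyclic ↥C) :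
    ∃ g : G, (orderOf g).Prime ∧ ∀ ω : Ω, g • ω ≠ ω := by
  classical
  have hCnt : Nontrivial C := (Subgroup.nontrivial_iff_ne_bot C).mpr hC1
  obtain ⟨p, hp, hpd⟩ := Nat.exists_prime_and_dvd (Finite.one_lt_card (α := C)).ne'
  have : Fact p.Prime := ⟨hp⟩
  obtain ⟨x, hx⟩ := exists_prime_orderOf_dvd_card' p hpd
  have hpow : ∀ y : C, y ^ p = 1 → y ∈ Subgroup.zpowers x := by
    intro y hy
    have hft : Fintype C := Fintype.ofFinite C
    have h1 := IsCyclic.card_pow_eq_one_le (α := C) hp.pos
    have hsub : (Finset.range p).image (fun i => x ^ i) ⊆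
        Finset.univ.filter (fun a : C => a ^ p = 1) := by
      intro z hz
      obtain ⟨i, -, rfl⟩ := Finset.mem_image.mp hz
      rw [Finset.mem_filter]
      refine ⟨Finset.mem_univ _, ?_⟩
      rw [← pow_mul, mul_comm, pow_mul, ← hx, pow_orderOf_eq_one, one_pow]
    have hcard : ((Finset.range p).image (fun i => x ^ i)).card = p := by
      rw [Finset.card_image_of_injOn, Finset.card_range]
      intro i hi j hj hij
      have hi' : i < orderOf x := by rw [hx]; exact Finset.mem_range.mp hi
      have hj' : j < orderOf x := by rw [hx]; exact Finset.mem_range.mp hj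
      exact pow_injOn_Iio_orderOf hi' hj' hij
    have heq := Finset.eq_of_subset_of_card_le hsub (by rw [hcard]; exact h1)
    have hy' : y ∈ Finset.univ.filter (fun a : C => a ^ p = 1) := by
      rw [Finset.mem_filter]; exact ⟨Finset.mem_univ _, hy⟩
    rw [← heq] at hy'
    obtain ⟨i, -, rfl⟩ := Finset.mem_image.mp hy'
    exact Subgroup.pow_mem _ (Subgroup.mem_zpowers x) i
  have hconj : ∀ g : G, ∃ k : ℤ, g⁻¹ * (x : G) * g = (x : G) ^ k := by
    intro g
    have hmem : g⁻¹ * (x : G) * g ∈ C := by
      have := hC.conj_mem (x : G) x.2 g⁻¹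
      rwa [inv_inv] at this
    have h1 : (⟨g⁻¹ * (x : G) * g, hmem⟩ : C) ^ p = 1 := by
      apply Subtype.ext
      have h2 : (g⁻¹ * (x : G) * g) ^ p = g⁻¹ * (x : G) ^ p * g := by
        have := map_pow (MulAut.conj g⁻¹).toMonoidHom (x : G) p
        simpa using this.symm
      have h3 : (x : G) ^ p = 1 := by
        rw [← Subgroup.coe_pow, ← hx, pow_orderOf_eq_one]; rfl
      show (g⁻¹ * (x : G) * g) ^ p = 1
      rw [h2, h3]
      group
    obtain ⟨k, hk⟩ := Subgroup.mem_zpowers_iff.mp (hpow _ h1)
    refine ⟨k, ?_⟩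
    have := congrArg Subtype.val hk
    simpa using this.symm
  refine ⟨(x : G), by rw [Subgroup.orderOf_coe, hx]; exact hp, ?_⟩
  intro ω hω
  have hx1 : (x : G) = 1 := by
    apply FaithfulSMul.eq_of_smul_eq_smul (α := Ω)
    intro ω'
    obtain ⟨g, rfl⟩ := MulAction.exists_smul_eq G ω ω'
    rw [one_smul]
    obtain ⟨k, hk⟩ := hconj g
    have h1 : (x : G) ^ k • ω = ω := by
      have : (x : G) ^ k ∈ MulAction.stabilizer G ω :=
        Subgroup.zpow_mem _ (MulAction.mem_stabilizer_iff.mpr hω) k
      exact MulAction.mem_stabilizer_iff.mp this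
    calc (x : G) • g • ω = g • (g⁻¹ * (x : G) * g) • ω := by
          rw [← mul_smul, ← mul_smul]; congr 1; group
      _ = g • ω := by rw [hk, h1]
  have h2 : orderOf (x : G) = p := by rw [Subgroup.orderOf_coe, hx]
  rw [hx1, orderOf_one] at h2
  exact hp.one_lt.ne h2

end Cfsg.Agent.S3554
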