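import Cfsg.Statements.S3633
import Mathlib
import Cfsg.Agent.Lead.Hall
import Cfsg.Agent.Lead.Fpf2
import Cfsg.Agent.Lead.Fpf3
-- import your own Cfsg.Agent.* helpers here

set_option autoImplicit false
open Cfsg

namespace Cfsg.Agent.S3633


universe u

/-- a nontrivial solvable group has a nontrivial abelian normal subgroup -/
theorem exists_abelian_normal3633 {X : Type u} [Group X] [hs : Group.IsSolvable X] [Nontrivial X] :
    ∃ A : Subgroup X, A.Normal ∧ A ≠ ⊥ ∧ ∀ a ∈ A, ∀ b ∈ A, a * b = b * a := by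
  classical
  have hex : ∃ n, derivedSeries X n = ⊥ := hs.solvable
  obtain ⟨m, hm⟩ : ∃ m, Nat.find hex = m := ⟨_, rfl⟩
  have hm0 : m ≠ 0 := by
    rintro rfl
    have h0 := Nat.find_spec hex
    rw [hm, derivedSeries_zero] at h0
    exact top_ne_bot h0
  obtain ⟨k, rfl⟩ := Nat.exists_eq_succ_of_ne_zero hm0
  have hk : derivedSeries X k ≠ ⊥ := by
    intro h
    have := Nat.find_min' hex h
    omega
  have hk1 : derivedSeries X (k+1) = ⊥ := by
    have h0 := Nat.find_spec hex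
    rw [hm] at h0
    exact h0
  refine ⟨derivedSeries X k, derivedSeries_normal X k, hk, ?_⟩
  intro a ha b hb
  have h1 := Subgroup.commutator_mem_commutator ha hb
  rw [← derivedSeries_succ, hk1, Subgroup.mem_bot] at h1
  exact commutatorElement_eq_one_iff_mul_comm.mp h1

theorem three_primes_aux {X : Type u} [Group X] [Finite X] [Group.IsSolvable X] (r s t : ℕ)
    (hr : r.Prime) (hs : s.Prime) (ht : t.Prime) (hrs : r ≠ s) (hrt : r ≠ t) (hst : s ≠ t)
    (hrX : r ∣ Nat.card X) (hsX : s ∣ Nat.card X) (htX : t ∣ Nat.card X)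
    (hall : ∀ p : ℕ, p.Prime → p ∣ Nat.card X → p = r ∨ p = s ∨ p = t) :
    ∃ x : X, orderOf x = r * s ∨ orderOf x = r * t ∨ orderOf x = s * t := by
  classical
  by_contra hcon
  push Not at hcon
  have hno : ∀ p q : ℕ, (p = r ∨ p = s ∨ p = t) → (q = r ∨ q = s ∨ q = t) → p ≠ q →
      ∀ x : X, orderOf x ≠ p * q := by
    intro p q hp hq hpq x
    rcases hp with hp | hp | hp <;> rcases hq with hq | hq | hq
    · exact absurd (hp.trans hq.symm) hpq
    · rw [hp, hq]; exact (hcon x).1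
    · rw [hp, hq]; exact (hcon x).2.1
    · rw [hp, hq, mul_comm]; exact (hcon x).1
    · exact absurd (hp.trans hq.symm) hpq
    · rw [hp, hq]; exact (hcon x).2.2
    · rw [hp, hq, mul_comm]; exact (hcon x).2.1
    · rw [hp, hq, mul_comm]; exact (hcon x).2.2
    · exact absurd (hp.trans hq.symm) hpq
  haveI : Nontrivial X := by
    rw [← Finite.one_lt_card_iff_nontrivial]
    exact lt_of_lt_of_le hr.one_lt (Nat.le_of_dvd Nat.card_pos hrX)
  obtain ⟨A0, hA0n, hA0, hA0c⟩ := exists_abelian_normal3633 (X := X)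
  have hA0card : Nat.card A0 ≠ 1 := fun h => hA0 (Subgroup.card_eq_one.mp h)
  obtain ⟨p, hp, hpA0⟩ := Nat.exists_prime_and_dvd hA0card
  have hpX : p ∣ Nat.card X := hpA0.trans (Subgroup.card_subgroup_dvd_card A0)
  have hp3 := hall p hp hpX
  haveI : Fact p.Prime := ⟨hp⟩
  let K : Subgroup X :=
    { carrier := {x | x ∈ A0 ∧ x ^ p = 1}
      mul_mem' := by
        rintro a b ⟨ha, ha'⟩ ⟨hb, hb'⟩
        refine ⟨A0.mul_mem ha hb, ?_⟩
        rw [(show Commute a b from hA0c a ha b hb).mul_pow, ha', hb', one_mul]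
      one_mem' := ⟨A0.one_mem, one_pow _⟩
      inv_mem' := by
        rintro a ⟨ha, ha'⟩
        exact ⟨A0.inv_mem ha, by rw [inv_pow, ha', inv_one]⟩ }
  have hKmem : ∀ x, x ∈ K ↔ x ∈ A0 ∧ x ^ p = 1 := fun x => Iff.rfl
  haveI hKn : K.Normal := by
    constructor
    intro n hn g
    obtain ⟨h1, h2⟩ := (hKmem n).mp hn
    refine (hKmem _).mpr ⟨hA0n.conj_mem n h1 g, ?_⟩
    rw [conj_pow, h2, mul_one, mul_inv_cancel]
  have hK : K ≠ ⊥ := by
    obtain ⟨a, ha⟩ := exists_prime_orderOf_dvd_card' p hpA0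
    intro hbot
    have h1 : (a : X) ∈ K := (hKmem _).mpr ⟨a.2, by
      have := pow_orderOf_eq_one a
      rw [ha] at this
      exact_mod_cast congrArg Subtype.val this⟩
    rw [hbot, Subgroup.mem_bot] at h1
    have h2 : a = 1 := Subtype.ext h1
    rw [h2, orderOf_one] at ha
    exact hp.one_lt.ne ha
  have hfpf : ∀ h : X, h ≠ 1 → ¬ p ∣ orderOf h → K ⊓ Subgroup.centralizer {h} = ⊥ := by
    intro h hh1 hph
    rw [Subgroup.eq_bot_iff_forall]
    intro k hk
    by_contra hk1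
    obtain ⟨hkK, hkc⟩ := Subgroup.mem_inf.mp hk
    rw [Subgroup.mem_centralizer_singleton_iff] at hkc
    have hok : orderOf k = p := orderOf_eq_prime ((hKmem k).mp hkK).2 hk1
    have hoh1 : orderOf h ≠ 1 := by rwa [Ne, orderOf_eq_one_iff]
    obtain ⟨q, hq, hqh⟩ := Nat.exists_prime_and_dvd hoh1
    have hqX : q ∣ Nat.card X := hqh.trans (orderOf_dvd_natCard h)
    have hq3 := hall q hq hqX
    have hpq : p ≠ q := by rintro rfl; exact hph hqh
    obtain ⟨d, hd⟩ := hqh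
    have hd0 : d ≠ 0 := by rintro rfl; rw [mul_zero] at hd; exact (orderOf_pos h).ne' hd
    have hoh' : orderOf (h ^ d) = q := by
      rw [orderOf_pow_of_dvd hd0 ⟨q, by rw [hd, mul_comm]⟩, hd,
        Nat.mul_div_cancel _ (Nat.pos_of_ne_zero hd0)]
    have hcomm : Commute k (h ^ d) := (show Commute k h from hkc).pow_right d
    have hcop : (orderOf k).Coprime (orderOf (h ^ d)) := by
      rw [hok, hoh']; exact (Nat.coprime_primes hp hq).mpr hpq
    have hord := hcomm.orderOf_mul_eq_mul_orderOf_of_coprime hcop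
    rw [hok, hoh'] at hord
    exact hno p q hp3 hq3 hpq _ hord
  have hXpos : Nat.card X ≠ 0 := Nat.card_pos.ne'
  obtain ⟨e, m, hpm, hXm⟩ := Nat.exists_eq_pow_mul_and_not_dvd hXpos p hp.ne_one
  have hcop : m.Coprime (p ^ e) :=
    (Nat.Coprime.pow_left e (hp.coprime_iff_not_dvd.mpr hpm)).symm
  obtain ⟨H0, hH0, -⟩ := Cfsg.Agent.Lead.hall_dom_aux (Nat.card X) X rfl m (p ^ e)
    (by rw [hXm, mul_comm]) hcop ⊥ (by rw [Subgroup.card_bot]; exact Nat.coprime_one_left _)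
  have hH0ord : ∀ h ∈ H0, ¬ p ∣ orderOf h := by
    intro h hh hdv
    have h1 : orderOf h ∣ m := hH0 ▸ Subgroup.orderOf_dvd_natCard H0 hh
    exact hpm (hdv.trans h1)
  have hfpfH : ∀ h ∈ H0, h ≠ 1 → K ⊓ Subgroup.centralizer {h} = ⊥ :=
    fun h hh h1 => hfpf h h1 (hH0ord h hh)
  have hdivm : ∀ q : ℕ, q.Prime → q ∣ Nat.card X → q ≠ p → q ∣ m := by
    intro q hq hqX hqp
    rw [hXm] at hqX
    rcases (Nat.Prime.dvd_mul hq).mp hqX with h | h
    · exact absurd ((Nat.prime_dvd_prime_iff_eq hq hp).mp (hq.dvd_of_dvd_pow h)) hqp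
    · exact h
  obtain ⟨q1, q2, hq1, hq2, hq1p, hq2p, hq12, hq1X, hq2X, hq1in, hq2in⟩ :
      ∃ q1 q2 : ℕ, q1.Prime ∧ q2.Prime ∧ q1 ≠ p ∧ q2 ≠ p ∧ q1 ≠ q2 ∧ q1 ∣ Nat.card X ∧
        q2 ∣ Nat.card X ∧ (q1 = r ∨ q1 = s ∨ q1 = t) ∧ (q2 = r ∨ q2 = s ∨ q2 = t) := by
    rcases hp3 with h | h | h
    · exact ⟨s, t, hs, ht, by rw [h]; exact hrs.symm, by rw [h]; exact hrt.symm, hst, hsX, htX,
        Or.inr (Or.inl rfl), Or.inr (Or.inr rfl)⟩
    · exact ⟨r, t, hr, ht, by rw [h]; exact hrs, by rw [h]; exact hst.symm, hrt, hrX, htX,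
        Or.inl rfl, Or.inr (Or.inr rfl)⟩
    · exact ⟨r, s, hr, hs, by rw [h]; exact hrt, by rw [h]; exact hst, hrs, hrX, hsX,
        Or.inl rfl, Or.inr (Or.inl rfl)⟩
  have hq1H : q1 ∣ Nat.card H0 := hH0 ▸ hdivm q1 hq1 hq1X hq1p
  have hq2H : q2 ∣ Nat.card H0 := hH0 ▸ hdivm q2 hq2 hq2X hq2p
  haveI : Nontrivial H0 := by
    rw [← Finite.one_lt_card_iff_nontrivial]
    exact lt_of_lt_of_le hq1.one_lt (Nat.le_of_dvd Nat.card_pos hq1H)
  obtain ⟨A1, hA1n, hA1, hA1c⟩ := exists_abelian_normal3633 (X := H0)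
  have hA1card : Nat.card A1 ≠ 1 := fun h => hA1 (Subgroup.card_eq_one.mp h)
  obtain ⟨q, hq, hqA1⟩ := Nat.exists_prime_and_dvd hA1card
  have hqH : q ∣ Nat.card H0 := hqA1.trans (Subgroup.card_subgroup_dvd_card A1)
  have hqX : q ∣ Nat.card X := hqH.trans (Subgroup.card_subgroup_dvd_card H0)
  have hq3 := hall q hq hqX
  have hqp : q ≠ p := by rintro rfl; exact hpm (hH0 ▸ hqH)
  obtain ⟨q', hq', hq'p, hq'q, hq'H, hq'3⟩ : ∃ q' : ℕ, q'.Prime ∧ q' ≠ p ∧ q' ≠ q ∧
      q' ∣ Nat.card H0 ∧ (q' = r ∨ q' = s ∨ q' = t) := by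
    by_cases h : q = q1
    · exact ⟨q2, hq2, hq2p, by rw [h]; exact hq12.symm, hq2H, hq2in⟩
    · exact ⟨q1, hq1, hq1p, fun h' => h h'.symm, hq1H, hq1in⟩
  haveI : Fact q.Prime := ⟨hq⟩
  haveI : Fact q'.Prime := ⟨hq'⟩
  obtain ⟨b, hb⟩ := exists_prime_orderOf_dvd_card' q hqA1
  obtain ⟨y, hy⟩ := exists_prime_orderOf_dvd_card' q' hq'H
  have hbX : orderOf ((b : H0) : X) = q := by
    rw [Subgroup.orderOf_coe, Subgroup.orderOf_coe]; exact hb
  have hyX : orderOf (y : X) = q' := by rw [Subgroup.orderOf_coe]; exact hy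
  have hb1 : ((b : H0) : X) ≠ 1 := by
    intro h; rw [h, orderOf_one] at hbX; exact hq.one_lt.ne hbX
  have hbq : ((b : H0) : X) ^ q = 1 := by rw [← hbX]; exact pow_orderOf_eq_one _
  have hbqH : (b : H0) ^ q = 1 := by
    apply Subtype.ext
    rw [Subgroup.coe_pow]; exact hbq
  by_cases hcase : ∃ a ∈ A1, a ^ q = 1 ∧ a ∉ Subgroup.zpowers (b : H0)
  · obtain ⟨a, haA1, haq, hab⟩ := hcase
    refine Cfsg.Agent.Lead.fpf_rank_two_false K hK q (a : X) ((b : H0) : X) ?_ hbq hb1 ?_ ?_ ?_ ?_ ?_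
    · have := congrArg Subtype.val haq
      rw [Subgroup.coe_pow] at this
      exact this
    · intro hmemz
      obtain ⟨k, hk⟩ := Subgroup.mem_zpowers_iff.mp hmemz
      apply hab
      rw [Subgroup.mem_zpowers_iff]
      exact ⟨k, Subtype.ext (by rw [Subgroup.coe_zpow]; exact hk)⟩
    · have := congrArg Subtype.val (hA1c a haA1 b b.2)
      rw [Subgroup.coe_mul, Subgroup.coe_mul] at this
      exact this
    · rw [Subgroup.normalizer_eq_top_iff.mpr hKn]; exact Subgroup.mem_top _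
    · rw [Subgroup.normalizer_eq_top_iff.mpr hKn]; exact Subgroup.mem_top _
    · intro h hh h1
      refine hfpfH h ?_ h1
      have hle : Subgroup.zpowers ((b : H0) : X) ⊔ Subgroup.zpowers (a : X) ≤ H0 :=
        sup_le (by rw [Subgroup.zpowers_le]; exact (b : H0).2)
          (by rw [Subgroup.zpowers_le]; exact a.2)
      exact hle hh
  · push Not at hcase
    have h1 : y * (b : H0) * y⁻¹ ∈ A1 := hA1n.conj_mem _ b.2 y
    have h2 : (y * (b : H0) * y⁻¹) ^ q = 1 := by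
      rw [conj_pow, hbqH, mul_one, mul_inv_cancel]
    have h3 := hcase _ h1 h2
    have h4 : (y : X) * ((b : H0) : X) * (y : X)⁻¹ ∈ Subgroup.zpowers ((b : H0) : X) := by
      obtain ⟨k, hk⟩ := Subgroup.mem_zpowers_iff.mp h3
      rw [Subgroup.mem_zpowers_iff]
      refine ⟨k, ?_⟩
      have := congrArg Subtype.val hk
      rw [Subgroup.coe_zpow] at this
      rw [this]; rfl
    have hcomm := Cfsg.Agent.Lead.fpf_pq_commute K H0 hK hfpfH q' q hq' hq hq'q (y : X)
      ((b : H0) : X) y.2 (b : H0).2 (by rw [← hyX]; exact pow_orderOf_eq_one _) hbq h4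
    have hord := (show Commute (y : X) ((b : H0) : X) from hcomm).orderOf_mul_eq_mul_orderOf_of_coprime
      (by rw [hyX, hbX]; exact (Nat.coprime_primes hq' hq).mpr hq'q)
    rw [hyX, hbX] at hord
    exact hno q' q hq'3 hq3 hq'q _ hord

theorem three_primes_solvable {G : Type u} [Group G] [Finite G] [Group.IsSolvable G] (r s t : ℕ)
    (hr : r.Prime) (hs : s.Prime) (ht : t.Prime) (hrs : r ≠ s) (hrt : r ≠ t) (hst : s ≠ t)
    (hrG : r ∣ Nat.card G) (hsG : s ∣ Nat.card G) (htG : t ∣ Nat.card G) :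
    ∃ x : G, orderOf x = r * s ∨ orderOf x = r * t ∨ orderOf x = s * t := by
  have hGpos : Nat.card G ≠ 0 := Nat.card_pos.ne'
  obtain ⟨a, n1, hn1, hG1⟩ := Nat.exists_eq_pow_mul_and_not_dvd hGpos r hr.ne_one
  have hn1pos : n1 ≠ 0 := by rintro rfl; rw [mul_zero] at hG1; exact hGpos hG1
  obtain ⟨b, n2, hn2, hG2⟩ := Nat.exists_eq_pow_mul_and_not_dvd hn1pos s hs.ne_one
  have hn2pos : n2 ≠ 0 := by rintro rfl; rw [mul_zero] at hG2; exact hn1pos hG2
  obtain ⟨c, k, hk, hG3⟩ := Nat.exists_eq_pow_mul_and_not_dvd hn2pos t ht.ne_one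
  have hsk : ¬ s ∣ k := fun h => hn2 (by rw [hG3]; exact Dvd.dvd.mul_left h _)
  have hrk : ¬ r ∣ k := fun h => hn1 (by
    rw [hG2, hG3]; exact Dvd.dvd.mul_left (Dvd.dvd.mul_left h _) _)
  obtain ⟨m, hm⟩ : ∃ m, m = r ^ a * (s ^ b * t ^ c) := ⟨_, rfl⟩
  have hGm : Nat.card G = m * k := by rw [hG1, hG2, hG3, hm]; ring
  have hcop : m.Coprime k := by
    rw [hm]
    refine Nat.Coprime.mul_left ?_ (Nat.Coprime.mul_left ?_ ?_)
    · exact Nat.Coprime.pow_left _ (hr.coprime_iff_not_dvd.mpr hrk)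
    · exact Nat.Coprime.pow_left _ (hs.coprime_iff_not_dvd.mpr hsk)
    · exact Nat.Coprime.pow_left _ (ht.coprime_iff_not_dvd.mpr hk)
  obtain ⟨X, hX, -⟩ := Cfsg.Agent.Lead.hall_dom_aux (Nat.card G) G rfl m k hGm hcop ⊥
    (by rw [Subgroup.card_bot]; exact Nat.coprime_one_left _)
  have hdv : ∀ q : ℕ, q.Prime → q ∣ Nat.card G → ¬ q ∣ k → q ∣ Nat.card X := by
    intro q hq hqG hqk
    rw [hX]; rw [hGm] at hqG
    exact ((Nat.Prime.dvd_mul hq).mp hqG).resolve_right hqk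
  have hall : ∀ q : ℕ, q.Prime → q ∣ Nat.card X → q = r ∨ q = s ∨ q = t := by
    intro q hq hqX
    rw [hX, hm] at hqX
    rcases (Nat.Prime.dvd_mul hq).mp hqX with h | h
    · exact Or.inl ((Nat.prime_dvd_prime_iff_eq hq hr).mp (hq.dvd_of_dvd_pow h))
    · rcases (Nat.Prime.dvd_mul hq).mp h with h | h
      · exact Or.inr (Or.inl ((Nat.prime_dvd_prime_iff_eq hq hs).mp (hq.dvd_of_dvd_pow h)))
      · exact Or.inr (Or.inr ((Nat.prime_dvd_prime_iff_eq hq ht).mp (hq.dvd_of_dvd_pow h)))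
  obtain ⟨x, hx⟩ := three_primes_aux (X := X) r s t hr hs ht hrs hrt hst (hdv r hr hrG hrk)
    (hdv s hs hsG hsk) (hdv t ht htG hk) hall
  exact ⟨(x : G), by rw [Subgroup.orderOf_coe]; exact hx⟩

/-- Let G be a finite group and ρ a set of at least three prime divisors of the order of G that are pairwise non-adjacent in the prime graph (no element of order rs for distinct r, s ∈ ρ). Then at most one prime of ρ divides the order of any given solvable normal subgroup of G; in particular G is not solvable. -/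
theorem result {G : Type*} [Group G] [Finite G] (ρ : Finset ℕ) (hρ : 3 ≤ ρ.card) (hc : ((∀ r ∈ ρ, r.Prime ∧ r ∣ Nat.card G) ∧ (∀ r ∈ ρ, ∀ s ∈ ρ, r ≠ s → ¬ ∃ x : G, orderOf x = r * s)))
    (K : Subgroup G) [K.Normal] (hK : Group.IsSolvable ↥K) :
    (∀ r ∈ ρ, ∀ s ∈ ρ, r ∣ Nat.card ↥K → s ∣ Nat.card ↥K → r = s) ∧ ¬ Group.IsSolvable G := by
  classical
  obtain ⟨hc1, hc2⟩ := hc
  constructor
  · intro r hr s hs hrK hsK
    by_contra hrs
    obtain ⟨t, ht, htr, hts⟩ : ∃ t ∈ ρ, t ≠ r ∧ t ≠ s := by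
      by_contra hcon
      push Not at hcon
      have hsub : ρ ⊆ {r, s} := by
        intro t ht
        by_cases h : t = r
        · simp [h]
        · simp [hcon t ht h]
      have h1 := Finset.card_le_card hsub
      have h2 : ({r, s} : Finset ℕ).card ≤ 2 := Finset.card_le_two
      omega
    have htp := (hc1 t ht).1
    haveI : Fact t.Prime := ⟨htp⟩
    obtain ⟨y, hy⟩ := exists_prime_orderOf_dvd_card' t (hc1 t ht).2
    obtain ⟨L, hL⟩ : ∃ L : Subgroup G, L = (Subgroup.zpowers (QuotientGroup.mk' K y)).comap (QuotientGroup.mk' K) := ⟨_, rfl⟩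
    have hKL : K ≤ L := by
      intro k hk
      rw [hL, Subgroup.mem_comap]
      have : QuotientGroup.mk' K k = 1 := (QuotientGroup.eq_one_iff k).mpr hk
      rw [this]; exact Subgroup.one_mem _
    have hyL : y ∈ L := by rw [hL, Subgroup.mem_comap]; exact Subgroup.mem_zpowers _
    haveI := hK
    haveI : Group.IsSolvable L := by
      subst hL
      let f : K →* ((Subgroup.zpowers (QuotientGroup.mk' K y)).comap (QuotientGroup.mk' K) : Subgroup G) :=
        Subgroup.inclusion hKL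
      let g := (QuotientGroup.mk' K).subgroupComap (Subgroup.zpowers (QuotientGroup.mk' K y))
      haveI : Group.IsSolvable (Subgroup.zpowers (QuotientGroup.mk' K y)) :=
        Group.isSolvable_of_comm (fun a b => by
          obtain ⟨i, hi⟩ := Subgroup.mem_zpowers_iff.mp a.2
          obtain ⟨j, hj⟩ := Subgroup.mem_zpowers_iff.mp b.2
          apply Subtype.ext
          rw [Subgroup.coe_mul, Subgroup.coe_mul, ← hi, ← hj, ← zpow_add, ← zpow_add, add_comm])
      refine Group.isSolvable_of_ker_le_range f g ?_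
      intro l hl
      rw [MonoidHom.mem_ker] at hl
      have h1 : QuotientGroup.mk' K (l : G) = 1 := congrArg Subtype.val hl
      have h2 : (l : G) ∈ K := (QuotientGroup.eq_one_iff _).mp h1
      exact ⟨⟨l, h2⟩, Subtype.ext rfl⟩
    have hrL : r ∣ Nat.card L := hrK.trans (Subgroup.card_dvd_of_le hKL)
    have hsL : s ∣ Nat.card L := hsK.trans (Subgroup.card_dvd_of_le hKL)
    have htL : t ∣ Nat.card L := by rw [← hy]; exact Subgroup.orderOf_dvd_natCard L hyL
    obtain ⟨x, hx⟩ := three_primes_solvable (G := L) r s t (hc1 r hr).1 (hc1 s hs).1 htp hrs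
      (Ne.symm htr) (Ne.symm hts) hrL hsL htL
    rw [← Subgroup.orderOf_coe] at hx
    rcases hx with h | h | h
    · exact hc2 r hr s hs hrs ⟨_, h⟩
    · exact hc2 r hr t ht (Ne.symm htr) ⟨_, h⟩
    · exact hc2 s hs t ht (Ne.symm hts) ⟨_, h⟩
  · intro hsolv
    obtain ⟨r, hr, s, hs, t, ht, hrs, hrt, hst⟩ := Finset.two_lt_card.mp hρ
    obtain ⟨x, hx⟩ := three_primes_solvable (G := G) r s t (hc1 r hr).1 (hc1 s hs).1 (hc1 t ht).1
      hrs hrt hst (hc1 r hr).2 (hc1 s hs).2 (hc1 t ht).2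
    rcases hx with h | h | h
    · exact hc2 r hr s hs hrs ⟨_, h⟩
    · exact hc2 r hr t ht hrt ⟨_, h⟩
    · exact hc2 s hs t ht hst ⟨_, h⟩

end Cfsg.Agent.S3633
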