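import Cfsg.Statements.S3634
import Mathlib
import Cfsg.Agent.S3633
-- import your own Cfsg.Agent.* helpers here

set_option autoImplicit false
open Cfsg

namespace Cfsg.Agent.S3634


universe u

theorem mem_sup_normalizing {G : Type*} [Group G] (N Q : Subgroup G)
    (hQN : Q ≤ Subgroup.normalizer (N : Set G)) (x : G) (hx : x ∈ N ⊔ Q) :
    ∃ y ∈ Q, ∃ n ∈ N, x = y * n := by
  rw [Subgroup.sup_eq_closure] at hx
  induction hx using Subgroup.closure_induction with
  | mem x hx =>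
    rcases hx with h | h
    · exact ⟨1, Q.one_mem, x, h, (one_mul x).symm⟩
    · exact ⟨x, h, 1, N.one_mem, (mul_one x).symm⟩
  | one => exact ⟨1, Q.one_mem, 1, N.one_mem, (mul_one 1).symm⟩
  | mul a b _ _ iha ihb =>
    obtain ⟨y1, hy1, n1, hn1, rfl⟩ := iha
    obtain ⟨y2, hy2, n2, hn2, rfl⟩ := ihb
    refine ⟨y1 * y2, Q.mul_mem hy1 hy2, y2⁻¹ * n1 * y2 * n2, N.mul_mem ?_ hn2, by group⟩
    have := (Subgroup.mem_normalizer_iff.mp (hQN (Q.inv_mem hy2)) n1).mp hn1
    simpa using this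
  | inv a _ iha =>
    obtain ⟨y, hy, n, hn, rfl⟩ := iha
    refine ⟨y⁻¹, Q.inv_mem hy, y * n⁻¹ * y⁻¹, ?_, by group⟩
    exact (Subgroup.mem_normalizer_iff.mp (hQN hy) n⁻¹).mp (N.inv_mem hn)

theorem solvable_sup_normalizing {G : Type*} [Group G] (N Q : Subgroup G)
    (hQN : Q ≤ Subgroup.normalizer (N : Set G)) [hN : Group.IsSolvable N] [hQ : Group.IsSolvable Q] :
    Group.IsSolvable ↥(N ⊔ Q) := by
  have hLN : N ⊔ Q ≤ Subgroup.normalizer (N : Set G) := sup_le Subgroup.le_normalizer hQN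
  haveI hnorm : (N.subgroupOf (N ⊔ Q)).Normal :=
    (Subgroup.normal_subgroupOf_iff_le_normalizer le_sup_left).mpr hLN
  have hφ : Function.Surjective ((QuotientGroup.mk' (N.subgroupOf (N ⊔ Q))).comp
      (Subgroup.inclusion (le_sup_right : Q ≤ N ⊔ Q))) := by
    intro c
    obtain ⟨l, rfl⟩ := QuotientGroup.mk'_surjective _ c
    obtain ⟨y, hy, n, hn, hl⟩ := mem_sup_normalizing N Q hQN l l.2
    refine ⟨⟨y, hy⟩, QuotientGroup.eq.mpr ?_⟩
    rw [Subgroup.mem_subgroupOf]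
    simp only [Subgroup.coe_mul, Subgroup.coe_inv, Subgroup.coe_inclusion]
    rw [hl, inv_mul_cancel_left]; exact hn
  haveI : Group.IsSolvable (↥(N ⊔ Q) ⧸ N.subgroupOf (N ⊔ Q)) := Group.isSolvable_of_surjective hφ
  refine Group.isSolvable_of_ker_le_range (Subgroup.inclusion (le_sup_left : N ≤ N ⊔ Q))
    (QuotientGroup.mk' (N.subgroupOf (N ⊔ Q))) ?_
  intro l hl
  have h1 : l ∈ N.subgroupOf (N ⊔ Q) := by
    rw [← QuotientGroup.ker_mk' (N.subgroupOf (N ⊔ Q))]; exact hl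
  exact ⟨⟨l, Subgroup.mem_subgroupOf.mp h1⟩, Subtype.ext rfl⟩

theorem normalizer_sup_of_mem {G : Type*} [Group G] (P Q : Subgroup G) (z : G)
    (hP : z ∈ Subgroup.normalizer (P : Set G)) (hQ : z ∈ Subgroup.normalizer (Q : Set G)) :
    z ∈ Subgroup.normalizer ((P ⊔ Q : Subgroup G) : Set G) := by
  have key : ∀ w : G, w ∈ Subgroup.normalizer (P : Set G) → w ∈ Subgroup.normalizer (Q : Set G) →
      ∀ h ∈ P ⊔ Q, w * h * w⁻¹ ∈ P ⊔ Q := by
    intro w hwP hwQ h hh
    have hle : P ⊔ Q ≤ (P ⊔ Q).comap (MulAut.conj w).toMonoidHom := by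
      refine sup_le ?_ ?_
      · intro x hx
        rw [Subgroup.mem_comap]
        show w * x * w⁻¹ ∈ P ⊔ Q
        exact (le_sup_left : P ≤ P ⊔ Q) ((Subgroup.mem_normalizer_iff.mp hwP x).mp hx)
      · intro x hx
        rw [Subgroup.mem_comap]
        show w * x * w⁻¹ ∈ P ⊔ Q
        exact (le_sup_right : Q ≤ P ⊔ Q) ((Subgroup.mem_normalizer_iff.mp hwQ x).mp hx)
    exact hle hh
  rw [Subgroup.mem_normalizer_iff]
  intro h
  constructor
  · exact key z hP hQ h
  · intro hh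
    have := key z⁻¹ (Subgroup.inv_mem _ hP) (Subgroup.inv_mem _ hQ) _ hh
    simpa [mul_assoc] using this

theorem three_primes_normal_series {G : Type u} [Group G] [Finite G] (P M : Subgroup G)
    [P.Normal] [M.Normal]
    (p q r : ℕ) (hp : p.Prime) (hq : q.Prime) (hr : r.Prime) (hpq : p ≠ q) (hpr : p ≠ r) (hqr : q ≠ r)
    (hP : IsPGroup p P) (hpP : p ∣ Nat.card P) (hqM : q ∣ Nat.card M) (hrM : r ∣ M.index) :
    ∃ x : G, orderOf x = p * q ∨ orderOf x = p * r ∨ orderOf x = q * r := by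
  haveI : Fact p.Prime := ⟨hp⟩
  haveI : Fact q.Prime := ⟨hq⟩
  haveI : Fact r.Prime := ⟨hr⟩
  obtain ⟨Q0⟩ : Nonempty (Sylow q M) := inferInstance
  obtain ⟨Q, hQdef⟩ : ∃ Q : Subgroup G, Q = (Q0 : Subgroup M).map M.subtype := ⟨_, rfl⟩
  have hfr : Subgroup.normalizer (Q : Set G) ⊔ M = ⊤ := by
    rw [hQdef]; exact Sylow.normalizer_sup_eq_top Q0
  have hQq : IsPGroup q Q := by rw [hQdef]; exact Q0.isPGroup'.map M.subtype
  have hqQ : q ∣ Nat.card Q := by
    rw [hQdef, Subgroup.card_map_of_injective M.subtype_injective]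
    exact Q0.dvd_card_of_dvd_card hqM
  have hrN : r ∣ Nat.card (Subgroup.normalizer (Q : Set G)) := by
    have h1 : M.relIndex (Subgroup.normalizer (Q : Set G)) = M.index := by
      rw [← Subgroup.relIndex_sup_right, hfr, Subgroup.relIndex_top_right]
    have h2 : r ∣ M.relIndex (Subgroup.normalizer (Q : Set G)) := by rw [h1]; exact hrM
    exact h2.trans (Subgroup.relIndex_dvd_card _ _)
  obtain ⟨z, hz⟩ := exists_prime_orderOf_dvd_card' r hrN
  have hzQ : (z : G) ∈ Subgroup.normalizer (Q : Set G) := z.2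
  have hzo : orderOf (z : G) = r := by rw [Subgroup.orderOf_coe]; exact hz
  have hPtop : Subgroup.normalizer (P : Set G) = ⊤ := Subgroup.normalizer_eq_top_iff.mpr inferInstance
  haveI : Group.IsSolvable P := by haveI := hP.isNilpotent; infer_instance
  haveI : Group.IsSolvable Q := by haveI := hQq.isNilpotent; infer_instance
  haveI : Group.IsSolvable ↥(P ⊔ Q) := solvable_sup_normalizing P Q (by rw [hPtop]; exact le_top)
  haveI : Group.IsSolvable (Subgroup.zpowers (z : G)) := Group.isSolvable_of_comm (fun a b => by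
    obtain ⟨i, hi⟩ := Subgroup.mem_zpowers_iff.mp a.2
    obtain ⟨j, hj⟩ := Subgroup.mem_zpowers_iff.mp b.2
    apply Subtype.ext
    rw [Subgroup.coe_mul, Subgroup.coe_mul, ← hi, ← hj, ← zpow_add, ← zpow_add, add_comm])
  have hzL : Subgroup.zpowers (z : G) ≤ Subgroup.normalizer ((P ⊔ Q : Subgroup G) : Set G) := by
    rw [Subgroup.zpowers_le]
    exact normalizer_sup_of_mem P Q z (by rw [hPtop]; exact Subgroup.mem_top _) hzQ
  haveI hLs : Group.IsSolvable ↥((P ⊔ Q) ⊔ Subgroup.zpowers (z : G)) :=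
    solvable_sup_normalizing _ _ hzL
  have hPL : P ≤ (P ⊔ Q) ⊔ Subgroup.zpowers (z : G) := le_sup_left.trans le_sup_left
  have hQL : Q ≤ (P ⊔ Q) ⊔ Subgroup.zpowers (z : G) := le_sup_right.trans le_sup_left
  have hzL' : (z : G) ∈ (P ⊔ Q) ⊔ Subgroup.zpowers (z : G) :=
    (le_sup_right : Subgroup.zpowers (z : G) ≤ _) (Subgroup.mem_zpowers _)
  obtain ⟨x, hx⟩ := Cfsg.Agent.S3633.three_primes_solvable
    (G := ↥((P ⊔ Q) ⊔ Subgroup.zpowers (z : G))) p q r hp hq hr hpq hpr hqr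
    (hpP.trans (Subgroup.card_dvd_of_le hPL)) (hqQ.trans (Subgroup.card_dvd_of_le hQL))
    (by rw [← hzo]; exact Subgroup.orderOf_dvd_natCard _ hzL')
  exact ⟨(x : G), by rw [Subgroup.orderOf_coe]; exact hx⟩

/-- Let G be a finite group with normal subgroups K ≤ M, and let p, q, r be distinct primes with p dividing the order of K, q dividing the order of M/K and r dividing the order of G/M. Then p, q, r are not pairwise non-adjacent in the prime graph of G: G has an element of order pq, pr or qr. -/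
theorem result {G : Type*} [Group G] [Finite G] (K M : Subgroup G) [K.Normal] [M.Normal] (hKM : K ≤ M)
    (p q r : ℕ) (hp : p.Prime) (hq : q.Prime) (hr : r.Prime) (hpq : p ≠ q) (hpr : p ≠ r) (hqr : q ≠ r)
    (hpK : p ∣ Nat.card ↥K) (hqM : q ∣ Nat.card ↥M / Nat.card ↥K) (hrG : r ∣ Nat.card G / Nat.card ↥M) :
    (∃ x : G, orderOf x = p * q) ∨ (∃ x : G, orderOf x = p * r) ∨ (∃ x : G, orderOf x = q * r) := by
  haveI : Fact p.Prime := ⟨hp⟩
  obtain ⟨P0⟩ : Nonempty (Sylow p K) := inferInstance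
  obtain ⟨P, hPdef⟩ : ∃ P : Subgroup G, P = (P0 : Subgroup K).map K.subtype := ⟨_, rfl⟩
  have hfr : Subgroup.normalizer (P : Set G) ⊔ K = ⊤ := by
    rw [hPdef]; exact Sylow.normalizer_sup_eq_top P0
  have hPp : IsPGroup p P := by rw [hPdef]; exact P0.isPGroup'.map K.subtype
  have hpP : p ∣ Nat.card P := by
    rw [hPdef, Subgroup.card_map_of_injective K.subtype_injective]
    exact P0.dvd_card_of_dvd_card hpK
  obtain ⟨N1, hN1⟩ : ∃ N1 : Subgroup G, N1 = Subgroup.normalizer (P : Set G) := ⟨_, rfl⟩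
  rw [← hN1] at hfr
  have hPN : P ≤ N1 := by rw [hN1]; exact Subgroup.le_normalizer
  have hrM : r ∣ M.index := by
    have h1 : Nat.card M * M.index = Nat.card G := Subgroup.card_mul_index M
    have h2 : Nat.card G / Nat.card M = M.index := by
      rw [← h1]; exact Nat.mul_div_cancel_left _ Nat.card_pos
    rw [← h2]; exact hrG
  have hqrel : q ∣ K.relIndex M := by
    have h1 : Nat.card (K.subgroupOf M) * (K.subgroupOf M).index = Nat.card M :=
      Subgroup.card_mul_index _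
    have h0 : Nat.card (K.subgroupOf M) = Nat.card K :=
      Nat.card_congr (Subgroup.subgroupOfEquivOfLe hKM).toEquiv
    have h2 : Nat.card M / Nat.card K = (K.subgroupOf M).index := by
      rw [← h1, h0]; exact Nat.mul_div_cancel_left _ Nat.card_pos
    rw [h2] at hqM; exact hqM
  have hNM : N1 ⊔ M = ⊤ := by
    apply top_le_iff.mp; rw [← hfr]; exact sup_le_sup_left hKM N1
  have hmod : (N1 ⊓ M) ⊔ K = M := by
    apply le_antisymm (sup_le inf_le_right hKM)
    intro m hm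
    have hm' : m ∈ N1 ⊔ K := by rw [hfr]; exact Subgroup.mem_top m
    obtain ⟨n, hn, k, hk, rfl⟩ := Subgroup.mem_sup_of_normal_right.mp hm'
    have hnM : n ∈ M := by
      have := M.mul_mem hm (M.inv_mem (hKM hk))
      simpa using this
    exact Subgroup.mul_mem_sup (Subgroup.mem_inf.mpr ⟨hn, hnM⟩) hk
  have hqN : q ∣ Nat.card (M.subgroupOf N1) := by
    have h1 : K.relIndex (N1 ⊓ M) = K.relIndex M := by
      rw [← Subgroup.relIndex_sup_right, hmod]
    have h2 : K.relIndex (N1 ⊓ M) ∣ Nat.card ↥(N1 ⊓ M) := Subgroup.relIndex_dvd_card _ _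
    have h3 : Nat.card (M.subgroupOf N1) = Nat.card ↥(N1 ⊓ M) :=
      Nat.card_congr ⟨fun x => ⟨(x : G), Subgroup.mem_inf.mpr ⟨x.1.2, Subgroup.mem_subgroupOf.mp x.2⟩⟩,
        fun y => ⟨⟨(y : G), (Subgroup.mem_inf.mp y.2).1⟩,
          Subgroup.mem_subgroupOf.mpr (Subgroup.mem_inf.mp y.2).2⟩, fun x => rfl, fun y => rfl⟩
    have h4 : q ∣ K.relIndex (N1 ⊓ M) := by rw [h1]; exact hqrel
    rw [h3]; exact h4.trans h2
  have hrN : r ∣ (M.subgroupOf N1).index := by
    have h1 : M.relIndex N1 = M.index := by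
      rw [← Subgroup.relIndex_sup_right, hNM, Subgroup.relIndex_top_right]
    have h2 : r ∣ M.relIndex N1 := by rw [h1]; exact hrM
    exact h2
  haveI : (P.subgroupOf N1).Normal :=
    (Subgroup.normal_subgroupOf_iff_le_normalizer hPN).mpr hN1.le
  have hP1 : IsPGroup p (P.subgroupOf N1) := hPp.comap_subtype
  have hpP1 : p ∣ Nat.card (P.subgroupOf N1) := by
    rw [Nat.card_congr (Subgroup.subgroupOfEquivOfLe hPN).toEquiv]; exact hpP
  obtain ⟨x, hx⟩ := three_primes_normal_series (G := N1) (P.subgroupOf N1) (M.subgroupOf N1)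
    p q r hp hq hr hpq hpr hqr hP1 hpP1 hqN hrN
  rw [← Subgroup.orderOf_coe] at hx
  rcases hx with h | h | h
  · exact Or.inl ⟨_, h⟩
  · exact Or.inr (Or.inl ⟨_, h⟩)
  · exact Or.inr (Or.inr ⟨_, h⟩)

end Cfsg.Agent.S3634
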