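import Cfsg.Statements.S3741
import Mathlib
import Cfsg.Agent.S0994
import Cfsg.Agent.Lead.Coprime2

set_option autoImplicit false
open Cfsg

namespace Cfsg.Agent.S3741

open scoped commutatorElement

theorem side {G : Type*} [Group G] [Finite G] (p : ℕ) [Fact p.Prime] (A B Z : Subgroup G)
    (hZp : Nat.card Z = p) (hcomm : ∀ a ∈ A, ∀ b ∈ B, ⁅a, b⁆ ∈ Z)
    (hZB : ∀ z ∈ Z, ∀ b ∈ B, z * b = b * z) (a : G) (ha : a ∈ A) :
    (a ∈ Subgroup.centralizer (B : Set G) →
        Nat.card {b : B // a * (b : G) = b * a} = Nat.card B) ∧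
    (a ∉ Subgroup.centralizer (B : Set G) →
        p * Nat.card {b : B // a * (b : G) = b * a} = Nat.card B) := by
  have hp : p.Prime := Fact.out
  constructor
  · intro hac
    rw [Subgroup.mem_centralizer_iff] at hac
    exact Nat.card_congr (Equiv.subtypeUnivEquiv (fun b => (hac b b.2).symm))
  · intro hac
    rw [Subgroup.mem_centralizer_iff] at hac
    push_neg at hac
    obtain ⟨b₁, hb₁, hne⟩ := hac
    let ψ : B →* Z :=
      { toFun := fun b => ⟨⁅a, (b : G)⁆, hcomm a ha b b.2⟩
        map_one' := by apply Subtype.ext; simp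
        map_mul' := by
          intro b b'
          apply Subtype.ext
          show ⁅a, ((b * b' : B) : G)⁆ = ⁅a, (b : G)⁆ * ⁅a, (b' : G)⁆
          have e : ⁅a, (b : G) * b'⁆ = ⁅a, (b : G)⁆ * ((b : G) * ⁅a, (b' : G)⁆ * (b : G)⁻¹) := by
            simp only [commutatorElement_def]; group
          have e2 : (b : G) * ⁅a, (b' : G)⁆ * (b : G)⁻¹ = ⁅a, (b' : G)⁆ := by
            rw [← hZB _ (hcomm a ha b' b'.2) b b.2, mul_inv_cancel_right]
          rw [Subgroup.coe_mul, e, e2] }
    have hψ : ∀ b : B, ψ b = 1 ↔ a * (b : G) = b * a := by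
      intro b
      rw [← commutatorElement_eq_one_iff_mul_comm]
      constructor
      · intro h; exact congrArg (fun t : Z => (t : G)) h
      · intro h; exact Subtype.ext h
    haveI : Fact (Nat.card Z).Prime := ⟨by rw [hZp]; exact hp⟩
    have hrange : ψ.range = ⊤ := by
      rcases Subgroup.eq_bot_or_eq_top_of_prime_card ψ.range with h | h
      · exfalso
        have h1 : ψ ⟨b₁, hb₁⟩ ∈ ψ.range := ⟨_, rfl⟩
        rw [h, Subgroup.mem_bot, hψ] at h1
        exact hne h1.symm
      · exact h
    have h1 := Subgroup.card_mul_index ψ.ker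
    rw [Subgroup.index_ker, hrange, Subgroup.card_top, hZp] at h1
    have h2 : Nat.card ψ.ker = Nat.card {b : B // a * (b : G) = b * a} :=
      Nat.card_congr (Equiv.subtypeEquivRight (fun b => by rw [MonoidHom.mem_ker]; exact hψ b))
    rw [h2, mul_comm] at h1
    exact h1

/-- Let A and B be subgroups of a finite p-group with [A, B] ≤ A ∩ B and [A, B] of order at most p. Then |A : C_A(B)| = |B : C_B(A)|. -/
theorem result {G : Type*} [Group G] [Finite G] {p : ℕ} [Fact p.Prime] (hG : IsPGroup p G) (A B : Subgroup G) (hAB : ⁅A, B⁆ ≤ A ⊓ B) (hcard : Nat.card ↥⁅A, B⁆ ≤ p) : (A ⊓ Subgroup.centralizer (B : Set G)).relIndex A = (B ⊓ Subgroup.centralizer (A : Set G)).relIndex B := by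
  classical
  have hp : p.Prime := Fact.out
  obtain ⟨Z, hZdef⟩ : ∃ Z : Subgroup G, Z = ⁅A, B⁆ := ⟨_, rfl⟩
  rw [← hZdef] at hAB hcard
  have hcommAB : ∀ a ∈ A, ∀ b ∈ B, ⁅a, b⁆ ∈ Z := fun a ha b hb => by
    rw [hZdef]; exact Subgroup.commutator_mem_commutator ha hb
  by_cases hZ1 : Z = ⊥
  · have hAC : A ≤ Subgroup.centralizer (B : Set G) := by
      intro a ha
      rw [Subgroup.mem_centralizer_iff]
      intro b hb
      have h := hcommAB a ha b hb
      rw [hZ1, Subgroup.mem_bot] at h
      exact (commutatorElement_eq_one_iff_mul_comm.mp h).symm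
    have hBC : B ≤ Subgroup.centralizer (A : Set G) := by
      intro b hb
      rw [Subgroup.mem_centralizer_iff]
      intro a ha
      have h := hcommAB a ha b hb
      rw [hZ1, Subgroup.mem_bot] at h
      exact commutatorElement_eq_one_iff_mul_comm.mp h
    rw [inf_of_le_left hAC, inf_of_le_left hBC, Subgroup.relIndex_self, Subgroup.relIndex_self]
  · have hZp : Nat.card Z = p := by
      obtain ⟨k, hk⟩ := IsPGroup.iff_card.mp (hG.to_subgroup Z)
      have hk0 : k ≠ 0 := by
        rintro rfl
        rw [pow_zero] at hk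
        exact hZ1 ((Subgroup.eq_bot_iff_card Z).mpr hk)
      have hk1 : k ≤ 1 := by
        by_contra h
        push_neg at h
        have h1 : p ^ 2 ≤ p ^ k := Nat.pow_le_pow_right hp.pos h
        rw [← hk] at h1
        have h2 : p ^ 2 ≤ p := h1.trans hcard
        have h3 := hp.two_le
        nlinarith
      have hk' : k = 1 := by omega
      rw [hk, hk', pow_one]
    have hcopr : Nat.Coprime (Nat.card (Subgroup.normalizer (Z : Set G))) (p - 1) := by
      obtain ⟨j, hj⟩ := IsPGroup.iff_card.mp (hG.to_subgroup (Subgroup.normalizer (Z : Set G)))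
      rw [hj]
      apply Nat.Coprime.pow_left
      exact (Nat.Prime.coprime_iff_not_dvd hp).mpr
        (Nat.not_dvd_of_pos_of_lt (by have := hp.two_le; omega) (by have := hp.two_le; omega))
    have hNC := Cfsg.Agent.S0994.normalizer_le_centralizer_of_coprime p Z hZp hcopr
    have hAN : A ≤ Subgroup.normalizer (Z : Set G) := by
      rw [hZdef]; exact Cfsg.Agent.Lead.le_normalizer_commutator_left A B
    have hBN : B ≤ Subgroup.normalizer (Z : Set G) := by
      rw [hZdef, Subgroup.commutator_comm]
      exact Cfsg.Agent.Lead.le_normalizer_commutator_left B A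
    have hZA : ∀ z ∈ Z, ∀ a ∈ A, z * a = a * z := fun z hz a ha =>
      Subgroup.mem_centralizer_iff.mp (hNC (hAN ha)) z hz
    have hZB : ∀ z ∈ Z, ∀ b ∈ B, z * b = b * z := fun z hz b hb =>
      Subgroup.mem_centralizer_iff.mp (hNC (hBN hb)) z hz
    have hcommBA : ∀ b ∈ B, ∀ a ∈ A, ⁅b, a⁆ ∈ Z := fun b hb a ha => by
      rw [← commutatorElement_inv]; exact Z.inv_mem (hcommAB a ha b hb)
    haveI : Fintype A := Fintype.ofFinite _
    haveI : Fintype B := Fintype.ofFinite _
    have hdc : ∑ a : A, (Finset.univ.filter (fun b : B => (a : G) * (b : G) = b * a)).card =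
        ∑ b : B, (Finset.univ.filter (fun a : A => (a : G) * (b : G) = b * a)).card :=
      Finset.sum_card_bipartiteAbove_eq_sum_card_bipartiteBelow
        (s := (Finset.univ : Finset A)) (t := (Finset.univ : Finset B))
        (r := fun (a : A) (b : B) => (a : G) * (b : G) = b * a)
    obtain ⟨q, hq⟩ : ∃ q, p = q + 1 := ⟨p - 1, by have := hp.two_le; omega⟩
    have hq0 : 0 < q := by have := hp.two_le; omega
    have hLa : ∀ a : A, p * (Finset.univ.filter (fun b : B => (a : G) * (b : G) = b * a)).card =
        Nat.card B + (if (a : G) ∈ Subgroup.centralizer (B : Set G) then q * Nat.card B else 0) := by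
      intro a
      have hcnt : (Finset.univ.filter (fun b : B => (a : G) * (b : G) = b * a)).card =
          Nat.card {b : B // (a : G) * (b : G) = b * a} := by
        rw [Nat.card_eq_fintype_card]
        symm
        apply Fintype.card_of_subtype
        intro b
        simp
      obtain ⟨h1, h2⟩ := side p A B Z hZp hcommAB hZB (a : G) a.2
      by_cases hc : (a : G) ∈ Subgroup.centralizer (B : Set G)
      · rw [if_pos hc, hcnt, h1 hc, hq]; ring
      · rw [if_neg hc, hcnt, h2 hc, add_zero]
    have hLb : ∀ b : B, p * (Finset.univ.filter (fun a : A => (a : G) * (b : G) = b * a)).card =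
        Nat.card A + (if (b : G) ∈ Subgroup.centralizer (A : Set G) then q * Nat.card A else 0) := by
      intro b
      have hcnt : (Finset.univ.filter (fun a : A => (a : G) * (b : G) = b * a)).card =
          Nat.card {a : A // (b : G) * (a : G) = a * b} := by
        rw [Nat.card_eq_fintype_card]
        symm
        apply Fintype.card_of_subtype
        intro a
        simp [eq_comm]
      obtain ⟨h1, h2⟩ := side p B A Z hZp hcommBA hZA (b : G) b.2
      by_cases hc : (b : G) ∈ Subgroup.centralizer (A : Set G)
      · rw [if_pos hc, hcnt, h1 hc, hq]; ring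
      · rw [if_neg hc, hcnt, h2 hc, add_zero]
    obtain ⟨nA, hnAdef⟩ : ∃ nA, nA =
        Nat.card ((A ⊓ Subgroup.centralizer (B : Set G)).subgroupOf A) := ⟨_, rfl⟩
    obtain ⟨nB, hnBdef⟩ : ∃ nB, nB =
        Nat.card ((B ⊓ Subgroup.centralizer (A : Set G)).subgroupOf B) := ⟨_, rfl⟩
    have hfiltA : (Finset.univ.filter
        (fun a : A => (a : G) ∈ Subgroup.centralizer (B : Set G))).card = nA := by
      rw [hnAdef, Nat.card_eq_fintype_card]
      symm
      apply Fintype.card_of_subtype
      intro a
      rw [Finset.mem_filter, Subgroup.mem_subgroupOf, Subgroup.mem_inf]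
      simp [a.2]
    have hfiltB : (Finset.univ.filter
        (fun b : B => (b : G) ∈ Subgroup.centralizer (A : Set G))).card = nB := by
      rw [hnBdef, Nat.card_eq_fintype_card]
      symm
      apply Fintype.card_of_subtype
      intro b
      rw [Finset.mem_filter, Subgroup.mem_subgroupOf, Subgroup.mem_inf]
      simp [b.2]
    have hsumA : p * ∑ a : A, (Finset.univ.filter (fun b : B => (a : G) * (b : G) = b * a)).card =
        Nat.card A * Nat.card B + nA * (q * Nat.card B) := by
      rw [Finset.mul_sum, Finset.sum_congr rfl (fun a _ => hLa a), Finset.sum_add_distrib,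
        Finset.sum_const, Finset.card_univ, smul_eq_mul, ← Nat.card_eq_fintype_card,
        Finset.sum_ite, Finset.sum_const_zero, add_zero, Finset.sum_const, smul_eq_mul, hfiltA]
    have hsumB : p * ∑ b : B, (Finset.univ.filter (fun a : A => (a : G) * (b : G) = b * a)).card =
        Nat.card B * Nat.card A + nB * (q * Nat.card A) := by
      rw [Finset.mul_sum, Finset.sum_congr rfl (fun b _ => hLb b), Finset.sum_add_distrib,
        Finset.sum_const, Finset.card_univ, smul_eq_mul, ← Nat.card_eq_fintype_card,
        Finset.sum_ite, Finset.sum_const_zero, add_zero, Finset.sum_const, smul_eq_mul, hfiltB]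
    rw [hdc, hsumB] at hsumA
    have hkey : nA * Nat.card B = nB * Nat.card A := by
      have h1 : nB * (q * Nat.card A) = nA * (q * Nat.card B) := by
        have h0 : Nat.card B * Nat.card A = Nat.card A * Nat.card B := mul_comm _ _
        omega
      have h2 : q * (nB * Nat.card A) = q * (nA * Nat.card B) := by
        calc q * (nB * Nat.card A) = nB * (q * Nat.card A) := by ring
          _ = nA * (q * Nat.card B) := h1
          _ = q * (nA * Nat.card B) := by ring
      exact (Nat.eq_of_mul_eq_mul_left hq0 h2).symm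
    have hrA : nA * (A ⊓ Subgroup.centralizer (B : Set G)).relIndex A = Nat.card A := by
      rw [hnAdef]; exact Subgroup.card_mul_index _
    have hrB : nB * (B ⊓ Subgroup.centralizer (A : Set G)).relIndex B = Nat.card B := by
      rw [hnBdef]; exact Subgroup.card_mul_index _
    have hnA0 : 0 < nA := by rw [hnAdef]; exact Nat.card_pos
    have hnB0 : 0 < nB := by rw [hnBdef]; exact Nat.card_pos
    rw [← hrA, ← hrB] at hkey
    have h3 : (nA * nB) * (B ⊓ Subgroup.centralizer (A : Set G)).relIndex B =
        (nA * nB) * (A ⊓ Subgroup.centralizer (B : Set G)).relIndex A := by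
      calc (nA * nB) * (B ⊓ Subgroup.centralizer (A : Set G)).relIndex B
          = nA * (nB * (B ⊓ Subgroup.centralizer (A : Set G)).relIndex B) := by ring
        _ = nB * (nA * (A ⊓ Subgroup.centralizer (B : Set G)).relIndex A) := hkey
        _ = (nA * nB) * (A ⊓ Subgroup.centralizer (B : Set G)).relIndex A := by ring
    exact (Nat.eq_of_mul_eq_mul_left (Nat.mul_pos hnA0 hnB0) h3).symm


end Cfsg.Agent.S3741
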