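import Cfsg.Statements.S3807
import Mathlib
import Cfsg.Agent.Lead.PLcs
import Cfsg.Agent.Lead.PCount
import Cfsg.Agent.S3803

set_option autoImplicit false
open Cfsg

namespace Cfsg.Agent.S3807

open scoped commutatorElement

/-- Let S be a non-abelian finite p-group with an abelian subgroup A of index p. Then [S : Z(S)] = p·#[S,S], and either [S,S] has order p, S/Z(S) is elementary abelian of order p², and S has exactly p + 1 abelian subgroups of index p; or [S,S] has order at least p² and A is the only abelian subgroup of index p in S. -/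
theorem result {S : Type*} [Group S] [Finite S] (p : ℕ) [Fact p.Prime] (hS : IsPGroup p S) (hna : ¬ IsMulCommutative S)
    (A : Subgroup S) (hA : IsMulCommutative ↥A) (hAi : A.index = p) :
    (Subgroup.center S).index = p * Nat.card (commutator S) ∧
      ((Nat.card (commutator S) = p ∧ Cfsg.IsElementaryAbelian p (⊤ : Subgroup (S ⧸ Subgroup.center S)) ∧
          Nat.card (S ⧸ Subgroup.center S) = p ^ 2 ∧
          Nat.card {B : Subgroup S // IsMulCommutative ↥B ∧ B.index = p} = p + 1) ∨
        (p ^ 2 ≤ Nat.card (commutator S) ∧ ∀ B : Subgroup S, IsMulCommutative ↥B → B.index = p → B = A)) := by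
  classical
  have hpp : p.Prime := Fact.out
  have hnc : ¬ (∀ a b : S, a * b = b * a) := fun h => hna ⟨⟨h⟩⟩
  have hZmem : ∀ z : S, z ∈ Subgroup.center S ↔ ∀ g : S, g * z = z * g :=
    fun z => Subgroup.mem_center_iff
  have hZnt : Subgroup.center S ≠ ⊤ := by
    intro h
    apply hnc
    intro a b
    have hb : b ∈ Subgroup.center S := by rw [h]; exact Subgroup.mem_top b
    exact (hZmem b).mp hb a
  have hmemC : ∀ g x : S, x ∈ Subgroup.centralizer ({g} : Set S) ↔ g * x = x * g := by
    intro g x
    rw [Subgroup.mem_centralizer_iff]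
    constructor
    · intro h; exact h g (Set.mem_singleton g)
    · intro h y hy; rw [Set.mem_singleton_iff.mp hy]; exact h
  have hBcomm : ∀ B : Subgroup S, IsMulCommutative ↥B → ∀ a ∈ B, ∀ b ∈ B, a * b = b * a := by
    intro B hB a ha b hb
    have h := hB.is_comm.comm ⟨a, ha⟩ ⟨b, hb⟩
    exact congrArg Subtype.val h
  have hZle : ∀ B : Subgroup S, IsMulCommutative ↥B → B.index = p → Subgroup.center S ≤ B := by
    intro B hB hBi
    by_contra hnot
    obtain ⟨z, hzZ, hzB⟩ := SetLike.not_le_iff_exists.mp hnot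
    have hBC : B ≤ Subgroup.centralizer (B : Set S) :=
      Subgroup.le_centralizer_iff_isMulCommutative.mpr hB
    have hzC : z ∈ Subgroup.centralizer (B : Set S) := by
      rw [Subgroup.mem_centralizer_iff]; intro h _; exact (hZmem z).mp hzZ h
    rcases S3918.max_of_index_prime hpp _ _ hBi hBC with h | h
    · exact hzB (h ▸ hzC)
    · have hBZ : B ≤ Subgroup.center S := by
        intro b hb
        rw [hZmem]
        intro g
        have hg : g ∈ Subgroup.centralizer (B : Set S) := by rw [h]; exact Subgroup.mem_top g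
        exact ((Subgroup.mem_centralizer_iff.mp hg) b hb).symm
      rcases S3918.max_of_index_prime hpp _ _ hBi hBZ with h2 | h2
      · exact hzB (h2 ▸ hzZ)
      · exact hZnt h2
  obtain ⟨n, hn⟩ := IsPGroup.iff_card.mp hS
  have hn0 : n ≠ 0 := by
    intro h0
    rw [h0, pow_zero] at hn
    apply hnc
    intro a b
    haveI : Subsingleton S := (Nat.card_eq_one_iff_unique.mp hn).1
    have e1 := Subsingleton.elim a b
    rw [e1]
  haveI hAn : A.Normal :=
    Subgroup.normal_of_index_eq_minFac_card (by rw [hAi, hn, hpp.pow_minFac hn0])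
  have hAnt : A ≠ ⊤ := by
    intro h; rw [h, Subgroup.index_top] at hAi; exact hpp.one_lt.ne hAi
  obtain ⟨g, hg⟩ : ∃ g : S, g ∉ A := by
    by_contra hall
    push_neg at hall
    exact hAnt (eq_top_iff.mpr (fun x _ => hall x))
  have hgen : ∀ K : Subgroup S, A ≤ K → g ∈ K → K = ⊤ := by
    intro K hAK hgK
    rcases S3918.max_of_index_prime hpp _ _ hAi hAK with h | h
    · exact absurd (h ▸ hgK) hg
    · exact h
  have hZA : Subgroup.center S ≤ A := hZle A hA hAi
  have hAc := hBcomm A hA
  have hcomA : ∀ a ∈ A, ⁅a, g⁆ ∈ A := by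
    intro a ha
    have h1 : g * a⁻¹ * g⁻¹ ∈ A := hAn.conj_mem _ (A.inv_mem ha) g
    have e : ⁅a, g⁆ = a * (g * a⁻¹ * g⁻¹) := by rw [commutatorElement_def]; group
    rw [e]; exact A.mul_mem ha h1
  have hmul : ∀ a b : ↥A, ⁅((a * b : ↥A) : S), g⁆ = ⁅(a : S), g⁆ * ⁅(b : S), g⁆ := by
    intro a b
    have hc : (a : S) * ⁅(b : S), g⁆ = ⁅(b : S), g⁆ * (a : S) := hAc _ a.2 _ (hcomA _ b.2)
    have hc2 : ⁅(b : S), g⁆ * ⁅(a : S), g⁆ = ⁅(a : S), g⁆ * ⁅(b : S), g⁆ :=
      hAc _ (hcomA _ b.2) _ (hcomA _ a.2)
    have e1 : ⁅((a * b : ↥A) : S), g⁆ = (a : S) * ⁅(b : S), g⁆ * (a : S)⁻¹ * ⁅(a : S), g⁆ := by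
      rw [Subgroup.coe_mul]; simp only [commutatorElement_def]; group
    rw [e1, hc, mul_inv_cancel_right, hc2]
  obtain ⟨φ, hφ⟩ : ∃ φ : ↥A →* S, ∀ a : ↥A, φ a = ⁅(a : S), g⁆ :=
    ⟨MonoidHom.mk' (fun a : ↥A => ⁅(a : S), g⁆) hmul, fun a => rfl⟩
  obtain ⟨I, hIdef⟩ : ∃ I : Subgroup S, I = φ.range := ⟨_, rfl⟩
  have hImem : ∀ a ∈ A, ⁅a, g⁆ ∈ I := by
    intro a ha; rw [hIdef]; exact MonoidHom.mem_range.mpr ⟨⟨a, ha⟩, hφ _⟩
  have hIA : I ≤ A := by
    rw [hIdef]; rintro _ ⟨a, rfl⟩; rw [hφ]; exact hcomA _ a.2
  have hker : φ.ker = (Subgroup.center S).subgroupOf A := by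
    ext a
    rw [MonoidHom.mem_ker, hφ, Subgroup.mem_subgroupOf, commutatorElement_eq_one_iff_mul_comm]
    constructor
    · intro h
      have hT := hgen (Subgroup.centralizer ({(a : S)} : Set S))
        (fun b hb => (hmemC _ _).mpr (hAc _ a.2 _ hb))
        ((hmemC _ _).mpr h)
      rw [hZmem]
      intro x
      have hx : x ∈ Subgroup.centralizer ({(a : S)} : Set S) := by
        rw [hT]; exact Subgroup.mem_top x
      exact ((hmemC _ _).mp hx).symm
    · intro h
      exact ((hZmem _).mp h g).symm
  have hidx1 : (Subgroup.center S).relIndex A = Nat.card I := by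
    have h1 := Subgroup.index_ker φ
    rw [hker] at h1
    rw [hIdef]; exact h1
  have hZidx : (Subgroup.center S).index = Nat.card I * p := by
    have h1 := Subgroup.relIndex_mul_index hZA
    rw [hidx1, hAi] at h1
    exact h1.symm
  haveI hIn : I.Normal := by
    apply Subgroup.normalizer_eq_top_iff.mp
    apply hgen
    · intro a ha
      apply S3803.mem_normalizer_of_fwd
      intro u hu
      have huA := hIA hu
      have e : a * u * a⁻¹ = u := by rw [hAc a ha u huA, mul_inv_cancel_right]
      rw [e]; exact hu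
    · apply S3803.mem_normalizer_of_fwd
      intro u hu
      rw [hIdef] at hu
      obtain ⟨a, rfl⟩ := MonoidHom.mem_range.mp hu
      rw [hφ]
      have e : g * ⁅(a : S), g⁆ * g⁻¹ = ⁅g * (a : S) * g⁻¹, g⁆ := by
        simp only [commutatorElement_def]; group
      rw [e]
      exact hImem _ (hAn.conj_mem _ a.2 g)
  have hπ : ∀ x y : S, (QuotientGroup.mk' I x) * (QuotientGroup.mk' I y) =
      (QuotientGroup.mk' I y) * (QuotientGroup.mk' I x) := by
    have hK : ∀ y : S,
        (∀ a ∈ A, QuotientGroup.mk' I y * QuotientGroup.mk' I a =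
          QuotientGroup.mk' I a * QuotientGroup.mk' I y) →
        (QuotientGroup.mk' I y * QuotientGroup.mk' I g =
          QuotientGroup.mk' I g * QuotientGroup.mk' I y) →
        ∀ x : S, QuotientGroup.mk' I y * QuotientGroup.mk' I x =
          QuotientGroup.mk' I x * QuotientGroup.mk' I y := by
      intro y hyA hyg x
      have hT := hgen ((Subgroup.centralizer ({QuotientGroup.mk' I y} : Set (S ⧸ I))).comap
          (QuotientGroup.mk' I))
        (fun a ha => by
          rw [Subgroup.mem_comap, Subgroup.mem_centralizer_iff]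
          intro h hh; rw [Set.mem_singleton_iff.mp hh]; exact hyA a ha)
        (by
          rw [Subgroup.mem_comap, Subgroup.mem_centralizer_iff]
          intro h hh; rw [Set.mem_singleton_iff.mp hh]; exact hyg)
      have hx : x ∈ (Subgroup.centralizer ({QuotientGroup.mk' I y} : Set (S ⧸ I))).comap
          (QuotientGroup.mk' I) := by
        rw [hT]; exact Subgroup.mem_top x
      rw [Subgroup.mem_comap, Subgroup.mem_centralizer_iff] at hx
      exact hx _ (Set.mem_singleton _)
    have hag : ∀ a ∈ A, QuotientGroup.mk' I a * QuotientGroup.mk' I g =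
        QuotientGroup.mk' I g * QuotientGroup.mk' I a := by
      intro a ha
      have h1 : QuotientGroup.mk' I ⁅a, g⁆ = 1 :=
        (QuotientGroup.eq_one_iff (N := I) _).mpr (hImem a ha)
      rw [map_commutatorElement] at h1
      exact commutatorElement_eq_one_iff_mul_comm.mp h1
    have hg1 : ∀ x : S, QuotientGroup.mk' I g * QuotientGroup.mk' I x =
        QuotientGroup.mk' I x * QuotientGroup.mk' I g :=
      hK g (fun a ha => (hag a ha).symm) rfl
    have ha1 : ∀ a ∈ A, ∀ x : S, QuotientGroup.mk' I a * QuotientGroup.mk' I x =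
        QuotientGroup.mk' I x * QuotientGroup.mk' I a := by
      intro a ha
      apply hK a
      · intro b hb
        calc QuotientGroup.mk' I a * QuotientGroup.mk' I b
            = QuotientGroup.mk' I (a * b) := (map_mul _ a b).symm
          _ = QuotientGroup.mk' I (b * a) := by rw [hAc a ha b hb]
          _ = QuotientGroup.mk' I b * QuotientGroup.mk' I a := map_mul _ b a
      · exact hag a ha
    intro x y
    exact hK x (fun a ha => (ha1 a ha x).symm) ((hg1 x).symm) y
  have hcomI : commutator S = I := by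
    apply le_antisymm
    · rw [commutator_def, Subgroup.commutator_le]
      intro x _ y _
      have h1 : QuotientGroup.mk' I ⁅x, y⁆ = 1 := by
        rw [map_commutatorElement]
        exact commutatorElement_eq_one_iff_mul_comm.mpr (hπ x y)
      exact (QuotientGroup.eq_one_iff (N := I) _).mp h1
    · rw [hIdef]
      rintro _ ⟨a, rfl⟩
      rw [hφ, commutator_def]
      exact Subgroup.commutator_mem_commutator (Subgroup.mem_top _) (Subgroup.mem_top g)
  have hpart1 : (Subgroup.center S).index = p * Nat.card (commutator S) := by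
    rw [hcomI, hZidx, mul_comm]
  refine ⟨hpart1, ?_⟩
  obtain ⟨k, hk⟩ := Lead.PLcs.card_pow hS (commutator S)
  have hk0 : k ≠ 0 := by
    intro h0
    rw [h0, pow_zero] at hk
    rw [hk, mul_one] at hpart1
    exact Lead.PLcs.index_center_ne_prime p hpp hpart1
  by_cases hk1 : k = 1
  · left
    rw [hk1, pow_one] at hk
    have hZi2 : (Subgroup.center S).index = p ^ 2 := by rw [hpart1, hk]; ring
    have hcq : Nat.card (S ⧸ Subgroup.center S) = p ^ 2 := by
      rw [← Subgroup.index_eq_card]; exact hZi2
    have hcommq := IsPGroup.commutative_of_card_eq_prime_sq hcq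
    have hidxp : ∀ H : Subgroup S, Subgroup.center S ≤ H → H ≠ ⊤ →
        ¬ (H ≤ Subgroup.center S) → H.index = p := by
      intro H hZH hHt hHZ
      have hd : H.index ∣ p ^ 2 := by rw [← hZi2]; exact Subgroup.index_dvd_of_le hZH
      obtain ⟨j, hj, hjj⟩ := (Nat.dvd_prime_pow hpp).mp hd
      have hj0 : j ≠ 0 := by
        intro h0; rw [h0, pow_zero] at hjj; exact hHt (Subgroup.index_eq_one.mp hjj)
      have hj2 : j ≠ 2 := by
        intro h2
        rw [h2] at hjj
        have h3 := Subgroup.relIndex_mul_index hZH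
        rw [hjj, hZi2] at h3
        have h4 : (Subgroup.center S).relIndex H = 1 :=
          Nat.eq_of_mul_eq_mul_right (pow_pos hpp.pos 2) (h3.trans (one_mul _).symm)
        exact hHZ (Subgroup.relIndex_eq_one.mp h4)
      have hj1 : j = 1 := by omega
      rw [hjj, hj1, pow_one]
    have hMle : ∀ x : S, Subgroup.center S ⊔ Subgroup.zpowers x ≤
        Subgroup.centralizer ({x} : Set S) := fun x =>
      sup_le (Subgroup.center_le_centralizer _) (Subgroup.zpowers_le.mpr ((hmemC x x).mpr rfl))
    have hxidx : ∀ x : S, x ∉ Subgroup.center S →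
        (Subgroup.center S ⊔ Subgroup.zpowers x).index = p := by
      intro x hx
      apply hidxp _ le_sup_left
      · intro htop
        apply hx
        rw [hZmem]
        intro y
        have hy : y ∈ Subgroup.center S ⊔ Subgroup.zpowers x := by
          rw [htop]; exact Subgroup.mem_top y
        exact ((hmemC x y).mp (hMle x hy)).symm
      · intro hle
        exact hx (hle ((le_sup_right : Subgroup.zpowers x ≤ _) (Subgroup.mem_zpowers x)))
    refine ⟨hk, ⟨⟨⟨fun a b => Subtype.ext (hcommq a.1 b.1)⟩⟩, ?_⟩, hcq, ?_⟩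
    · intro y _
      have hd : orderOf y ∣ p ^ 2 := by rw [← hcq]; exact orderOf_dvd_natCard y
      obtain ⟨j, hj, hjj⟩ := (Nat.dvd_prime_pow hpp).mp hd
      have hj2 : j ≠ 2 := by
        intro h2
        rw [h2, ← hcq] at hjj
        haveI : IsCyclic (S ⧸ Subgroup.center S) := isCyclic_of_orderOf_eq_card y hjj
        exact hnc (commutative_of_cyclic_center_quotient
          (QuotientGroup.mk' (Subgroup.center S)) (le_of_eq (QuotientGroup.ker_mk' _)))
      apply orderOf_dvd_iff_pow_eq_one.mp
      rw [hjj]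
      have hj01 : j = 0 ∨ j = 1 := by omega
      rcases hj01 with h | h
      · rw [h, pow_zero]; exact one_dvd p
      · rw [h, pow_one]
    · apply Lead.PCount.count_index_p (Subgroup.center S) hZi2 hxidx
        (fun B => IsMulCommutative ↥B ∧ B.index = p)
      · intro M hM
        exact ⟨hZle M hM.1 hM.2, hM.2⟩
      · intro x hx
        refine ⟨?_, hxidx x hx⟩
        apply Subgroup.le_centralizer_iff_isMulCommutative.mp
        apply sup_le (Subgroup.center_le_centralizer _)
        apply Subgroup.zpowers_le.mpr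
        rw [Subgroup.mem_centralizer_iff]
        intro m hm
        exact ((hmemC x m).mp (hMle x hm)).symm
  · right
    have hk2 : 2 ≤ k := by omega
    refine ⟨by rw [hk]; exact Nat.pow_le_pow_right hpp.pos hk2, ?_⟩
    intro B hB hBi
    by_contra hBA
    have hBc := hBcomm B hB
    have hinf : A ⊓ B ≤ Subgroup.center S := by
      intro x hx
      obtain ⟨hxA, hxB⟩ := Subgroup.mem_inf.mp hx
      have hAT : A ≤ Subgroup.centralizer ({x} : Set S) :=
        fun a ha => (hmemC x a).mpr (hAc x hxA a ha)
      have hBT : B ≤ Subgroup.centralizer ({x} : Set S) :=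
        fun b hb => (hmemC x b).mpr (hBc x hxB b hb)
      rcases S3918.max_of_index_prime hpp _ _ hAi hAT with h | h
      · rw [h] at hBT
        rcases S3918.max_of_index_prime hpp _ _ hBi hBT with h2 | h2
        · exact absurd h2.symm hBA
        · exact absurd h2 hAnt
      · rw [hZmem]
        intro y
        have hy : y ∈ Subgroup.centralizer ({x} : Set S) := by rw [h]; exact Subgroup.mem_top y
        exact ((hmemC x y).mp hy).symm
    have h1 : (Subgroup.center S).index ∣ (A ⊓ B).index := Subgroup.index_dvd_of_le hinf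
    have h2 : (A ⊓ B).index ≤ A.index * B.index := Subgroup.index_inf_le
    rw [hAi, hBi] at h2
    have h3 : (A ⊓ B).index ≠ 0 := Subgroup.index_ne_zero_of_finite
    have h4 : (Subgroup.center S).index ≤ (A ⊓ B).index :=
      Nat.le_of_dvd (Nat.pos_of_ne_zero h3) h1
    rw [hpart1, hk] at h4
    have h5 : p * p ^ k ≤ p * p := h4.trans h2
    have h6 : p ^ k ≤ p := Nat.le_of_mul_le_mul_left h5 hpp.pos
    have h7 : p ^ 2 ≤ p ^ k := Nat.pow_le_pow_right hpp.pos hk2
    have h8 : p ^ 1 < p ^ 2 := Nat.pow_lt_pow_right hpp.one_lt (by norm_num)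
    rw [pow_one] at h8
    omega


end Cfsg.Agent.S3807
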