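import Cfsg.Statements.S3808
import Cfsg.Agent.Helper3.GlaubRepl

set_option autoImplicit false
open Cfsg

namespace Cfsg.Agent.S3808

/-- Let S be a finite p-group with an extraspecial subgroup Q of index p. Then either Z(S) = Z(Q), or S = Q·Z(S) and Z(S) has order p². -/
theorem result {S : Type*} [Group S] [Finite S] (p : ℕ) [Fact p.Prime] (hS : IsPGroup p S) (Q : Subgroup S) (hQ : Cfsg.IsExtraspecial p ↥Q) (hQi : Q.index = p) :
    Subgroup.center S = (Subgroup.center ↥Q).map Q.subtype ∨
      (Q ⊔ Subgroup.center S = ⊤ ∧ Nat.card (Subgroup.center S) = p ^ 2) := by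
  classical
  have hp : p.Prime := Fact.out
  have hZQ : Nat.card ((Subgroup.center ↥Q).map Q.subtype) = p := by
    rw [Subgroup.card_map_of_injective Q.subtype_injective]
    exact hQ.2
  have hZle : Subgroup.center S ⊓ Q ≤ (Subgroup.center ↥Q).map Q.subtype := by
    rintro z ⟨hz1, hz2⟩
    refine ⟨⟨z, hz2⟩, Subgroup.mem_center_iff.2 ?_, rfl⟩
    intro g
    apply Subtype.ext
    exact Subgroup.mem_center_iff.1 hz1 g.1
  have hQ1 : Q ≠ ⊥ := by
    intro h
    have h0 : Nat.card ((Subgroup.center ↥Q).map Q.subtype) ≤ Nat.card Q :=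
      Subgroup.card_le_of_le (Subgroup.map_subtype_le _)
    rw [hZQ, h, Subgroup.card_bot] at h0
    have := hp.two_le
    omega
  haveI : Nontrivial S := by
    obtain ⟨x, hx, hx1⟩ := (Subgroup.bot_or_exists_ne_one Q).resolve_left hQ1
    exact ⟨⟨x, 1, hx1⟩⟩
  have hZ1 : Subgroup.center S ≠ ⊥ := (hS.bot_lt_center).ne'
  by_cases hle : Subgroup.center S ≤ Q
  · left
    have h1 : Subgroup.center S ≤ (Subgroup.center ↥Q).map Q.subtype := by
      have h0 := hZle
      rwa [inf_eq_left.2 hle] at h0
    apply Subgroup.eq_of_le_of_card_ge h1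
    rw [hZQ]
    obtain ⟨k, hk⟩ := IsPGroup.iff_card.1 (hS.to_subgroup (Subgroup.center S))
    rw [hk]
    have hk0 : k ≠ 0 := by
      rintro rfl
      rw [pow_zero] at hk
      exact hZ1 ((Subgroup.card_eq_one).1 hk)
    calc p = p ^ 1 := (pow_one p).symm
      _ ≤ p ^ k := Nat.pow_le_pow_right hp.pos (Nat.one_le_iff_ne_zero.2 hk0)
  · right
    have hsup : Q ⊔ Subgroup.center S = ⊤ := by
      have h1 : (Q ⊔ Subgroup.center S).index ∣ Q.index := Subgroup.index_dvd_of_le le_sup_left
      rw [hQi] at h1
      rcases (Nat.dvd_prime hp).1 h1 with h2 | h2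
      · exact Subgroup.index_eq_one.1 h2
      · exfalso
        apply hle
        have h3 : Q = Q ⊔ Subgroup.center S := by
          apply Subgroup.eq_of_le_of_card_ge le_sup_left
          have e1 := Subgroup.card_mul_index (Q ⊔ Subgroup.center S)
          have e2 := Subgroup.card_mul_index Q
          rw [h2] at e1
          rw [hQi] at e2
          have e3 : Nat.card ↥(Q ⊔ Subgroup.center S) * p = Nat.card ↥Q * p := e1.trans e2.symm
          exact (Nat.eq_of_mul_eq_mul_right hp.pos e3).le
        rw [h3]
        exact le_sup_right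
    refine ⟨hsup, ?_⟩
    have hinf : Q ⊓ Subgroup.center S = (Subgroup.center ↥Q).map Q.subtype := by
      apply le_antisymm
      · rw [inf_comm]
        exact hZle
      · rintro _ ⟨z, hz, rfl⟩
        refine ⟨z.2, ?_⟩
        have h1 : Q ⊔ Subgroup.center S ≤ Subgroup.centralizer ({(z : S)} : Set S) := by
          refine sup_le ?_ ?_
          · intro q hq
            refine Subgroup.mem_centralizer_iff.2 ?_
            intro w hw
            rw [Set.mem_singleton_iff.1 hw]
            exact (congrArg Subtype.val (Subgroup.mem_center_iff.1 hz ⟨q, hq⟩)).symm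
          · intro c hc
            refine Subgroup.mem_centralizer_iff.2 ?_
            intro w hw
            rw [Set.mem_singleton_iff.1 hw]
            exact Subgroup.mem_center_iff.1 hc z.1
        rw [hsup] at h1
        refine Subgroup.mem_center_iff.2 ?_
        intro g
        have h2 := Subgroup.mem_centralizer_iff.1 (h1 (Subgroup.mem_top g)) z.1
          (Set.mem_singleton _)
        exact h2.symm
    have hprod := Helper3.GR.card_mul_card_of_le_normalizer Q (Subgroup.center S)
      (Helper3.le_normalizer_of_conj_mem _ _ (fun c hc d hd => by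
        rw [← Subgroup.mem_center_iff.1 hc d, mul_inv_cancel_right]
        exact hd))
    rw [hsup, hinf, hZQ, Subgroup.card_top] at hprod
    have e2 := Subgroup.card_mul_index Q
    rw [hQi] at e2
    rw [← e2, mul_assoc] at hprod
    have h4 := Nat.eq_of_mul_eq_mul_left Nat.card_pos hprod
    rw [h4, pow_two]

end Cfsg.Agent.S3808
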