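import Cfsg.Statements.S3810
import Mathlib
import Cfsg.Agent.Lead.PLcs
import Cfsg.Agent.S3807

set_option autoImplicit false
open Cfsg

namespace Cfsg.Agent.S3810

open scoped commutatorElement

/-- Let S be a finite p-group with an extraspecial subgroup of index p. Then S has an abelian subgroup of index p if and only if S has order p⁴. -/
theorem result {S : Type*} [Group S] [Finite S] (p : ℕ) [Fact p.Prime] (hS : IsPGroup p S) (Q : Subgroup S) (hQ : Cfsg.IsExtraspecial p ↥Q) (hQi : Q.index = p) :
    (∃ A : Subgroup S, IsMulCommutative ↥A ∧ A.index = p) ↔ Nat.card S = p ^ 4 := by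
  classical
  have hpp : p.Prime := Fact.out
  obtain ⟨⟨hQp, hQfr, hQcomm⟩, hQc⟩ := hQ
  have hQna : ¬ IsMulCommutative ↥Q := by
    intro hc
    have hbot : commutator ↥Q = ⊥ := by
      rw [eq_bot_iff, commutator_def, Subgroup.commutator_le]
      intro x _ y _
      rw [Subgroup.mem_bot]
      exact commutatorElement_eq_one_iff_mul_comm.mpr (hc.is_comm.comm x y)
    rw [← hQcomm, hbot, Subgroup.card_bot] at hQc
    exact hpp.one_lt.ne hQc
  have hnc : ¬ (∀ a b : S, a * b = b * a) := by
    intro h
    exact hQna ⟨⟨fun a b => Subtype.ext (h _ _)⟩⟩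
  have hBcomm : ∀ B : Subgroup S, IsMulCommutative ↥B → ∀ a ∈ B, ∀ b ∈ B, a * b = b * a := by
    intro B hB a ha b hb
    have h := hB.is_comm.comm ⟨a, ha⟩ ⟨b, hb⟩
    exact congrArg Subtype.val h
  have hQcard : Nat.card S = Nat.card Q * p := by
    rw [← hQi]; exact (Subgroup.card_mul_index Q).symm
  constructor
  · rintro ⟨A, hA, hAi⟩
    obtain ⟨n, hn⟩ := IsPGroup.iff_card.mp hS
    have hn0 : n ≠ 0 := by
      intro h0
      rw [h0, pow_zero] at hn
      apply hnc
      intro a b
      haveI : Subsingleton S := (Nat.card_eq_one_iff_unique.mp hn).1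
      have e1 := Subsingleton.elim a b
      rw [e1]
    haveI hAn : A.Normal :=
      Subgroup.normal_of_index_eq_minFac_card (by rw [hAi, hn, hpp.pow_minFac hn0])
    have hAc := hBcomm A hA
    have hsubc : IsMulCommutative ↥(A.subgroupOf Q) :=
      ⟨⟨fun a b => Subtype.ext (Subtype.ext
        (hAc _ (Subgroup.mem_subgroupOf.mp a.2) _ (Subgroup.mem_subgroupOf.mp b.2)))⟩⟩
    have hd : A.relIndex Q ∣ p := by
      rw [← hAi]; exact Subgroup.relIndex_dvd_index_of_normal A Q
    have hidx : (A.subgroupOf Q).index = p := by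
      rcases (Nat.dvd_prime hpp).mp hd with h1 | h1
      · exfalso
        have hQA : Q ≤ A := Subgroup.relIndex_eq_one.mp h1
        exact hQna ⟨⟨fun a b => Subtype.ext (hAc _ (hQA a.2) _ (hQA b.2))⟩⟩
      · exact h1
    have h3807 := (S3807.result p hQp hQna (A.subgroupOf Q) hsubc hidx).1
    rw [hQcomm, hQc] at h3807
    have hmul := Subgroup.card_mul_index (Subgroup.center ↥Q)
    rw [hQc, h3807] at hmul
    rw [hQcard, ← hmul]; ring
  · intro hS4
    have hZmem : ∀ z : S, z ∈ Subgroup.center S ↔ ∀ g : S, g * z = z * g :=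
      fun z => Subgroup.mem_center_iff
    have hmemC : ∀ g x : S, x ∈ Subgroup.centralizer ({g} : Set S) ↔ g * x = x * g := by
      intro g x
      rw [Subgroup.mem_centralizer_iff]
      constructor
      · intro h; exact h g (Set.mem_singleton g)
      · intro h y hy; rw [Set.mem_singleton_iff.mp hy]; exact h
    have hZnt : Subgroup.center S ≠ ⊤ := by
      intro h
      apply hnc
      intro a b
      have hb : b ∈ Subgroup.center S := by rw [h]; exact Subgroup.mem_top b
      exact (hZmem b).mp hb a
    haveI hnontriv : Nontrivial (S ⧸ Subgroup.center S) := by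
      by_contra hnn
      rw [not_nontrivial_iff_subsingleton] at hnn
      apply hZnt
      rw [eq_top_iff]
      intro x _
      exact (QuotientGroup.eq_one_iff (N := Subgroup.center S) x).mp (Subsingleton.elim _ _)
    have hQq : IsPGroup p (S ⧸ Subgroup.center S) := hS.to_quotient _
    haveI := hQq.center_nontrivial
    obtain ⟨y', hy'⟩ := exists_ne (1 : ↥(Subgroup.center (S ⧸ Subgroup.center S)))
    obtain ⟨y, hy⟩ := QuotientGroup.mk'_surjective (Subgroup.center S)
      (y' : S ⧸ Subgroup.center S)
    have hyZ : y ∉ Subgroup.center S := by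
      intro h
      apply hy'
      apply Subtype.ext
      rw [← hy]
      exact (QuotientGroup.eq_one_iff (N := Subgroup.center S) y).mpr h
    have hyc : ∀ g : S, ⁅g, y⁆ ∈ Subgroup.center S := by
      intro g
      have h1 : QuotientGroup.mk' (Subgroup.center S) ⁅g, y⁆ = 1 := by
        rw [map_commutatorElement, hy]
        exact commutatorElement_eq_one_iff_mul_comm.mpr (Subgroup.mem_center_iff.mp y'.2 _)
      exact (QuotientGroup.eq_one_iff (N := Subgroup.center S) _).mp h1
    have hmul : ∀ a b : S, ⁅a * b, y⁆ = ⁅a, y⁆ * ⁅b, y⁆ := by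
      intro a b
      have hc := (hZmem _).mp (hyc b)
      have e1 : ⁅a * b, y⁆ = a * ⁅b, y⁆ * a⁻¹ * ⁅a, y⁆ := by
        simp only [commutatorElement_def]; group
      rw [e1, hc a, mul_inv_cancel_right]
      exact (hc _).symm
    obtain ⟨ψ, hψ⟩ : ∃ ψ : S →* S, ∀ a : S, ψ a = ⁅a, y⁆ :=
      ⟨MonoidHom.mk' (fun a => ⁅a, y⁆) hmul, fun a => rfl⟩
    obtain ⟨C, hCdef⟩ : ∃ C : Subgroup S, C = Subgroup.centralizer ({y} : Set S) := ⟨_, rfl⟩
    have hCmem : ∀ x : S, x ∈ C ↔ y * x = x * y := by
      intro x; rw [hCdef]; exact hmemC y x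
    have hker : ψ.ker = C := by
      ext x
      rw [MonoidHom.mem_ker, hψ, hCmem, commutatorElement_eq_one_iff_mul_comm]
      exact eq_comm
    have hrange : ψ.range ≤ Subgroup.center S := by
      rintro _ ⟨a, rfl⟩; rw [hψ]; exact hyc a
    have hCidx : C.index = Nat.card ψ.range := by rw [← hker]; exact Subgroup.index_ker ψ
    obtain ⟨z, hz⟩ := Lead.PLcs.card_pow hS (Subgroup.center S)
    obtain ⟨c, hc⟩ := Lead.PLcs.card_pow hS C
    obtain ⟨j, hj⟩ := hS.index C
    obtain ⟨M, hMdef⟩ : ∃ M : Subgroup S, M = Subgroup.center S ⊔ Subgroup.zpowers y :=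
      ⟨_, rfl⟩
    obtain ⟨m, hm⟩ := Lead.PLcs.card_pow hS M
    have hZM : Subgroup.center S ≤ M := by rw [hMdef]; exact le_sup_left
    have hyM : y ∈ M := by
      rw [hMdef]; exact (le_sup_right : Subgroup.zpowers y ≤ _) (Subgroup.mem_zpowers y)
    have hyC : y ∈ C := (hCmem y).mpr rfl
    have hZC : Subgroup.center S ≤ C := by
      intro x hx; rw [hCmem]; exact (hZmem x).mp hx y
    have hMC : M ≤ C := by rw [hMdef]; exact sup_le hZC (Subgroup.zpowers_le.mpr hyC)
    have hz1 : 1 ≤ z := by
      by_contra h0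
      have hz0 : z = 0 := by omega
      rw [hz0, pow_zero] at hz
      haveI : Nontrivial S := by
        by_contra hnn
        rw [not_nontrivial_iff_subsingleton] at hnn
        exact hnc (fun a b => by rw [Subsingleton.elim a b])
      haveI := hS.center_nontrivial
      have h1 := Subgroup.eq_bot_of_card_le _ (le_of_eq hz)
      obtain ⟨w, hw⟩ := exists_ne (1 : ↥(Subgroup.center S))
      apply hw
      apply Subtype.ext
      exact (Subgroup.eq_bot_iff_forall _).mp h1 (w : S) w.2
    have hzm : z < m := by
      have h1 := Subgroup.card_le_of_le hZM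
      rw [hz, hm] at h1
      have h2 : z ≤ m := (Nat.pow_le_pow_iff_right hpp.one_lt).mp h1
      by_contra hlt
      have h3 : z = m := by omega
      have h4 : Subgroup.center S = M :=
        Subgroup.eq_of_le_of_card_ge hZM (le_of_eq (by rw [hz, hm, h3]))
      exact hyZ (by rw [h4]; exact hyM)
    have hmc : m ≤ c := by
      have h1 := Subgroup.card_le_of_le hMC
      rw [hm, hc] at h1
      exact (Nat.pow_le_pow_iff_right hpp.one_lt).mp h1
    have hjz : j ≤ z := by
      have h1 := Subgroup.card_le_of_le hrange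
      rw [← hCidx, hj, hz] at h1
      exact (Nat.pow_le_pow_iff_right hpp.one_lt).mp h1
    have hcj : c + j = 4 := by
      have h1 := Subgroup.card_mul_index C
      rw [hc, hj, hS4, ← pow_add] at h1
      exact Nat.pow_right_injective hpp.two_le h1
    have hj0 : j ≠ 0 := by
      intro h0
      rw [h0, pow_zero] at hj
      have htop := Subgroup.index_eq_one.mp hj
      apply hyZ
      rw [hZmem]
      intro g
      have hg : g ∈ C := by rw [htop]; exact Subgroup.mem_top g
      exact ((hCmem g).mp hg).symm
    have hj1 : j = 1 := by omega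
    have hc3 : c = 3 := by omega
    have hm2 : 2 ≤ m := by omega
    have hMcent : ∀ u ∈ M, ∀ v ∈ C, u * v = v * u := by
      intro u hu v hv
      have hle : M ≤ Subgroup.centralizer ({v} : Set S) := by
        rw [hMdef]
        apply sup_le (Subgroup.center_le_centralizer _)
        apply Subgroup.zpowers_le.mpr
        exact (hmemC v y).mpr ((hCmem v).mp hv).symm
      exact ((hmemC v u).mp (hle hu)).symm
    have hCab : ∀ u ∈ C, ∀ v ∈ C, u * v = v * u := by
      intro u hu v hv
      by_cases huM : u ∈ M
      · exact hMcent u huM v hv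
      · obtain ⟨m', hm'⟩ := Lead.PLcs.card_pow hS (M ⊔ Subgroup.zpowers u)
        have hmm' : m < m' := by
          have h1 := Subgroup.card_le_of_le (le_sup_left : M ≤ M ⊔ Subgroup.zpowers u)
          rw [hm, hm'] at h1
          have h2 : m ≤ m' := (Nat.pow_le_pow_iff_right hpp.one_lt).mp h1
          by_contra hlt
          have h3 : m = m' := by omega
          have h4 : M = M ⊔ Subgroup.zpowers u :=
            Subgroup.eq_of_le_of_card_ge le_sup_left (le_of_eq (by rw [hm, hm', h3]))
          apply huM
          rw [h4]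
          exact (le_sup_right : Subgroup.zpowers u ≤ _) (Subgroup.mem_zpowers u)
        have hle : M ⊔ Subgroup.zpowers u ≤ C ⊓ Subgroup.centralizer ({u} : Set S) := by
          apply sup_le
          · apply le_inf hMC
            intro w hw
            exact (hmemC u w).mpr (hMcent w hw u hu).symm
          · apply Subgroup.zpowers_le.mpr
            exact Subgroup.mem_inf.mpr ⟨hu, (hmemC u u).mpr rfl⟩
        have h5 := Subgroup.card_le_of_le hle
        rw [hm'] at h5
        have h6 : C ⊓ Subgroup.centralizer ({u} : Set S) = C := by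
          apply Subgroup.eq_of_le_of_card_ge inf_le_left
          rw [hc, hc3]
          exact (Nat.pow_le_pow_right hpp.pos (by omega : 3 ≤ m')).trans h5
        have hv' : v ∈ C ⊓ Subgroup.centralizer ({u} : Set S) := by rw [h6]; exact hv
        exact (hmemC u v).mp (Subgroup.mem_inf.mp hv').2
    refine ⟨C, ⟨⟨fun a b => Subtype.ext (hCab _ a.2 _ b.2)⟩⟩, ?_⟩
    rw [hj, hj1, pow_one]


end Cfsg.Agent.S3810
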