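import Cfsg.Statements.S3824
import Cfsg.Agent.Helper4.SupIndex2
import Cfsg.Agent.Helper4.Alperin
import Cfsg.Agent.S0143

set_option autoImplicit false
open Cfsg

namespace Cfsg.Agent.S3824

universe u

theorem s3824_aux : ∀ (n : ℕ) {G : Type u} [Group G] [Finite G], Nat.card G = n →
    ∀ A : Subgroup G, IsMulCommutative A → (∃ k : ℕ, A.index = 2 ^ k) → Group.IsSolvable G := by
  intro n
  induction n using Nat.strong_induction_on with
  | _ n ih =>
    intro G _ _ hn A hA hidx
    obtain ⟨k, hk⟩ := hidx
    have hAcomm : ∀ a ∈ A, ∀ b ∈ A, a * b = b * a := by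
      intro a ha b hb
      have := mul_comm' (⟨a, ha⟩ : A) ⟨b, hb⟩
      exact congrArg Subtype.val this
    by_cases hsimple : ∃ N : Subgroup G, N.Normal ∧ N ≠ ⊥ ∧ N ≠ ⊤
    · obtain ⟨N, hNn, hNbot, hNtop⟩ := hsimple
      have hcardN : Nat.card N < n := by
        rw [← hn, ← Subgroup.card_top (G := G)]
        exact Cfsg.Agent.Helper4.card_lt_of_lt (lt_top_iff_ne_top.mpr hNtop)
      have hcardQ : Nat.card (G ⧸ N) < n := by
        have h1 := Subgroup.card_eq_card_quotient_mul_card_subgroup N
        have h2 : 1 < Nat.card N := (Subgroup.one_lt_card_iff_ne_bot N).mpr hNbot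
        have h3 : 0 < Nat.card (G ⧸ N) := Nat.card_pos
        rw [← hn, h1]
        nlinarith
      have hsN : Group.IsSolvable N := by
        apply ih (Nat.card N) hcardN rfl (A.subgroupOf N)
        · refine ⟨⟨fun a b => ?_⟩⟩
          apply Subtype.ext
          apply Subtype.ext
          exact hAcomm _ a.2 _ b.2
        · have h1 : (A.subgroupOf N).index ∣ A.index :=
            Cfsg.Agent.Helper4.relIndex_dvd_index_of_normal_right N A hNn
          rw [hk] at h1
          obtain ⟨j, _, hj⟩ := (Nat.dvd_prime_pow Nat.prime_two).mp h1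
          exact ⟨j, hj⟩
      have hsQ : Group.IsSolvable (G ⧸ N) := by
        apply ih _ hcardQ rfl (A.map (QuotientGroup.mk' N))
        · refine ⟨⟨fun x y => ?_⟩⟩
          obtain ⟨a, ha, hax⟩ := x.2
          obtain ⟨b, hb, hby⟩ := y.2
          apply Subtype.ext
          show (x : G ⧸ N) * (y : G ⧸ N) = (y : G ⧸ N) * (x : G ⧸ N)
          rw [← hax, ← hby, ← map_mul, ← map_mul, hAcomm a ha b hb]
        · have h1 : (A.map (QuotientGroup.mk' N)).index ∣ A.index :=
            Subgroup.index_map_dvd A (QuotientGroup.mk'_surjective N)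
          rw [hk] at h1
          obtain ⟨j, _, hj⟩ := (Nat.dvd_prime_pow Nat.prime_two).mp h1
          exact ⟨j, hj⟩
      exact Group.isSolvable_of_ker_le_range N.subtype (QuotientGroup.mk' N) (by simp)
    · by_cases hAbot : A = ⊥
      · have hc : Nat.card G = 2 ^ k := by rw [← hk, hAbot, Subgroup.index_bot]
        have : Fact (Nat.Prime 2) := ⟨Nat.prime_two⟩
        have hp : IsPGroup 2 G := IsPGroup.of_card hc
        have := hp.isNilpotent
        infer_instance
      · have hnt : Nontrivial G := by
          by_contra hnt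
          rw [not_nontrivial_iff_subsingleton] at hnt
          exact hAbot (Subsingleton.elim _ _)
        have hs : IsSimpleGroup G := by
          refine ⟨fun N hN => ?_⟩
          by_contra h
          push Not at h
          exact hsimple ⟨N, hN, h.1, h.2⟩
        obtain ⟨g, hgA⟩ := (Subgroup.ne_bot_iff_exists_ne_one.mp hAbot)
        have hg1' : (g : G) ≠ 1 := fun h => hgA (Subtype.ext h)
        have hle : A ≤ Subgroup.centralizer ({(g : G)} : Set G) := by
          intro a ha
          rw [Subgroup.mem_centralizer_iff]
          intro h hh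
          rw [Set.mem_singleton_iff] at hh
          subst hh
          exact hAcomm _ g.2 a ha
        have hdvd : (Subgroup.centralizer ({(g : G)} : Set G)).index ∣ A.index :=
          Subgroup.index_dvd_of_le hle
        rw [hk] at hdvd
        obtain ⟨j, _, hj⟩ := (Nat.dvd_prime_pow Nat.prime_two).mp hdvd
        have hprime := Cfsg.Agent.S0143.result 2 j Nat.prime_two (g : G) hg1' hj
        have : Fact (Nat.card G).Prime := ⟨hprime⟩
        have hcyc : IsCyclic G := isCyclic_of_prime_card rfl
        let _ : CommGroup G := hcyc.commGroup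
        infer_instance


/-- Every finite group having an abelian subgroup whose index is a power of 2 is solvable. -/
theorem result {G : Type*} [Group G] [Finite G]
    (A : Subgroup G) (hA : IsMulCommutative A) (hidx : ∃ k : ℕ, A.index = 2 ^ k) : Group.IsSolvable G := by
  exact s3824_aux (Nat.card G) rfl A hA hidx

end Cfsg.Agent.S3824
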