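import Cfsg.Statements.S3870
import Cfsg.Agent.Helper4.Alperin2

set_option autoImplicit false
open Cfsg

namespace Cfsg.Agent.S3870

/-- Let G be a finite simple group whose Sylow p-subgroups are not normal but such that every proper subgroup of G has a normal Sylow p-subgroup. Then any two distinct Sylow p-subgroups of G intersect trivially, and for every Sylow p-subgroup P the normalizer of every non-identity subgroup of P lies in the normalizer of P. -/
theorem result {G : Type*} [Group G] [Finite G] [IsSimpleGroup G] {p : ℕ} [Fact p.Prime]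
    (hnc : ¬ Cfsg.IsPClosed p G) (hsub : ∀ H : Subgroup G, H ≠ ⊤ → Cfsg.IsPClosed p ↥H) :
    (∀ P Q : Sylow p G, P ≠ Q → (P : Subgroup G) ⊓ (Q : Subgroup G) = ⊥) ∧
      ∀ (P : Sylow p G) (R : Subgroup G), R ≤ P → R ≠ ⊥ →
        Subgroup.normalizer (R : Set G) ≤ Subgroup.normalizer ((P : Subgroup G) : Set G) := by
  classical
  -- common Sylow overgroup inside a proper subgroup
  have hcommon : ∀ (N : Subgroup G), N ≠ ⊤ → ∀ A B : Subgroup G, IsPGroup p A → IsPGroup p B →
      A ≤ N → B ≤ N → ∃ S : Sylow p G, A ≤ (S : Subgroup G) ∧ B ≤ (S : Subgroup G) := by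
    intro N hN A B hA hB hAN hBN
    have hcl := hsub N hN
    have hA' : IsPGroup p (A.subgroupOf N) := hA.comap_of_injective N.subtype N.subtype_injective
    have hB' : IsPGroup p (B.subgroupOf N) := hB.comap_of_injective N.subtype N.subtype_injective
    obtain ⟨T, hT⟩ := hA'.exists_le_sylow
    obtain ⟨T', hT'⟩ := hB'.exists_le_sylow
    have hTn : (T : Subgroup ↥N).Normal := hcl T
    obtain ⟨g, hg⟩ := MulAction.exists_smul_eq ↥N T T'
    have hTT' : T' = T := by rw [← hg]; exact Sylow.smul_eq_of_normal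
    rw [hTT'] at hT'
    have hR : IsPGroup p ((T : Subgroup ↥N).map N.subtype) := T.2.map _
    obtain ⟨S, hS⟩ := hR.exists_le_sylow
    refine ⟨S, ?_, ?_⟩
    · intro a ha
      exact hS ⟨⟨a, hAN ha⟩, hT (Subgroup.mem_subgroupOf.mpr ha), rfl⟩
    · intro b hb
      exact hS ⟨⟨b, hBN hb⟩, hT' (Subgroup.mem_subgroupOf.mpr hb), rfl⟩
  have hTI : ∀ P Q : Sylow p G, P ≠ Q → (P : Subgroup G) ⊓ (Q : Subgroup G) = ⊥ := by
    suffices main : ∀ m : ℕ, ∀ P Q : Sylow p G,
        Nat.card (P : Subgroup G) - Nat.card ((P : Subgroup G) ⊓ (Q : Subgroup G) : Subgroup G) = m →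
        P ≠ Q → (P : Subgroup G) ⊓ (Q : Subgroup G) = ⊥ from fun P Q => main _ P Q rfl
    intro m
    induction m using Nat.strong_induction_on with
    | _ m ih =>
    intro P Q hm hPQ
    by_contra hD
    obtain ⟨hDQ, hDP⟩ := Helper4.inf_lt_of_sylow_ne P Q (Ne.symm hPQ)
    have hN : Subgroup.normalizer ((((P : Subgroup G) ⊓ (Q : Subgroup G) : Subgroup G)) : Set G) ≠ ⊤ := by
      intro hN
      have hnorm : ((P : Subgroup G) ⊓ (Q : Subgroup G)).Normal := Subgroup.normalizer_eq_top_iff.mp hN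
      rcases hnorm.eq_bot_or_eq_top with h | h
      · exact hD h
      · rw [h] at hDP
        exact (not_le_of_gt hDP) le_top
    obtain ⟨S, hS1, hS2⟩ := hcommon _ hN
      ((P : Subgroup G) ⊓ Subgroup.normalizer ((((P : Subgroup G) ⊓ (Q : Subgroup G) : Subgroup G)) : Set G))
      ((Q : Subgroup G) ⊓ Subgroup.normalizer ((((P : Subgroup G) ⊓ (Q : Subgroup G) : Subgroup G)) : Set G))
      (P.2.to_le inf_le_left) (Q.2.to_le inf_le_left) inf_le_right inf_le_right
    have hltP := Helper4.lt_inf_normalizer (P : Subgroup G) _ P.2 hDP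
    have hltQ := Helper4.lt_inf_normalizer (Q : Subgroup G) _ Q.2 hDQ
    have hcardPQ : Nat.card (P : Subgroup G) = Nat.card (Q : Subgroup G) := Sylow.card_eq_multiplicity P |>.trans (Sylow.card_eq_multiplicity Q).symm
    have hDne : ∀ T : Subgroup G, (P : Subgroup G) ⊓ (Q : Subgroup G) ≤ T → T ≠ ⊥ := by
      intro T hT hTb
      rw [hTb] at hT
      exact hD (le_bot_iff.mp hT)
    -- S = P
    have hSP : P = S := by
      by_contra hne
      have h1 : Nat.card ((P : Subgroup G) ⊓ (Q : Subgroup G) : Subgroup G) <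
          Nat.card ((P : Subgroup G) ⊓ (S : Subgroup G) : Subgroup G) :=
        lt_of_lt_of_le (Helper4.card_lt_of_lt hltP) (Subgroup.card_le_of_le (le_inf inf_le_left hS1))
      have h2 : Nat.card ((P : Subgroup G) ⊓ (S : Subgroup G) : Subgroup G) ≤ Nat.card (P : Subgroup G) :=
        Subgroup.card_le_of_le inf_le_left
      have h3 := ih (Nat.card (P : Subgroup G) - Nat.card ((P : Subgroup G) ⊓ (S : Subgroup G) : Subgroup G))
        (by omega) P S rfl hne
      exact hDne _ (le_inf inf_le_left (hltP.le.trans hS1)) h3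
    have hSQ : Q = S := by
      by_contra hne
      have h1 : Nat.card ((P : Subgroup G) ⊓ (Q : Subgroup G) : Subgroup G) <
          Nat.card ((Q : Subgroup G) ⊓ (S : Subgroup G) : Subgroup G) :=
        lt_of_lt_of_le (Helper4.card_lt_of_lt hltQ) (Subgroup.card_le_of_le (le_inf inf_le_left hS2))
      have h2 : Nat.card ((Q : Subgroup G) ⊓ (S : Subgroup G) : Subgroup G) ≤ Nat.card (Q : Subgroup G) :=
        Subgroup.card_le_of_le inf_le_left
      have h3 := ih (Nat.card (Q : Subgroup G) - Nat.card ((Q : Subgroup G) ⊓ (S : Subgroup G) : Subgroup G))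
        (by omega) Q S rfl hne
      exact hDne _ (le_inf inf_le_right (hltQ.le.trans hS2)) h3
    exact hPQ (hSP.trans hSQ.symm)
  refine ⟨hTI, ?_⟩
  intro P R hRP hR g hg
  have hgP : g • P = P := by
    by_contra hne
    have h1 := hTI (g • P) P hne
    apply hR
    rw [eq_bot_iff, ← h1]
    intro r hr
    refine Subgroup.mem_inf.mpr ⟨?_, hRP hr⟩
    rw [Helper4.mem_smul_sylow_iff]
    have h2 : g⁻¹ ∈ Subgroup.normalizer (R : Set G) := Subgroup.inv_mem _ hg
    have h3 := (Subgroup.mem_normalizer_iff.mp h2 r).mp hr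
    rw [inv_inv] at h3
    exact hRP h3
  exact Sylow.smul_eq_iff_mem_normalizer.mp hgP

end Cfsg.Agent.S3870
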