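import Cfsg.Statements.S3889
import Mathlib
-- import your own Cfsg.Agent.* helpers here

set_option autoImplicit false
open Cfsg

namespace Cfsg.Agent.S3889

/-- A finite abelian group that is the union of a family of proper subgroups any two of which intersect trivially is elementary abelian: its exponent is a prime. -/
theorem result {G : Type*} [CommGroup G] [Finite G] (𝓑 : Set (Subgroup G)) (hprop : ∀ B ∈ 𝓑, B ≠ ⊤)
    (hcov : ∀ g : G, ∃ B ∈ 𝓑, g ∈ B) (hdisj : ∀ B ∈ 𝓑, ∀ C ∈ 𝓑, B ≠ C → B ⊓ C = ⊥) :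
    (Monoid.exponent G).Prime := by
  classical
  have key1 : ∀ x y : G, ∀ B ∈ 𝓑, x ∈ B → x ≠ 1 → y ∉ B → orderOf y ∣ orderOf x := by
    intro x y B hB hxB hx1 hyB
    obtain ⟨C, hC, hyC⟩ := hcov y
    obtain ⟨D, hD, hxyD⟩ := hcov (x * y)
    have hCB : C ≠ B := fun h => hyB (h ▸ hyC)
    have hDC : D ≠ C := by
      intro h
      rw [h] at hxyD
      have hxC : x ∈ C := by
        have := C.mul_mem hxyD (C.inv_mem hyC)
        simpa using this
      have : x ∈ B ⊓ C := ⟨hxB, hxC⟩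
      rw [hdisj B hB C hC (Ne.symm hCB), Subgroup.mem_bot] at this
      exact hx1 this
    have h1 : y ^ orderOf x ∈ D := by
      have := D.pow_mem hxyD (orderOf x)
      rwa [mul_pow, pow_orderOf_eq_one, one_mul] at this
    have h2 : y ^ orderOf x ∈ D ⊓ C := ⟨h1, C.pow_mem hyC _⟩
    rw [hdisj D hD C hC hDC, Subgroup.mem_bot] at h2
    exact orderOf_dvd_of_pow_eq_one h2
  have key2 : ∀ x y : G, ∀ B ∈ 𝓑, x ∈ B → x ≠ 1 → y ∉ B → orderOf x = orderOf y := by
    intro x y B hB hxB hx1 hyB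
    obtain ⟨C, hC, hyC⟩ := hcov y
    have hCB : C ≠ B := fun h => hyB (h ▸ hyC)
    have hy1 : y ≠ 1 := fun h => hyB (h ▸ B.one_mem)
    have hxC : x ∉ C := by
      intro hxC
      have : x ∈ B ⊓ C := ⟨hxB, hxC⟩
      rw [hdisj B hB C hC (Ne.symm hCB), Subgroup.mem_bot] at this
      exact hx1 this
    exact Nat.dvd_antisymm (key1 y x C hC hyC hy1 hxC) (key1 x y B hB hxB hx1 hyB)
  have key3 : ∀ x : G, x ≠ 1 → (orderOf x).Prime := by
    intro x hx1
    obtain ⟨B, hB, hxB⟩ := hcov x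
    obtain ⟨y, hyB⟩ : ∃ y : G, y ∉ B := by
      by_contra hcon
      push Not at hcon
      exact hprop B hB (eq_top_iff.mpr (fun g _ => hcon g))
    have hm := key2 x y B hB hxB hx1 hyB
    have hm1 : orderOf x ≠ 1 := fun h => hx1 (orderOf_eq_one_iff.mp h)
    have hm0 : 0 < orderOf x := orderOf_pos x
    obtain ⟨p, hp, hpm⟩ := Nat.exists_prime_and_dvd hm1
    by_contra hnp
    have hxp1 : x ^ p ≠ 1 := by
      intro h
      have h1 : orderOf x ∣ p := orderOf_dvd_of_pow_eq_one h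
      rcases (Nat.dvd_prime hp).mp h1 with h2 | h2
      · exact hm1 h2
      · exact hnp (h2 ▸ hp)
    have h3 := key2 (x ^ p) y B hB (B.pow_mem hxB p) hxp1 hyB
    rw [← hm] at h3
    obtain ⟨c, hc⟩ := hpm
    have h4 : (x ^ p) ^ c = 1 := by
      rw [← pow_mul, ← hc, pow_orderOf_eq_one]
    have h5 : orderOf (x ^ p) ∣ c := orderOf_dvd_of_pow_eq_one h4
    rw [h3] at h5
    have hc0 : 0 < c := by
      rcases Nat.eq_zero_or_pos c with h | h
      · rw [h, mul_zero] at hc; omega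
      · exact h
    have h6 : orderOf x ≤ c := Nat.le_of_dvd hc0 h5
    have hp2 : 2 ≤ p := hp.two_le
    nlinarith
  have key4 : ∀ x x' : G, x ≠ 1 → x' ≠ 1 → orderOf x = orderOf x' := by
    intro x x' hx1 hx'1
    obtain ⟨B, hB, hxB⟩ := hcov x
    by_cases hx'B : x' ∈ B
    · obtain ⟨y, hyB⟩ : ∃ y : G, y ∉ B := by
        by_contra hcon
        push Not at hcon
        exact hprop B hB (eq_top_iff.mpr (fun g _ => hcon g))
      rw [key2 x y B hB hxB hx1 hyB, key2 x' y B hB hx'B hx'1 hyB]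
    · exact key2 x x' B hB hxB hx1 hx'B
  obtain ⟨B, hB, -⟩ := hcov 1
  obtain ⟨y, hyB⟩ : ∃ y : G, y ∉ B := by
    by_contra hcon
    push Not at hcon
    exact hprop B hB (eq_top_iff.mpr (fun g _ => hcon g))
  have hy1 : y ≠ 1 := fun h => hyB (h ▸ B.one_mem)
  have hpy := key3 y hy1
  have h1 : Monoid.exponent G ∣ orderOf y := by
    apply Monoid.exponent_dvd_of_forall_pow_eq_one
    intro g
    by_cases hg : g = 1
    · rw [hg, one_pow]
    · rw [← key4 g y hg hy1, pow_orderOf_eq_one]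
  have h2 : orderOf y ∣ Monoid.exponent G := Monoid.order_dvd_exponent y
  rw [Nat.dvd_antisymm h1 h2]
  exact hpy

end Cfsg.Agent.S3889
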