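import Cfsg.Statements.S3904
import Mathlib
import Cfsg.Agent.Helper6.MaxCent2
-- import your own Cfsg.Agent.* helpers here

set_option autoImplicit false
open Cfsg

namespace Cfsg.Agent.S3904


/-- quotient by a normal maximal subgroup has prime order -/
theorem normal_coatom {G : Type*} [Group G] [Finite G] (M : Subgroup G) [M.Normal]
    (hM : IsCoatom M) :
    ∃ r : ℕ, r.Prime ∧ M.index = r ∧ (∀ g : G, g ^ r ∈ M) ∧
      (∀ a b : G, a * b * a⁻¹ * b⁻¹ ∈ M) := by
  have hsub : ∀ H : Subgroup (G ⧸ M), H = ⊥ ∨ H = ⊤ := by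
    intro H
    have hle : M ≤ H.comap (QuotientGroup.mk' M) := by
      intro m hm
      rw [Subgroup.mem_comap]
      have : QuotientGroup.mk' M m = 1 := (QuotientGroup.eq_one_iff m).mpr hm
      rw [this]; exact one_mem _
    rcases hM.le_iff.mp hle with h1 | h1
    · right
      rw [eq_top_iff]
      intro q _
      obtain ⟨g, rfl⟩ := QuotientGroup.mk_surjective q
      have : g ∈ H.comap (QuotientGroup.mk' M) := by rw [h1]; trivial
      exact this
    · left
      rw [eq_bot_iff]
      intro q hq
      obtain ⟨g, rfl⟩ := QuotientGroup.mk_surjective q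
      have : g ∈ H.comap (QuotientGroup.mk' M) := hq
      rw [h1] at this
      rw [Subgroup.mem_bot]
      exact (QuotientGroup.eq_one_iff g).mpr this
  obtain ⟨g₀, hg₀⟩ : ∃ g : G, g ∉ M := by
    by_contra hcon
    push Not at hcon
    exact hM.1 (eq_top_iff.mpr fun g _ => hcon g)
  have hq₀ : (QuotientGroup.mk g₀ : G ⧸ M) ≠ 1 :=
    fun h1 => hg₀ ((QuotientGroup.eq_one_iff g₀).mp h1)
  have hcard : Nat.card (G ⧸ M) ≠ 1 := by
    intro h1
    rw [Nat.card_eq_one_iff_unique] at h1
    exact hq₀ (h1.1.elim _ _)
  obtain ⟨r, hr, hrd⟩ := Nat.exists_prime_and_dvd hcard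
  haveI := Fact.mk hr
  obtain ⟨q, hq⟩ := exists_prime_orderOf_dvd_card' (G := G ⧸ M) r hrd
  have hz : Subgroup.zpowers q = ⊤ := by
    rcases hsub (Subgroup.zpowers q) with h1 | h1
    · exfalso
      have h2 : q = 1 := Subgroup.zpowers_eq_bot.mp h1
      rw [h2, orderOf_one] at hq
      exact hr.one_lt.ne hq
    · exact h1
  have hcardr : Nat.card (G ⧸ M) = r := by
    rw [← Subgroup.card_top (G := G ⧸ M), ← hz, Nat.card_zpowers, hq]
  refine ⟨r, hr, by rw [Subgroup.index_eq_card, hcardr], ?_, ?_⟩
  · intro g
    rw [← QuotientGroup.eq_one_iff, QuotientGroup.mk_pow, ← hcardr]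
    exact pow_card_eq_one'
  · haveI : IsCyclic (G ⧸ M) := isCyclic_of_prime_card hcardr
    have hQ : IsMulCommutative (G ⧸ M) := inferInstance
    intro a b
    rw [← QuotientGroup.eq_one_iff, QuotientGroup.mk_mul, QuotientGroup.mk_mul,
      QuotientGroup.mk_mul, QuotientGroup.mk_inv, QuotientGroup.mk_inv,
      hQ.is_comm.comm (↑a) (↑b)]
    group

/-- conjugation by powers when the commutator is central -/
theorem conj_pow_central {G : Type*} [Group G] (c a g : G) (hc : c ∈ Subgroup.center G)
    (h : a * g * a⁻¹ = c * g) : ∀ n : ℕ, a ^ n * g * (a ^ n)⁻¹ = c ^ n * g := by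
  intro n
  induction n with
  | zero => simp
  | succ n ih =>
    have h1 : a * c ^ n = c ^ n * a :=
      (Commute.pow_right (show Commute a c from Subgroup.mem_center_iff.mp hc a) n).eq
    have e1 : a ^ (n + 1) = a * a ^ n := pow_succ' a n
    have e2 : c ^ (n + 1) = c ^ n * c := pow_succ c n
    rw [e1, e2]
    generalize a ^ n = w at ih
    generalize c ^ n = d at ih h1
    calc a * w * g * (a * w)⁻¹ = a * (w * g * w⁻¹) * a⁻¹ := by group
      _ = a * (d * g) * a⁻¹ := by rw [ih]
      _ = (a * d) * g * a⁻¹ := by group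
      _ = (d * a) * g * a⁻¹ := by rw [h1]
      _ = d * (a * g * a⁻¹) := by group
      _ = d * (c * g) := by rw [h]
      _ = d * c * g := by group

/-- Let G be a non-abelian finite group in which the centralizer of every non-central element is a maximal subgroup. Then G/Z(G) is either an elementary abelian p-group for some prime p, or a minimal non-abelian group (non-abelian with all proper subgroups abelian) of order p^a · q for distinct primes p, q with a normal Sylow p-subgroup. -/
theorem result {G : Type*} [Group G] [Finite G] (hna : ¬ IsMulCommutative G)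
    (h : ∀ x : G, x ∉ Subgroup.center G → IsCoatom (Subgroup.centralizer ({x} : Set G))) :
    (∃ p : ℕ, p.Prime ∧ Cfsg.IsElementaryAbelian p (⊤ : Subgroup (G ⧸ Subgroup.center G))) ∨
    (¬ IsMulCommutative (G ⧸ Subgroup.center G) ∧ (∀ H : Subgroup (G ⧸ Subgroup.center G), H ≠ ⊤ → IsMulCommutative ↥H) ∧
      ∃ p q a : ℕ, p.Prime ∧ q.Prime ∧ p ≠ q ∧ Nat.card (G ⧸ Subgroup.center G) = p ^ a * q ∧
        ∀ P : Subgroup (G ⧸ Subgroup.center G), Nat.card ↥P = p ^ a → P.Normal) := by
  classical
  have hcomm_mk : ∀ a b : G, b⁻¹ * a⁻¹ * b⁻¹⁻¹ * a⁻¹⁻¹ ∈ Subgroup.center G →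
      (QuotientGroup.mk a : G ⧸ Subgroup.center G) * QuotientGroup.mk b =
        QuotientGroup.mk b * QuotientGroup.mk a := by
    intro a b hc
    rw [← QuotientGroup.mk_mul, ← QuotientGroup.mk_mul]
    apply QuotientGroup.eq.mpr
    have e : (a * b)⁻¹ * (b * a) = b⁻¹ * a⁻¹ * b⁻¹⁻¹ * a⁻¹⁻¹ := by group
    rw [e]; exact hc
  have hA_of : ∀ p : ℕ, p.Prime → (∀ a b : G, a * b * a⁻¹ * b⁻¹ ∈ Subgroup.center G) →
      (∀ g : G, g ^ p ∈ Subgroup.center G) →
      ∃ p : ℕ, p.Prime ∧ Cfsg.IsElementaryAbelian p (⊤ : Subgroup (G ⧸ Subgroup.center G)) := by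
    intro p hp hc he
    refine ⟨p, hp, ⟨⟨fun a b => Subtype.ext ?_⟩⟩, fun a _ => ?_⟩
    · obtain ⟨x, hx⟩ := QuotientGroup.mk_surjective a.1
      obtain ⟨y, hy⟩ := QuotientGroup.mk_surjective b.1
      show a.1 * b.1 = b.1 * a.1
      rw [← hx, ← hy]
      exact hcomm_mk x y (hc _ _)
    · obtain ⟨x, rfl⟩ := QuotientGroup.mk_surjective a
      rw [← QuotientGroup.mk_pow]
      exact (QuotientGroup.eq_one_iff _).mpr (he x)
  by_cases hex : ∃ y : G, y ∉ Subgroup.center G ∧
      IsMulCommutative ↥(Subgroup.centralizer ({y} : Set G))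
  · obtain ⟨y, hy, hyab⟩ := hex
    obtain ⟨k, hk, hkn, hkab⟩ := Cfsg.Agent.Helper6.MaxCent2.exists_normal_abelian h y hy
      (fun a ha b hb => congrArg Subtype.val (hyab.is_comm.comm ⟨a, ha⟩ ⟨b, hb⟩))
    obtain ⟨g, hg⟩ : ∃ g : G, g ∉ Subgroup.centralizer ({k} : Set G) := by
      by_contra hcon
      push Not at hcon
      exact (h k hk).1 (eq_top_iff.mpr fun g _ => hcon g)
    have hgZ : g ∉ Subgroup.center G := fun hgz => hg (Subgroup.center_le_centralizer _ hgz)
    have hinf := Cfsg.Agent.Helper6.MaxCent2.inf_cent_eq_center h k hk hkab g hg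
    have hAco := h k hk
    have hBco := h g hgZ
    have hkA : k ∈ Subgroup.centralizer ({k} : Set G) :=
      Subgroup.mem_centralizer_singleton_iff.mpr rfl
    have hgB : g ∈ Subgroup.centralizer ({g} : Set G) :=
      Subgroup.mem_centralizer_singleton_iff.mpr rfl
    have hZA : Subgroup.center G ≤ Subgroup.centralizer ({k} : Set G) :=
      Subgroup.center_le_centralizer _
    have hZB : Subgroup.center G ≤ Subgroup.centralizer ({g} : Set G) :=
      Subgroup.center_le_centralizer _
    have hmemA : ∀ a : G, a ∈ Subgroup.centralizer ({k} : Set G) ↔ a * k = k * a :=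
      fun a => Subgroup.mem_centralizer_singleton_iff
    haveI := hkn
    obtain ⟨r, hr, hAidx, hAr, hAc⟩ := normal_coatom _ hAco
    generalize Subgroup.centralizer ({k} : Set G) = A at hkn hkab hg hinf hAco hkA hZA hmemA hAidx hAr hAc
    generalize Subgroup.centralizer ({g} : Set G) = B at hinf hBco hgB hZB
    by_cases hBn : B.Normal
    · left
      haveI := hBn
      obtain ⟨s, hs, -, hBs, hBc⟩ := normal_coatom B hBco
      have hcZ : ∀ a b : G, a * b * a⁻¹ * b⁻¹ ∈ Subgroup.center G := by
        intro a b
        rw [← hinf]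
        exact Subgroup.mem_inf.mpr ⟨hAc a b, hBc a b⟩
      have hrs : r = s := by
        by_contra hne
        have hc := hcZ k g
        have hks : k ^ s ∈ Subgroup.center G := by
          rw [← hinf]; exact Subgroup.mem_inf.mpr ⟨pow_mem hkA _, hBs k⟩
        have hgr : g ^ r ∈ Subgroup.center G := by
          rw [← hinf]; exact Subgroup.mem_inf.mpr ⟨hAr g, pow_mem hgB _⟩
        have h1 : k * g * k⁻¹ = (k * g * k⁻¹ * g⁻¹) * g := by group
        have h2 := conj_pow_central _ k g hc h1 s
        have h3 : k ^ s * g * (k ^ s)⁻¹ = g := by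
          have h4 := Subgroup.mem_center_iff.mp hks g
          generalize k ^ s = w at h4
          calc w * g * w⁻¹ = (g * w) * w⁻¹ := by rw [h4]
            _ = g := by group
        have hcs : (k * g * k⁻¹ * g⁻¹) ^ s = 1 := by
          rw [h3] at h2
          have h5 := congrArg (· * g⁻¹) h2
          simpa using h5.symm
        have h1' : g * k * g⁻¹ = (k * g * k⁻¹ * g⁻¹)⁻¹ * k := by group
        have h2' := conj_pow_central _ g k (inv_mem hc) h1' r
        have h3' : g ^ r * k * (g ^ r)⁻¹ = k := by
          have h4 := Subgroup.mem_center_iff.mp hgr k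
          generalize g ^ r = w at h4
          calc w * k * w⁻¹ = (k * w) * w⁻¹ := by rw [h4]
            _ = k := by group
        have hcr : (k * g * k⁻¹ * g⁻¹) ^ r = 1 := by
          rw [h3'] at h2'
          have h5 := congrArg (· * k⁻¹) h2'
          have h6 : ((k * g * k⁻¹ * g⁻¹)⁻¹) ^ r = 1 := by simpa using h5.symm
          rw [inv_pow, inv_eq_one] at h6
          exact h6
        have hc1 : k * g * k⁻¹ * g⁻¹ ∈ (⊥ : Subgroup G) :=
          Cfsg.Agent.S4262.mem_of_pow_mem_coprime ⊥ _ s r
            ((Nat.coprime_primes hs hr).mpr (Ne.symm hne))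
            (by rw [hcs]; exact one_mem _) (by rw [hcr]; exact one_mem _)
        rw [Subgroup.mem_bot] at hc1
        apply hg
        rw [hmemA]
        have h6 : g * k = (k * g * k⁻¹ * g⁻¹)⁻¹ * (k * g) := by group
        rw [h6, hc1, inv_one, one_mul]
      apply hA_of r hr hcZ
      intro x
      rw [← hinf]
      refine Subgroup.mem_inf.mpr ⟨hAr x, ?_⟩
      rw [hrs]; exact hBs x
    · right
      obtain ⟨p, hp, u, huA, huZ, hup⟩ : ∃ p : ℕ, p.Prime ∧ ∃ u ∈ A, u ∉ Subgroup.center G ∧
          u ^ p ∈ Subgroup.center G := by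
        obtain ⟨n, hn, hpp⟩ := Cfsg.Agent.S4262.pp_power (Subgroup.center G) (orderOf k) k rfl hk
        obtain ⟨p, e, hp, he, hpe⟩ := (isPrimePow_nat_iff _).mp hpp
        have hex : ∃ j, (k ^ n) ^ (p ^ j) ∈ Subgroup.center G :=
          ⟨e, by rw [hpe, pow_orderOf_eq_one]; exact one_mem _⟩
        have hj0 : Nat.find hex ≠ 0 := by
          intro h0
          have h1 := Nat.find_spec hex
          rw [h0, pow_zero, pow_one] at h1
          exact hn h1
        obtain ⟨j, hj⟩ := Nat.exists_eq_succ_of_ne_zero hj0
        refine ⟨p, hp, (k ^ n) ^ (p ^ j), pow_mem (pow_mem hkA _) _,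
          Nat.find_min hex (by rw [hj]; exact Nat.lt_succ_self j), ?_⟩
        have h1 := Nat.find_spec hex
        rw [hj, pow_succ, pow_mul] at h1
        exact h1
      have hAp : ∀ a ∈ A, a ^ p ∈ Subgroup.center G := by
        let Ω : Subgroup G :=
          { carrier := {a | a ∈ A ∧ a ^ p ∈ Subgroup.center G}
            mul_mem' := fun {a b} ha hb => ⟨mul_mem ha.1 hb.1, by
              rw [(show Commute a b from hkab a ha.1 b hb.1).mul_pow]
              exact mul_mem ha.2 hb.2⟩
            one_mem' := ⟨one_mem _, by rw [one_pow]; exact one_mem _⟩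
            inv_mem' := fun {a} ha => ⟨inv_mem ha.1, by rw [inv_pow]; exact inv_mem ha.2⟩ }
        have hΩn : Ω.Normal := ⟨fun a ha x => ⟨hkn.conj_mem a ha.1 x, by
          have e1 : (x * a * x⁻¹) ^ p = x * a ^ p * x⁻¹ := conj_pow
          rw [e1]
          exact (inferInstance : (Subgroup.center G).Normal).conj_mem _ ha.2 x⟩⟩
        have huΩ : u ∈ Ω := ⟨huA, hup⟩
        have huB : u ∉ B := fun huB => huZ (by rw [← hinf]; exact Subgroup.mem_inf.mpr ⟨huA, huB⟩)
        have hsup : Ω ⊔ B = ⊤ := by
          apply hBco.2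
          refine lt_of_le_of_ne le_sup_right ?_
          intro heq
          apply huB
          rw [heq]
          exact Subgroup.mem_sup_left huΩ
        intro a ha
        have ha' : a ∈ Ω ⊔ B := by rw [hsup]; trivial
        obtain ⟨ω, hω, b, hb, rfl⟩ := Cfsg.Agent.Helper6.MaxCent.mem_sup_norm Ω B
          (by rw [Subgroup.normalizer_eq_top]; exact le_top) a ha'
        have hbZ : b ∈ Subgroup.center G := by
          rw [← hinf]
          refine Subgroup.mem_inf.mpr ⟨?_, hb⟩
          have : b = ω⁻¹ * (ω * b) := by group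
          rw [this]; exact mul_mem (inv_mem hω.1) ha
        have hcomm : Commute ω b := Subgroup.mem_center_iff.mp hbZ ω
        rw [hcomm.mul_pow]
        exact mul_mem hω.2 (pow_mem hbZ _)
      have hpr : p ≠ r := by
        intro hpr
        apply hBn
        haveI := Cfsg.Agent.Helper6.MaxCent2.nilpotent_of_quot hp (fun x => ⟨2, by
          have h1 : x ^ p ∈ A := by rw [hpr]; exact hAr x
          rw [pow_two, pow_mul]
          exact hAp _ h1⟩)
        exact Cfsg.Agent.Helper6.MaxCent2.coatom_normal B hBco
      have hQna : ¬ IsMulCommutative (G ⧸ Subgroup.center G) := by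
        intro hQ
        apply hBn
        refine ⟨fun b hb x => ?_⟩
        have h1 : x * b * x⁻¹ * b⁻¹ ∈ Subgroup.center G := by
          rw [← QuotientGroup.eq_one_iff, QuotientGroup.mk_mul, QuotientGroup.mk_mul,
            QuotientGroup.mk_mul, QuotientGroup.mk_inv, QuotientGroup.mk_inv,
            hQ.is_comm.comm (↑x) (↑b)]
          group
        have e : x * b * x⁻¹ = (x * b * x⁻¹ * b⁻¹) * b := by group
        rw [e]; exact mul_mem (hZB h1) hb
      have hsub : ∀ H : Subgroup (G ⧸ Subgroup.center G), H ≠ ⊤ → IsMulCommutative ↥H := by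
        intro H hH
        have hH' : H.comap (QuotientGroup.mk' (Subgroup.center G)) ≠ ⊤ := by
          intro htop
          apply hH
          rw [eq_top_iff]
          intro q _
          obtain ⟨x, rfl⟩ := QuotientGroup.mk_surjective q
          have : x ∈ H.comap (QuotientGroup.mk' (Subgroup.center G)) := by rw [htop]; trivial
          exact this
        have hZH : Subgroup.center G ≤ H.comap (QuotientGroup.mk' (Subgroup.center G)) := by
          intro z hz
          rw [Subgroup.mem_comap]
          have : QuotientGroup.mk' (Subgroup.center G) z = 1 := (QuotientGroup.eq_one_iff z).mpr hz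
          rw [this]; exact one_mem _
        have hmemH : ∀ x : G, (QuotientGroup.mk x : G ⧸ Subgroup.center G) ∈ H ↔
            x ∈ H.comap (QuotientGroup.mk' (Subgroup.center G)) := fun x => Iff.rfl
        generalize H.comap (QuotientGroup.mk' (Subgroup.center G)) = H' at hH' hZH hmemH
        have hcH : ∀ a ∈ H', ∀ b ∈ H', a * b * a⁻¹ * b⁻¹ ∈ Subgroup.center G := by
          by_cases hle : H' ≤ A
          · intro a ha b hb
            have : a * b * a⁻¹ * b⁻¹ = 1 := by
              rw [hkab a (hle ha) b (hle hb)]; group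
            rw [this]; exact one_mem _
          · obtain ⟨h₀, hh₀, hh₀A⟩ : ∃ x ∈ H', x ∉ A := by
              by_contra hcon
              push Not at hcon
              exact hle hcon
            have hsupAH : A ⊔ H' = ⊤ := by
              apply hAco.2
              refine lt_of_le_of_ne le_sup_left ?_
              intro heq
              apply hh₀A
              rw [heq]
              exact Subgroup.mem_sup_right hh₀
            have hDn : (H' ⊓ A).Normal := by
              refine ⟨fun d hd x => ?_⟩
              have hx : x ∈ A ⊔ H' := by rw [hsupAH]; trivial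
              obtain ⟨a, ha, t, ht, rfl⟩ := Cfsg.Agent.Helper6.MaxCent.mem_sup_norm A H'
                (by rw [Subgroup.normalizer_eq_top]; exact le_top) x hx
              obtain ⟨hd1, hd2⟩ := Subgroup.mem_inf.mp hd
              have h1 : t * d * t⁻¹ ∈ H' ⊓ A :=
                Subgroup.mem_inf.mpr ⟨mul_mem (mul_mem ht hd1) (inv_mem ht), hkn.conj_mem d hd2 t⟩
              have h2 : a * t * d * (a * t)⁻¹ = t * d * t⁻¹ := by
                have h3 := hkab a ha (t * d * t⁻¹) (Subgroup.mem_inf.mp h1).2
                calc a * t * d * (a * t)⁻¹ = (a * (t * d * t⁻¹)) * a⁻¹ := by group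
                  _ = ((t * d * t⁻¹) * a) * a⁻¹ := by rw [h3]
                  _ = t * d * t⁻¹ := by group
              rw [h2]; exact h1
            by_cases hDB : H' ⊓ A ≤ B
            · intro a ha b hb
              have h1 : a * b * a⁻¹ * b⁻¹ ∈ H' ⊓ A :=
                Subgroup.mem_inf.mpr ⟨mul_mem (mul_mem (mul_mem ha hb) (inv_mem ha)) (inv_mem hb),
                  hAc a b⟩
              rw [← hinf]
              exact Subgroup.mem_inf.mpr ⟨(Subgroup.mem_inf.mp h1).2, hDB h1⟩
            · exfalso
              have hsupDB : (H' ⊓ A) ⊔ B = ⊤ := by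
                apply hBco.2
                refine lt_of_le_of_ne le_sup_right ?_
                intro heq
                apply hDB
                rw [heq]
                exact le_sup_left
              apply hH'
              apply hAco.2
              refine lt_of_le_of_ne ?_ ?_
              · intro a ha
                have ha' : a ∈ (H' ⊓ A) ⊔ B := by rw [hsupDB]; trivial
                obtain ⟨d, hd, b, hb, rfl⟩ := Cfsg.Agent.Helper6.MaxCent.mem_sup_norm (H' ⊓ A) B
                  (by rw [Subgroup.normalizer_eq_top]; exact le_top) a ha'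
                have hbZ : b ∈ Subgroup.center G := by
                  rw [← hinf]
                  refine Subgroup.mem_inf.mpr ⟨?_, hb⟩
                  have : b = d⁻¹ * (d * b) := by group
                  rw [this]; exact mul_mem (inv_mem (Subgroup.mem_inf.mp hd).2) ha
                exact mul_mem (Subgroup.mem_inf.mp hd).1 (hZH hbZ)
              · intro heq
                apply hh₀A
                rw [heq]; exact hh₀
        refine ⟨⟨fun x y => Subtype.ext ?_⟩⟩
        obtain ⟨a, ha⟩ := QuotientGroup.mk_surjective x.1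
        obtain ⟨b, hb⟩ := QuotientGroup.mk_surjective y.1
        have haH : a ∈ H' := (hmemH a).mp (by rw [ha]; exact x.2)
        have hbH : b ∈ H' := (hmemH b).mp (by rw [hb]; exact y.2)
        show x.1 * y.1 = y.1 * x.1
        rw [← ha, ← hb]
        exact hcomm_mk a b (hcH _ (inv_mem hbH) _ (inv_mem haH))
      refine ⟨hQna, hsub, ?_⟩
      have hĀn : (A.map (QuotientGroup.mk' (Subgroup.center G))).Normal :=
        Subgroup.Normal.map hkn _ (QuotientGroup.mk'_surjective _)
      have hĀp : IsPGroup p ↥(A.map (QuotientGroup.mk' (Subgroup.center G))) := by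
        rintro ⟨q, a, ha, rfl⟩
        refine ⟨1, Subtype.ext ?_⟩
        rw [pow_one]
        show (QuotientGroup.mk' (Subgroup.center G) a) ^ p = 1
        rw [← map_pow]
        exact (QuotientGroup.eq_one_iff _).mpr (hAp a ha)
      haveI := Fact.mk hp
      obtain ⟨n, hn⟩ := IsPGroup.iff_card.mp hĀp
      have hidx : (A.map (QuotientGroup.mk' (Subgroup.center G))).index = r := by
        rw [Subgroup.index_map_eq (H := A) (QuotientGroup.mk'_surjective _)
          (by rw [QuotientGroup.ker_mk']; exact hZA), hAidx]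
      refine ⟨p, r, n, hp, hr, hpr, ?_, ?_⟩
      · rw [← Subgroup.card_mul_index (A.map (QuotientGroup.mk' (Subgroup.center G))), hn, hidx]
      · intro P hP
        have hPp : IsPGroup p ↥P := IsPGroup.of_card hP
        have hle : P ≤ A.map (QuotientGroup.mk' (Subgroup.center G)) := by
          intro q hq
          obtain ⟨x, rfl⟩ := QuotientGroup.mk_surjective q
          obtain ⟨j, hj⟩ := hPp ⟨_, hq⟩
          have hj0 := congrArg Subtype.val hj
          simp only [Subgroup.coe_pow, Subgroup.coe_one] at hj0
          rw [← QuotientGroup.mk_pow, QuotientGroup.eq_one_iff] at hj0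
          have hxA : x ∈ A := Cfsg.Agent.S4262.mem_of_pow_mem_coprime A x (p ^ j) r
            (Nat.Coprime.pow_left j ((Nat.coprime_primes hp hr).mpr hpr)) (hZA hj0) (hAr x)
          exact ⟨x, hxA, rfl⟩
        have heq : P = A.map (QuotientGroup.mk' (Subgroup.center G)) :=
          Subgroup.eq_of_le_of_card_ge hle (by rw [hP, hn])
        rw [heq]; exact hĀn
  · push Not at hex
    left
    obtain ⟨p, hp, hq⟩ := Cfsg.Agent.Helper6.MaxCent2.quot_pgroup h hex
    haveI := Cfsg.Agent.Helper6.MaxCent2.nilpotent_of_quot hp hq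
    have key : ∀ x : G, x ∉ Subgroup.center G →
        (∀ g : G, g ^ p ∈ Subgroup.centralizer ({x} : Set G)) ∧
        (∀ a b : G, a * b * a⁻¹ * b⁻¹ ∈ Subgroup.centralizer ({x} : Set G)) := by
      intro x hx
      haveI hN := Cfsg.Agent.Helper6.MaxCent2.coatom_normal _ (h x hx)
      obtain ⟨r, hr, -, hMr, hMc⟩ := normal_coatom _ (h x hx)
      have hrp : r = p := by
        by_contra hne
        obtain ⟨g, hg⟩ : ∃ g : G, g ∉ Subgroup.centralizer ({x} : Set G) := by
          by_contra hcon
          push Not at hcon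
          exact (h x hx).1 (eq_top_iff.mpr fun g _ => hcon g)
        obtain ⟨j, hj⟩ := hq g
        exact hg (Cfsg.Agent.S4262.mem_of_pow_mem_coprime _ g (p ^ j) r
          (Nat.Coprime.pow_left j ((Nat.coprime_primes hp hr).mpr (Ne.symm hne)))
          (Subgroup.center_le_centralizer _ hj) (hMr g))
      rw [← hrp]; exact ⟨hMr, hMc⟩
    apply hA_of p hp
    · intro a b
      rw [Subgroup.mem_center_iff]
      intro x
      by_cases hx : x ∈ Subgroup.center G
      · exact (Subgroup.mem_center_iff.mp hx _).symm
      · have h1 := (key x hx).2 a b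
        rw [Subgroup.mem_centralizer_singleton_iff] at h1
        exact h1.symm
    · intro g
      rw [Subgroup.mem_center_iff]
      intro x
      by_cases hx : x ∈ Subgroup.center G
      · exact (Subgroup.mem_center_iff.mp hx _).symm
      · have h1 := (key x hx).1 g
        rw [Subgroup.mem_centralizer_singleton_iff] at h1
        exact h1.symm

end Cfsg.Agent.S3904
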