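import Cfsg.Statements.S4086
import Mathlib

set_option autoImplicit false
open Cfsg

namespace Cfsg.Agent.S4086

theorem mem_zpowers_of_orderOf_dvd {C : Type*} [Group C] [Finite C] [IsCyclic C] (x y : C)
    (h : orderOf x ∣ orderOf y) : x ∈ Subgroup.zpowers y := by
  classical
  letI : Fintype C := Fintype.ofFinite C
  have hd : 0 < orderOf y := orderOf_pos y
  have hsub : ((Subgroup.zpowers y : Subgroup C) : Set C) ⊆ {c : C | c ^ orderOf y = 1} := by
    intro c hc
    obtain ⟨k, rfl⟩ := Subgroup.mem_zpowers_iff.1 hc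
    show (y ^ k) ^ orderOf y = 1
    exact zpow_pow_orderOf
  have hcard : ({c : C | c ^ orderOf y = 1} : Set C).ncard ≤
      ((Subgroup.zpowers y : Subgroup C) : Set C).ncard := by
    have h1 := IsCyclic.card_pow_eq_one_le (α := C) hd
    have h2 : ({c : C | c ^ orderOf y = 1} : Set C).ncard
        = (Finset.univ.filter (fun a : C => a ^ orderOf y = 1)).card := by
      rw [Set.ncard_eq_toFinset_card', Set.toFinset_setOf]
    have h3 : ((Subgroup.zpowers y : Subgroup C) : Set C).ncard = orderOf y := by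
      rw [← Nat.card_coe_set_eq]
      exact Nat.card_zpowers y
    rw [h2, h3]
    exact h1
  have heq := Set.eq_of_subset_of_ncard_le hsub hcard (Set.toFinite _)
  have hx : x ∈ {c : C | c ^ orderOf y = 1} := orderOf_dvd_iff_pow_eq_one.1 h
  rw [← heq] at hx
  exact hx

theorem isCyclic_of_le_zpowers {G : Type*} [Group G] (K : Subgroup G) (g : G)
    (h : K ≤ Subgroup.zpowers g) : IsCyclic K := by
  haveI : IsCyclic (K.subgroupOf (Subgroup.zpowers g)) := inferInstance
  exact isCyclic_of_surjective (Subgroup.subgroupOfEquivOfLe h).toMonoidHom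
    (Subgroup.subgroupOfEquivOfLe h).surjective

theorem result {G : Type*} [Group G] [Finite G] :
    (∀ g : G, g ≠ 1 → IsPrimePow (orderOf g)) ↔
    (∀ x y : G, IsCyclic ↥(Subgroup.closure ({x, y} : Set G)) → (x ∈ Subgroup.zpowers y ∨ y ∈ Subgroup.zpowers x)) := by
  constructor
  · intro hE x y hcyc
    haveI := hcyc
    have hxC : x ∈ Subgroup.closure ({x, y} : Set G) := Subgroup.subset_closure (by simp)
    have hyC : y ∈ Subgroup.closure ({x, y} : Set G) := Subgroup.subset_closure (by simp)
    obtain ⟨z, hz⟩ := IsCyclic.exists_generator (α := Subgroup.closure ({x, y} : Set G))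
    have hcard : orderOf z = Nat.card (Subgroup.closure ({x, y} : Set G)) :=
      orderOf_eq_card_of_forall_mem_zpowers hz
    have key : orderOf (⟨x, hxC⟩ : Subgroup.closure ({x, y} : Set G)) ∣
          orderOf (⟨y, hyC⟩ : Subgroup.closure ({x, y} : Set G)) ∨
        orderOf (⟨y, hyC⟩ : Subgroup.closure ({x, y} : Set G)) ∣
          orderOf (⟨x, hxC⟩ : Subgroup.closure ({x, y} : Set G)) := by
      by_cases hz1 : (z : G) = 1
      · left
        have h0 : Nat.card (Subgroup.closure ({x, y} : Set G)) = 1 := by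
          rw [← hcard, orderOf_eq_one_iff]
          exact Subtype.ext hz1
        have h1 : orderOf (⟨x, hxC⟩ : Subgroup.closure ({x, y} : Set G)) ∣ 1 :=
          h0 ▸ orderOf_dvd_natCard _
        rw [Nat.dvd_one] at h1
        rw [h1]
        exact one_dvd _
      · obtain ⟨p, k, hp, hk, hpk⟩ := (isPrimePow_nat_iff _).1 (hE (z : G) hz1)
        rw [Subgroup.orderOf_coe, hcard] at hpk
        have hx' : orderOf (⟨x, hxC⟩ : Subgroup.closure ({x, y} : Set G)) ∣ p ^ k :=
          hpk ▸ orderOf_dvd_natCard _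
        have hy' : orderOf (⟨y, hyC⟩ : Subgroup.closure ({x, y} : Set G)) ∣ p ^ k :=
          hpk ▸ orderOf_dvd_natCard _
        obtain ⟨i, _, hi⟩ := (Nat.dvd_prime_pow hp).1 hx'
        obtain ⟨j, _, hj⟩ := (Nat.dvd_prime_pow hp).1 hy'
        rw [hi, hj]
        rcases Nat.le_total i j with h | h
        · left; exact pow_dvd_pow p h
        · right; exact pow_dvd_pow p h
    rcases key with h | h
    · left
      have h1 := mem_zpowers_of_orderOf_dvd _ _ h
      obtain ⟨k, hk⟩ := Subgroup.mem_zpowers_iff.1 h1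
      rw [Subgroup.mem_zpowers_iff]
      refine ⟨k, ?_⟩
      have h2 := congrArg Subtype.val hk
      simpa using h2
    · right
      have h1 := mem_zpowers_of_orderOf_dvd _ _ h
      obtain ⟨k, hk⟩ := Subgroup.mem_zpowers_iff.1 h1
      rw [Subgroup.mem_zpowers_iff]
      refine ⟨k, ?_⟩
      have h2 := congrArg Subtype.val hk
      simpa using h2
  · intro hC g hg
    have hn : orderOf g ≠ 0 := (orderOf_pos g).ne'
    have hn1 : orderOf g ≠ 1 := by
      rw [Ne, orderOf_eq_one_iff]
      exact hg
    obtain ⟨p, hp, hpn⟩ := Nat.exists_prime_and_dvd hn1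
    obtain ⟨k, m, hm, hnkm⟩ := Nat.exists_eq_pow_mul_and_not_dvd hn p hp.one_lt.ne'
    have hk : 0 < k := by
      rcases Nat.eq_zero_or_pos k with h | h
      · exfalso
        subst h
        rw [pow_zero, one_mul] at hnkm
        exact hm (hnkm ▸ hpn)
      · exact h
    have hm0 : m ≠ 0 := by
      rintro rfl
      exact hm (dvd_zero p)
    rw [isPrimePow_nat_iff]
    by_cases hm1 : m = 1
    · exact ⟨p, k, hp, hk, by rw [hnkm, hm1, mul_one]⟩
    exfalso
    have hx : orderOf (g ^ m) = p ^ k := by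
      rw [orderOf_pow_of_dvd hm0 (hnkm ▸ dvd_mul_left m _), hnkm]
      exact Nat.mul_div_cancel _ (Nat.pos_of_ne_zero hm0)
    have hy : orderOf (g ^ (p ^ k)) = m := by
      rw [orderOf_pow_of_dvd (pow_pos hp.pos k).ne' (hnkm ▸ dvd_mul_right _ m), hnkm]
      exact Nat.mul_div_cancel_left _ (pow_pos hp.pos k)
    have hcyc : IsCyclic (Subgroup.closure ({g ^ m, g ^ (p ^ k)} : Set G)) := by
      apply isCyclic_of_le_zpowers _ g
      rw [Subgroup.closure_le]
      intro c hc
      rcases hc with rfl | rfl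
      · exact Subgroup.pow_mem _ (Subgroup.mem_zpowers g) _
      · exact Subgroup.pow_mem _ (Subgroup.mem_zpowers g) _
    rcases hC _ _ hcyc with h | h
    · have h1 := orderOf_dvd_of_mem_zpowers h
      rw [hx, hy] at h1
      exact hm ((dvd_pow_self p hk.ne').trans h1)
    · have h1 := orderOf_dvd_of_mem_zpowers h
      rw [hx, hy] at h1
      obtain ⟨i, _, hi⟩ := (Nat.dvd_prime_pow hp).1 h1
      rcases Nat.eq_zero_or_pos i with h0 | h0
      · subst h0
        exact hm1 (by simpa using hi)
      · exact hm (hi ▸ dvd_pow_self p h0.ne')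

end Cfsg.Agent.S4086
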