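import Cfsg.Statements.S4153
import Mathlib
import Cfsg.Agent.Helper7.PiDecomp
import Cfsg.Agent.Helper4.PPrimeP

set_option autoImplicit false
open Cfsg

namespace Cfsg.Agent.S4153

open Cfsg.Agent.Helper7

theorem natCard_subtype_eq {α : Type*} [Fintype α] (P : α → Prop) [DecidablePred P] :
    Nat.card {x // P x} = (Finset.univ.filter P).card := by
  rw [Nat.card_eq_fintype_card, Fintype.card_subtype]

/-- `Q ∩ N` has order the `p`-part of `|N|`. -/
theorem card_sylow_inf_normal {G : Type*} [Group G] [Finite G] (p : ℕ) [Fact p.Prime]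
    (N : Subgroup G) [N.Normal] (Q : Sylow p G) :
    Nat.card ((Q : Subgroup G) ⊓ N : Subgroup G) = p ^ (Nat.card N).factorization p := by
  have hp : p.Prime := Fact.out
  have h1 := Cfsg.Agent.Helper4.sylow_inf_normal_not_dvd Q N
  have h2 : Nat.card ((Q : Subgroup G) ⊓ N : Subgroup G) * ((Q : Subgroup G) ⊓ N).relIndex N
      = Nat.card N := by
    have e := Subgroup.card_mul_index (((Q : Subgroup G) ⊓ N).subgroupOf N)
    have e2 : Nat.card (((Q : Subgroup G) ⊓ N).subgroupOf N)
        = Nat.card ((Q : Subgroup G) ⊓ N : Subgroup G) :=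
      Nat.card_congr (Subgroup.subgroupOfEquivOfLe inf_le_right).toEquiv
    rw [e2] at e
    exact e
  have hpg : IsPGroup p ((Q : Subgroup G) ⊓ N : Subgroup G) := Q.2.to_le inf_le_left
  obtain ⟨j, hj⟩ := IsPGroup.iff_card.1 hpg
  rw [hj] at h2 ⊢
  congr 1
  have hne : ((Q : Subgroup G) ⊓ N).relIndex N ≠ 0 := by
    intro h0
    rw [h0, mul_zero] at h2
    exact Nat.card_pos.ne' h2.symm
  rw [← h2, Nat.factorization_mul (pow_pos hp.pos j).ne' hne]
  rw [Finsupp.add_apply, Nat.factorization_pow, Finsupp.smul_apply, hp.factorization_self,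
    smul_eq_mul, mul_one, Nat.factorization_eq_zero_of_not_dvd h1, add_zero]

/-- Let G be a finite group, p a prime, N a normal subgroup, P a Sylow p-subgroup of G and P̄ a Sylow p-subgroup of G/N. Count the elements of p-power order, the identity included. Then (number of such elements of G/N)/#P̄ ≤ (number of such elements of G)/#P, stated as a cross-multiplied inequality, with equality when N is central. -/
theorem result {G : Type*} [Group G] [Finite G] (p : ℕ) [Fact p.Prime] (N : Subgroup G) [N.Normal]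
    (P : Sylow p G) (Pbar : Sylow p (G ⧸ N)) :
    Nat.card {g : (G ⧸ N) // ∃ k : ℕ, orderOf g = p ^ k} * Nat.card (P : Subgroup G) ≤ Nat.card {g : G // ∃ k : ℕ, orderOf g = p ^ k} * Nat.card (Pbar : Subgroup (G ⧸ N)) ∧
    (N ≤ Subgroup.center G → Nat.card {g : (G ⧸ N) // ∃ k : ℕ, orderOf g = p ^ k} * Nat.card (P : Subgroup G) = Nat.card {g : G // ∃ k : ℕ, orderOf g = p ^ k} * Nat.card (Pbar : Subgroup (G ⧸ N))) := by
  classical
  have hp : p.Prime := Fact.out
  set c := p ^ (Nat.card N).factorization p with hc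
  -- Sylow cards
  have hPc : Nat.card (P : Subgroup G) = Nat.card (Pbar : Subgroup (G ⧸ N)) * c := by
    rw [Sylow.card_eq_multiplicity, Sylow.card_eq_multiplicity, hc, ← pow_add]
    congr 1
    rw [Subgroup.card_eq_card_quotient_mul_card_subgroup N,
      Nat.factorization_mul Nat.card_pos.ne' Nat.card_pos.ne', Finsupp.add_apply]
  haveI : Fintype G := Fintype.ofFinite G
  haveI : Fintype (G ⧸ N) := Fintype.ofFinite _
  set S : Finset G := Finset.univ.filter (fun g => ∃ k : ℕ, orderOf g = p ^ k) with hSdef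
  set T : Finset (G ⧸ N) := Finset.univ.filter (fun g => ∃ k : ℕ, orderOf g = p ^ k) with hTdef
  have hS : Nat.card {g : G // ∃ k : ℕ, orderOf g = p ^ k} = S.card :=
    natCard_subtype_eq _
  have hT : Nat.card {g : (G ⧸ N) // ∃ k : ℕ, orderOf g = p ^ k} = T.card :=
    natCard_subtype_eq _
  rw [hS, hT]
  have hmaps : ∀ g ∈ S, (QuotientGroup.mk' N) g ∈ T := by
    intro g hg
    obtain ⟨k, hk⟩ := (Finset.mem_filter.1 hg).2
    have h1 : orderOf (QuotientGroup.mk' N g) ∣ p ^ k := hk ▸ orderOf_map_dvd _ g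
    obtain ⟨j, -, hj⟩ := (Nat.dvd_prime_pow hp).1 h1
    exact Finset.mem_filter.2 ⟨Finset.mem_univ _, j, hj⟩
  have hfib : S.card = ∑ b ∈ T, (S.filter (fun a => QuotientGroup.mk' N a = b)).card :=
    Finset.card_eq_sum_card_fiberwise hmaps
  -- per-fiber structure
  have hstruct : ∀ t ∈ T, ∃ (q : G) (Q : Sylow p G), q ∈ Q ∧ QuotientGroup.mk' N q = t := by
    intro t ht
    obtain ⟨k, hk⟩ := (Finset.mem_filter.1 ht).2
    obtain ⟨x, rfl⟩ := QuotientGroup.mk'_surjective N t
    obtain ⟨u, v, hxuv, hu, hv, hupi, hvpi⟩ := exists_piPart_mul ({p} : Set ℕ) x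
    have hv1 : QuotientGroup.mk' N v = 1 := by
      rw [← orderOf_eq_one_iff]
      have hmem : QuotientGroup.mk' N v ∈ Subgroup.zpowers (QuotientGroup.mk' N x) := by
        obtain ⟨m, hm⟩ := Subgroup.mem_zpowers_iff.1 hv
        rw [← hm, map_zpow]
        exact Subgroup.zpow_mem_zpowers _ m
      have h1 : orderOf (QuotientGroup.mk' N v) ∣ p ^ k := hk ▸ orderOf_dvd_of_mem_zpowers hmem
      have h2 : orderOf (QuotientGroup.mk' N v) ∣ orderOf v := orderOf_map_dvd _ _
      obtain ⟨j, -, hj⟩ := (Nat.dvd_prime_pow hp).1 h1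
      rw [hj]
      rcases Nat.eq_zero_or_pos j with rfl | hjpos
      · rfl
      · exfalso
        have h3 : p ∣ orderOf v := (dvd_pow_self p hjpos.ne').trans (hj ▸ h2)
        exact hvpi p hp h3 (Set.mem_singleton p)
    have hu' : QuotientGroup.mk' N u = QuotientGroup.mk' N x := by
      conv_rhs => rw [hxuv, map_mul, hv1, mul_one]
    have hupg : IsPGroup p (Subgroup.zpowers u) := by
      apply IsPGroup.of_card (n := (orderOf u).primeFactorsList.length)
      rw [Nat.card_zpowers]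
      exact Nat.eq_prime_pow_of_unique_prime_dvd (orderOf_pos u).ne'
        (fun {d} hd hdu => hupi d hd hdu)
    obtain ⟨Q, hQ⟩ := hupg.exists_le_sylow
    exact ⟨u, Q, hQ (Subgroup.mem_zpowers u), hu'⟩
  have hQN : ∀ Q : Sylow p G,
      (Finset.univ.filter (fun n => n ∈ (Q : Subgroup G) ⊓ N)).card = c := by
    intro Q
    rw [hc, ← card_sylow_inf_normal p N Q]
    exact (natCard_subtype_eq (fun n => n ∈ (Q : Subgroup G) ⊓ N)).symm
  have hlow : ∀ t ∈ T, c ≤ (S.filter (fun a => QuotientGroup.mk' N a = t)).card := by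
    intro t ht
    obtain ⟨q, Q, hqQ, hqt⟩ := hstruct t ht
    rw [← hQN Q]
    apply Finset.card_le_card_of_injOn (fun n => q * n)
    · intro n hn
      have hn' : n ∈ (Q : Subgroup G) ⊓ N := by simpa using hn
      have hmem : q * n ∈ (Q : Subgroup G) := Q.1.mul_mem hqQ hn'.1
      obtain ⟨k, hk⟩ := IsPGroup.iff_orderOf.1 Q.2 ⟨q * n, hmem⟩
      rw [Subgroup.orderOf_mk] at hk
      have h1 : q * n ∈ S := Finset.mem_filter.2 ⟨Finset.mem_univ _, k, hk⟩
      have h2 : QuotientGroup.mk' N (q * n) = t := by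
        rw [map_mul, hqt]
        have : QuotientGroup.mk' N n = 1 := (QuotientGroup.eq_one_iff n).2 hn'.2
        rw [this, mul_one]
      exact Finset.mem_coe.2 (Finset.mem_filter.2 ⟨h1, h2⟩)
    · intro a _ b _ hab
      exact mul_left_cancel hab
  have hup : N ≤ Subgroup.center G →
      ∀ t ∈ T, (S.filter (fun a => QuotientGroup.mk' N a = t)).card ≤ c := by
    intro hcen t ht
    obtain ⟨q, Q, hqQ, hqt⟩ := hstruct t ht
    rw [← hQN Q]
    apply Finset.card_le_card_of_surjOn (fun n => q * n)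
    intro g hg
    have hg' := Finset.mem_filter.1 (Finset.mem_coe.1 hg)
    obtain ⟨kg, hkg⟩ := (Finset.mem_filter.1 hg'.1).2
    have hgt := hg'.2
    have hnN : q⁻¹ * g ∈ N := by
      have : QuotientGroup.mk' N (q⁻¹ * g) = 1 := by
        rw [map_mul, map_inv, hgt, hqt, inv_mul_cancel]
      exact (QuotientGroup.eq_one_iff _).1 this
    have hnc : q⁻¹ * g ∈ Subgroup.center G := hcen hnN
    have hcomm : Commute q⁻¹ g := by
      have h2 := Subgroup.mem_center_iff.1 hnc q⁻¹
      show q⁻¹ * g = g * q⁻¹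
      have h3 : q⁻¹ * (q⁻¹ * g) = q⁻¹ * (g * q⁻¹) := by rw [h2]; group
      exact mul_left_cancel h3
    have hn_ord : ∃ k, orderOf (q⁻¹ * g) = p ^ k := by
      obtain ⟨kq, hkq⟩ := IsPGroup.iff_orderOf.1 Q.2 ⟨q, hqQ⟩
      rw [Subgroup.orderOf_mk] at hkq
      have h1 : orderOf (q⁻¹ * g) ∣ Nat.lcm (orderOf q⁻¹) (orderOf g) :=
        hcomm.orderOf_mul_dvd_lcm
      rw [orderOf_inv, hkq, hkg] at h1
      have h2 : Nat.lcm (p ^ kq) (p ^ kg) ∣ p ^ (max kq kg) :=
        Nat.lcm_dvd (pow_dvd_pow p (le_max_left _ _)) (pow_dvd_pow p (le_max_right _ _))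
      obtain ⟨j, -, hj⟩ := (Nat.dvd_prime_pow hp).1 (h1.trans h2)
      exact ⟨j, hj⟩
    have hnQ : q⁻¹ * g ∈ (Q : Subgroup G) := by
      obtain ⟨k, hk⟩ := hn_ord
      have hpg : IsPGroup p (Subgroup.zpowers (q⁻¹ * g)) :=
        IsPGroup.of_card (n := k) (by rw [Nat.card_zpowers, hk])
      haveI : (Subgroup.zpowers (q⁻¹ * g)).Normal := by
        constructor
        intro x hx y
        obtain ⟨m, rfl⟩ := Subgroup.mem_zpowers_iff.1 hx
        have h1 : y * (q⁻¹ * g) ^ m * y⁻¹ = (q⁻¹ * g) ^ m := by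
          have h2 : (q⁻¹ * g) ^ m ∈ Subgroup.center G := Subgroup.zpow_mem _ hnc m
          rw [Subgroup.mem_center_iff.1 h2 y]
          group
        rw [h1]
        exact Subgroup.zpow_mem_zpowers _ m
      have h3 : IsPGroup p ((Q : Subgroup G) ⊔ Subgroup.zpowers (q⁻¹ * g) : Subgroup G) :=
        IsPGroup.to_sup_of_normal_right Q.2 hpg
      have h4 := Q.is_maximal' h3 le_sup_left
      have h5 : q⁻¹ * g ∈ (Q : Subgroup G) ⊔ Subgroup.zpowers (q⁻¹ * g) :=
        (le_sup_right : Subgroup.zpowers (q⁻¹ * g) ≤ _) (Subgroup.mem_zpowers _)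
      rw [h4] at h5
      exact h5
    refine ⟨q⁻¹ * g, ?_, by simp⟩
    exact Finset.mem_coe.2 (Finset.mem_filter.2 ⟨Finset.mem_univ _, hnQ, hnN⟩)
  have hge : T.card * c ≤ S.card := by
    rw [hfib]
    have := Finset.card_nsmul_le_sum T (fun b => (S.filter (fun a => QuotientGroup.mk' N a = b)).card) c hlow
    simpa [smul_eq_mul] using this
  constructor
  · rw [hPc]
    calc T.card * (Nat.card (Pbar : Subgroup (G ⧸ N)) * c)
        = (T.card * c) * Nat.card (Pbar : Subgroup (G ⧸ N)) := by ring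
      _ ≤ S.card * Nat.card (Pbar : Subgroup (G ⧸ N)) := Nat.mul_le_mul_right _ hge
  · intro hcen
    have hle : S.card ≤ T.card * c := by
      rw [hfib]
      have := Finset.sum_le_card_nsmul T (fun b => (S.filter (fun a => QuotientGroup.mk' N a = b)).card) c (hup hcen)
      simpa [smul_eq_mul] using this
    rw [hPc, le_antisymm hle hge]
    ring

end Cfsg.Agent.S4153
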