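import Cfsg.Statements.S4112
import Mathlib
import Cfsg.Agent.S4153
import Cfsg.Agent.Helper4.PPrimeP
import Cfsg.Agent.Helper5.Singer

set_option autoImplicit false
open Cfsg

namespace Cfsg.Agent.S4112

universe u

/-- A Sylow `p`-subgroup is contained in a normal subgroup of index prime to `p`. -/
theorem sylow_le_of_not_dvd_index {G : Type*} [Group G] [Finite G] (p : ℕ) [Fact p.Prime]
    (N : Subgroup G) [N.Normal] (P : Sylow p G) (h : ¬ p ∣ N.index) : (P : Subgroup G) ≤ N := by
  have hp : p.Prime := Fact.out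
  intro x hx
  by_contra hxN
  have h1 : (QuotientGroup.mk x : G ⧸ N) ≠ 1 := by
    rwa [Ne, QuotientGroup.eq_one_iff]
  obtain ⟨k, hk⟩ := P.2 ⟨x, hx⟩
  have hk' : x ^ p ^ k = 1 := by simpa using congrArg Subtype.val hk
  have h2 : (QuotientGroup.mk x : G ⧸ N) ^ p ^ k = 1 := by
    rw [← QuotientGroup.mk_pow, hk']; rfl
  have h3 : orderOf (QuotientGroup.mk x : G ⧸ N) ∣ p ^ k := orderOf_dvd_of_pow_eq_one h2
  obtain ⟨j, hj, hj'⟩ := (Nat.dvd_prime_pow hp).1 h3
  have h4 : orderOf (QuotientGroup.mk x : G ⧸ N) ∣ N.index := by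
    rw [Subgroup.index_eq_card]; exact orderOf_dvd_natCard _
  rcases Nat.eq_zero_or_pos j with rfl | hjpos
  · rw [pow_zero, orderOf_eq_one_iff] at hj'; exact h1 hj'
  · apply h
    rw [hj'] at h4
    exact (dvd_pow_self p hjpos.ne').trans h4

/-- A normal subgroup has a supplement all of whose prime divisors divide the index. -/
theorem exists_supp (n : ℕ) : ∀ (G : Type u) [Group G] [Finite G] (N : Subgroup G) [N.Normal],
    Nat.card G ≤ n →
    ∃ H : Subgroup G, H ⊔ N = ⊤ ∧ ∀ p : ℕ, p.Prime → p ∣ Nat.card H → p ∣ N.index := by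
  induction n with
  | zero =>
    intro G _ _ N _ h
    exact absurd h (by have := Nat.card_pos (α := G); omega)
  | succ n ih =>
    intro G _ _ N _ hcard
    by_cases hall : ∀ p : ℕ, p.Prime → p ∣ Nat.card G → p ∣ N.index
    · exact ⟨⊤, top_sup_eq _, fun p hp hd => hall p hp (by rwa [Subgroup.card_top] at hd)⟩
    · push_neg at hall
      obtain ⟨p, hp, hpG, hpN⟩ := hall
      haveI : Fact p.Prime := ⟨hp⟩
      obtain ⟨P⟩ : Nonempty (Sylow p G) := inferInstance
      have hPN : (P : Subgroup G) ≤ N := sylow_le_of_not_dvd_index p N P hpN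
      have hL : ∃ L : Subgroup G, L ≠ ⊤ ∧ L ⊔ N = ⊤ := by
        by_cases hnorm : Subgroup.normalizer ((P : Subgroup G) : Set G) = ⊤
        · haveI : (P : Subgroup G).Normal := Subgroup.normalizer_eq_top_iff.1 hnorm
          have hcop : Nat.Coprime (Nat.card (P : Subgroup G)) (P : Subgroup G).index := by
            obtain ⟨k, hk⟩ := (IsPGroup.iff_card.1 P.2)
            rw [hk]
            exact Nat.Coprime.pow_left _ ((Nat.Prime.coprime_iff_not_dvd hp).2 P.not_dvd_index)
          obtain ⟨L, hL⟩ := Subgroup.exists_right_complement'_of_coprime hcop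
          refine ⟨L, ?_, ?_⟩
          · intro hLtop
            have h1 := hL.card_mul
            rw [hLtop, Subgroup.card_top] at h1
            have h2 : Nat.card (P : Subgroup G) = 1 := by
              have := Nat.card_pos (α := G)
              nlinarith
            have h3 : p ∣ Nat.card (P : Subgroup G) := P.dvd_card_of_dvd_card hpG
            rw [h2] at h3
            exact hp.one_lt.ne' (Nat.dvd_one.1 h3)
          · have h1 : (P : Subgroup G) ⊔ L = ⊤ := hL.sup_eq_top
            rw [eq_top_iff, ← h1]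
            exact sup_le (hPN.trans le_sup_right) le_sup_left
        · refine ⟨Subgroup.normalizer ((P : Subgroup G) : Set G), hnorm, ?_⟩
          rw [eq_top_iff]
          intro g _
          obtain ⟨l, hl, hlg⟩ := Cfsg.Agent.Helper4.frattini_inf_normal P N g
          have hPN' : (P : Subgroup G) ⊓ N = P := inf_eq_left.2 hPN
          rw [hPN'] at hlg
          have : g = l⁻¹ * (l * g) := by group
          rw [this]
          exact Subgroup.mul_mem _ (Subgroup.mem_sup_right (N.inv_mem hl))
            (Subgroup.mem_sup_left hlg)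
      obtain ⟨L, hLtop, hLN⟩ := hL
      have hcardL : Nat.card L ≤ n := by
        have h1 : Nat.card L < Nat.card G :=
          lt_of_le_of_ne (Subgroup.card_le_card_group L)
            (fun h => hLtop (Subgroup.eq_top_of_card_eq L h))
        omega
      obtain ⟨H', hH', hH'p⟩ := ih L (N.subgroupOf L) hcardL
      refine ⟨H'.map L.subtype, ?_, ?_⟩
      · rw [eq_top_iff, ← hLN]
        apply sup_le _ le_sup_right
        intro x hx
        have hx' : (⟨x, hx⟩ : L) ∈ H' ⊔ N.subgroupOf L := by rw [hH']; trivial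
        have h2 : L.subtype ⟨x, hx⟩ ∈ (H' ⊔ N.subgroupOf L).map L.subtype :=
          Subgroup.mem_map_of_mem _ hx'
        rw [Subgroup.map_sup] at h2
        have h3 : (N.subgroupOf L).map L.subtype ≤ N := by
          rw [Subgroup.subgroupOf_map_subtype]; exact inf_le_left
        exact (sup_le_sup_left h3 _) h2
      · intro q hq hqd
        have h1 : Nat.card (H'.map L.subtype) = Nat.card H' :=
          Subgroup.card_map_of_injective L.subtype_injective
        rw [h1] at hqd
        have h2 := hH'p q hq hqd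
        have h3 : (N.subgroupOf L).index = N.index := by
          show N.relIndex L = N.index
          rw [← Subgroup.relIndex_sup_right (K := N) (H := L), hLN, Subgroup.relIndex_top_right]
        rwa [h3] at h2

/-- Let G be a finite group and M ≤ N non-trivial proper normal subgroups such that for every g outside N the conjugacy class of g is a union of cosets of M (equivalently gm is conjugate to g for every m ∈ M). Then (1) and (2) below are equivalent, and they imply (3): (1) every g outside N acts fixed-point-freely on M, that is C_G(x) ≤ N for every x ∈ M, x ≠ 1; (2) the index of N in G is coprime to the order of M; (3) there is a subgroup H of G with HN = G and H ∩ M = 1. -/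
theorem result {G : Type*} [Group G] [Finite G] (N M : Subgroup G) [N.Normal] [M.Normal] (hMN : M ≤ N) (hM1 : M ≠ ⊥) (hN2 : N ≠ ⊤)
    (hcam : ∀ g : G, g ∉ N → ∀ m ∈ M, ∃ x : G, x * g * x⁻¹ = g * m) :
    ((∀ x ∈ M, x ≠ 1 → Subgroup.centralizer ({x} : Set G) ≤ N) ↔ N.index.Coprime (Nat.card M)) ∧
    ((∀ x ∈ M, x ≠ 1 → Subgroup.centralizer ({x} : Set G) ≤ N) → ∃ H : Subgroup G, H ⊔ N = ⊤ ∧ H ⊓ M = ⊥) := by
  have hA : (∀ x ∈ M, x ≠ 1 → Subgroup.centralizer ({x} : Set G) ≤ N) →
      N.index.Coprime (Nat.card M) := by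
    intro h1
    by_contra hcop
    obtain ⟨p, hp, hpd1, hpd2⟩ := Nat.Prime.not_coprime_iff_dvd.1 hcop
    haveI : Fact p.Prime := ⟨hp⟩
    obtain ⟨P⟩ : Nonempty (Sylow p G) := inferInstance
    haveI : Group.IsNilpotent (P : Subgroup G) := P.2.isNilpotent
    have hK : M.subgroupOf (P : Subgroup G) ≠ ⊥ := by
      intro hbot
      have h2 := Cfsg.Agent.S4153.card_sylow_inf_normal p M P
      have h3 : ((P : Subgroup G) ⊓ M : Subgroup G) = ⊥ := by
        rw [Subgroup.subgroupOf_eq_bot] at hbot
        rw [inf_comm]; exact hbot.eq_bot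
      rw [h3, Subgroup.card_bot] at h2
      have h4 : (Nat.card M).factorization p = 0 := by
        by_contra h5
        have : 1 < p ^ (Nat.card M).factorization p := Nat.one_lt_pow h5 hp.one_lt
        omega
      have h5 : 0 < (Nat.card M).factorization p :=
        hp.factorization_pos_of_dvd Nat.card_pos.ne' hpd2
      omega
    have hK2 : M.subgroupOf (P : Subgroup G) ⊓ Subgroup.center (P : Subgroup G) ≠ ⊥ :=
      fun h => hK (Cfsg.Agent.Helper5.eq_bot_of_inf_center_eq_bot_nilp _ h)
    rw [Ne, Subgroup.eq_bot_iff_forall] at hK2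
    push_neg at hK2
    obtain ⟨x, hx, hx1⟩ := hK2
    have hxM : (x : G) ∈ M := hx.1
    have hx1' : (x : G) ≠ 1 := fun h => hx1 (Subtype.ext h)
    have hPle : (P : Subgroup G) ≤ N := by
      refine le_trans ?_ (h1 (x : G) hxM hx1')
      intro g hg
      rw [Subgroup.mem_centralizer_singleton_iff]
      have h3 := (Subgroup.mem_center_iff.1 hx.2) ⟨g, hg⟩
      exact congrArg Subtype.val h3
    have h4 : N.index ∣ (P : Subgroup G).index := Subgroup.index_dvd_of_le hPle
    exact P.not_dvd_index (hpd1.trans h4)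
  have hB : N.index.Coprime (Nat.card M) →
      (∀ x ∈ M, x ≠ 1 → Subgroup.centralizer ({x} : Set G) ≤ N) := by
    intro hcop x hxM hx1 g hg
    by_contra hgN
    rw [Subgroup.mem_centralizer_singleton_iff] at hg
    have hd : orderOf (QuotientGroup.mk g : G ⧸ N) ≠ 1 := by
      rw [Ne, orderOf_eq_one_iff, QuotientGroup.eq_one_iff]; exact hgN
    obtain ⟨p, hp, hpd⟩ := Nat.exists_prime_and_dvd hd
    have hn : orderOf g ≠ 0 := (orderOf_pos g).ne'
    obtain ⟨a, b, hb, hab⟩ := Nat.exists_eq_pow_mul_and_not_dvd hn p hp.ne_one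
    have hh1 : (g ^ b) ^ (p ^ a) = 1 := by
      rw [← pow_mul, mul_comm, ← hab, pow_orderOf_eq_one]
    have hhN : g ^ b ∉ N := by
      intro hmem
      have h2 : (QuotientGroup.mk g : G ⧸ N) ^ b = 1 := by
        rw [← QuotientGroup.mk_pow, QuotientGroup.eq_one_iff]; exact hmem
      exact hb (hpd.trans (orderOf_dvd_of_pow_eq_one h2))
    have hcomm : Commute (g ^ b) x := Commute.pow_left hg b
    obtain ⟨y, hy⟩ := hcam (g ^ b) hhN x hxM
    have h3 : (g ^ b * x) ^ (p ^ a) = 1 := by
      rw [← hy, conj_pow, hh1, mul_one, mul_inv_cancel]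
    rw [hcomm.mul_pow, hh1, one_mul] at h3
    have h4 : orderOf x ∣ p ^ a := orderOf_dvd_of_pow_eq_one h3
    have h5 : orderOf x ∣ Nat.card M := Subgroup.orderOf_dvd_natCard M hxM
    have hpi : p ∣ N.index := by
      rw [Subgroup.index_eq_card]; exact hpd.trans (orderOf_dvd_natCard _)
    have h6 : Nat.Coprime (p ^ a) (Nat.card M) :=
      Nat.Coprime.pow_left _ (Nat.Coprime.coprime_dvd_left hpi hcop)
    have h7 : orderOf x = 1 := Nat.eq_one_of_dvd_coprimes h6 h4 h5
    exact hx1 (orderOf_eq_one_iff.1 h7)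
  refine ⟨⟨hA, hB⟩, ?_⟩
  intro h1
  have hcop := hA h1
  obtain ⟨H, hH, hHp⟩ := exists_supp (Nat.card G) G N le_rfl
  refine ⟨H, hH, ?_⟩
  by_contra hne
  have hcard : Nat.card (H ⊓ M : Subgroup G) ≠ 1 := by
    intro h; exact hne (Subgroup.card_eq_one.1 h)
  obtain ⟨p, hp, hpd⟩ := Nat.exists_prime_and_dvd hcard
  have h2 : p ∣ Nat.card H := hpd.trans (Subgroup.card_dvd_of_le inf_le_left)
  have h3 : p ∣ Nat.card M := hpd.trans (Subgroup.card_dvd_of_le inf_le_right)
  have h4 := hHp p hp h2
  exact hp.one_lt.ne' (Nat.dvd_one.1 (hcop ▸ Nat.dvd_gcd h4 h3))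

end Cfsg.Agent.S4112
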