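import Cfsg.Statements.S4113
import Mathlib

set_option autoImplicit false
open Cfsg

namespace Cfsg.Agent.S4113

theorem result {G : Type*} [Group G] [Finite G] (N M : Subgroup G) [N.Normal] [M.Normal] (hMN : M ≤ N) (hM1 : M ≠ ⊥) (hN2 : N ≠ ⊤)
    (H : Subgroup G) (hHM : H ⊔ M = ⊤) (hHM' : H ⊓ M = ⊥) :
    (∀ x ∈ M, x ≠ 1 → Subgroup.centralizer ({x} : Set G) ≤ N) ↔
      (H ≠ ⊥ ∧ H ≠ ⊤ ∧ H ⊓ N < H ∧ ∀ g : G, g ∉ H → H ⊓ H.map (MulAut.conj g).toMonoidHom ≤ N) := by
  classical
  have hN : N.Normal := inferInstance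
  have hMn : M.Normal := inferInstance
  -- factorization
  have F1 : ∀ g : G, ∃ h ∈ H, ∃ m ∈ M, h * m = g := by
    intro g
    have h1 : g ∈ ((H ⊔ M : Subgroup G) : Set G) := by
      rw [hHM]
      trivial
    rw [Subgroup.mul_normal] at h1
    exact Set.mem_mul.1 h1
  have F2 : ∀ x : G, x ∈ H → x ∈ M → x = 1 := by
    intro x hx hx'
    have h1 : x ∈ H ⊓ M := ⟨hx, hx'⟩
    rw [hHM', Subgroup.mem_bot] at h1
    exact h1
  have hmap : ∀ (g y : G), y ∈ H.map (MulAut.conj g).toMonoidHom ↔ ∃ y₀ ∈ H, g * y₀ * g⁻¹ = y := by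
    intro g y
    rw [Subgroup.mem_map]
    rfl
  constructor
  · intro hC
    refine ⟨?_, ?_, ?_, ?_⟩
    · intro h
      rw [h, bot_sup_eq] at hHM
      apply hN2
      rw [eq_top_iff, ← hHM]
      exact hMN
    · intro h
      rw [h, top_inf_eq] at hHM'
      exact hM1 hHM'
    · refine lt_of_le_of_ne inf_le_left ?_
      intro h
      have h1 : H ≤ N := by
        rw [← h]
        exact inf_le_right
      apply hN2
      rw [eq_top_iff, ← hHM]
      exact sup_le h1 hMN
    · intro g hg y hy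
      obtain ⟨hyH, hyg⟩ := Subgroup.mem_inf.1 hy
      rw [hmap] at hyg
      obtain ⟨y₀, hy₀, hy₀g⟩ := hyg
      obtain ⟨h, hh, m, hm, hhm⟩ := F1 g
      have hm1 : m ≠ 1 := by
        rintro rfl
        rw [mul_one] at hhm
        exact hg (hhm ▸ hh)
      -- y₁ = h⁻¹ y h = m y₀ m⁻¹
      have h1 : h⁻¹ * y * h = m * y₀ * m⁻¹ := by
        rw [← hy₀g, ← hhm]
        group
      have h2 : h⁻¹ * y * h ∈ H := H.mul_mem (H.mul_mem (H.inv_mem hh) hyH) hh
      have h3 : (m * y₀ * m⁻¹) * y₀⁻¹ ∈ H := by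
        rw [← h1]
        exact H.mul_mem h2 (H.inv_mem hy₀)
      have h4 : (m * y₀ * m⁻¹) * y₀⁻¹ ∈ M := by
        have h5 : (m * y₀ * m⁻¹) * y₀⁻¹ = m * (y₀ * m⁻¹ * y₀⁻¹) := by group
        rw [h5]
        exact M.mul_mem hm (hMn.conj_mem _ (M.inv_mem hm) _)
      have h5 := F2 _ h3 h4
      have h6 : m * y₀ * m⁻¹ = y₀ := by
        rw [mul_inv_eq_one] at h5
        exact h5
      have h7 : y₀ ∈ Subgroup.centralizer ({m} : Set G) := by
        rw [Subgroup.mem_centralizer_iff]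
        intro z hz
        rw [Set.mem_singleton_iff] at hz
        rw [hz]
        rw [mul_inv_eq_iff_eq_mul] at h6
        exact h6
      have h8 : y₀ ∈ N := hC m hm hm1 h7
      have h9 : y = h * y₀ * h⁻¹ := by
        rw [← h6, ← h1]
        group
      rw [h9]
      exact hN.conj_mem _ h8 _
  · rintro ⟨hH1, hH2, hlt, hTI⟩
    -- cardinalities
    have cGHM : Nat.card G = Nat.card H * Nat.card M := by
      rw [← Nat.card_prod]
      symm
      apply Nat.card_congr
      refine Equiv.ofBijective (fun z : H × M => (z.1 : G) * (z.2 : G)) ⟨?_, ?_⟩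
      · rintro ⟨a, b⟩ ⟨a', b'⟩ hab
        have hab' : (a : G) * b = a' * b' := hab
        have h1 : (a' : G)⁻¹ * a = b' * (b : G)⁻¹ := by
          rw [inv_mul_eq_iff_eq_mul, ← mul_assoc, ← hab']
          group
        have h2 := F2 _ (H.mul_mem (H.inv_mem a'.2) a.2) (h1 ▸ M.mul_mem b'.2 (M.inv_mem b.2))
        have h3 : (a : G) = a' := by
          rw [inv_mul_eq_one] at h2
          exact h2.symm
        have h4 : (b : G) = b' := by
          rw [h3] at hab'
          exact mul_left_cancel hab'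
        exact Prod.ext (Subtype.ext h3) (Subtype.ext h4)
      · intro g
        obtain ⟨h, hh, m, hm, hhm⟩ := F1 g
        exact ⟨(⟨h, hh⟩, ⟨m, hm⟩), hhm⟩
    have cN : Nat.card N = Nat.card {y : H // (y : G) ∈ N} * Nat.card M := by
      rw [← Nat.card_prod]
      symm
      apply Nat.card_congr
      refine Equiv.ofBijective (fun z : {y : H // (y : G) ∈ N} × M =>
        (⟨(z.1.1 : G) * (z.2 : G), N.mul_mem z.1.2 (hMN z.2.2)⟩ : N)) ⟨?_, ?_⟩
      · rintro ⟨a, b⟩ ⟨a', b'⟩ hab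
        have hab' : (a.1 : G) * b = a'.1 * b' := congrArg Subtype.val hab
        have h1 : (a'.1 : G)⁻¹ * a.1 = b' * (b : G)⁻¹ := by
          rw [inv_mul_eq_iff_eq_mul, ← mul_assoc, ← hab']
          group
        have h2 := F2 _ (H.mul_mem (H.inv_mem a'.1.2) a.1.2) (h1 ▸ M.mul_mem b'.2 (M.inv_mem b.2))
        have h3 : (a.1 : G) = a'.1 := by
          rw [inv_mul_eq_one] at h2
          exact h2.symm
        have h4 : (b : G) = b' := by
          rw [h3] at hab'
          exact mul_left_cancel hab'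
        exact Prod.ext (Subtype.ext (Subtype.ext h3)) (Subtype.ext h4)
      · intro n
        obtain ⟨h, hh, m, hm, hhm⟩ := F1 n.1
        have h1 : h ∈ N := by
          have h2 : h = n.1 * m⁻¹ := by rw [← hhm]; group
          rw [h2]
          exact N.mul_mem n.2 (N.inv_mem (hMN hm))
        exact ⟨(⟨⟨h, hh⟩, h1⟩, ⟨m, hm⟩), Subtype.ext hhm⟩
    have cH : Nat.card {y : H // (y : G) ∈ N} + Nat.card {y : H // (y : G) ∉ N} = Nat.card H := by
      rw [← Nat.card_sum]
      exact Nat.card_congr (Equiv.sumCompl (fun y : H => (y : G) ∈ N))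
    have cG : Nat.card {c : G // c ∈ N} + Nat.card {c : G // c ∉ N} = Nat.card G := by
      rw [← Nat.card_sum]
      exact Nat.card_congr (Equiv.sumCompl (fun c : G => c ∈ N))
    have cQ : Nat.card (G ⧸ H) = Nat.card M := by
      have h1 := Subgroup.card_eq_card_quotient_mul_card_subgroup H
      rw [cGHM, mul_comm] at h1
      exact (Nat.eq_of_mul_eq_mul_right Nat.card_pos h1).symm
    -- the covering claim
    have hcover : ∀ c : G, c ∉ N → ∃ g : G, g⁻¹ * c * g ∈ H := by
      have hinj : Function.Injective (fun z : (G ⧸ H) × {y : H // (y : G) ∉ N} =>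
          (⟨z.1.out * (z.2.1 : G) * z.1.out⁻¹, fun hc => z.2.2 (by
            have h1 := hN.conj_mem _ hc z.1.out⁻¹
            have h2 : z.1.out⁻¹ * (z.1.out * (z.2.1 : G) * z.1.out⁻¹) * z.1.out⁻¹⁻¹ = (z.2.1 : G) := by
              group
            rwa [h2] at h1)⟩ : {c : G // c ∉ N})) := by
        rintro ⟨q, y⟩ ⟨q', y'⟩ hqy
        have h1 : q.out * (y.1 : G) * q.out⁻¹ = q'.out * (y'.1 : G) * q'.out⁻¹ :=
          congrArg Subtype.val hqy
        have h2 : (y.1 : G) = (q.out⁻¹ * q'.out) * (y'.1 : G) * (q.out⁻¹ * q'.out)⁻¹ := by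
          have h3 : (y.1 : G) = q.out⁻¹ * (q.out * (y.1 : G) * q.out⁻¹) * q.out := by group
          rw [h3, h1]
          group
        have h4 : q.out⁻¹ * q'.out ∈ H := by
          by_contra hnot
          have h5 := hTI _ hnot
          have h6 : (y.1 : G) ∈ H ⊓ H.map (MulAut.conj (q.out⁻¹ * q'.out)).toMonoidHom :=
            Subgroup.mem_inf.2 ⟨y.1.2, (hmap _ _).2 ⟨y'.1, y'.1.2, h2.symm⟩⟩
          exact y.2 (h5 h6)
        have h7 : q = q' := by
          rw [← QuotientGroup.out_eq' q, ← QuotientGroup.out_eq' q']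
          exact QuotientGroup.eq.2 h4
        subst h7
        have h8 : (y.1 : G) = y'.1 := by
          have h9 := mul_right_cancel h1
          exact mul_left_cancel h9
        exact Prod.ext rfl (Subtype.ext (Subtype.ext h8))
      have hcard : Nat.card {c : G // c ∉ N} ≤ Nat.card ((G ⧸ H) × {y : H // (y : G) ∉ N}) := by
        rw [Nat.card_prod, cQ]
        have h1 : Nat.card {c : G // c ∈ N} = Nat.card N := rfl
        rw [h1, cN, cGHM, ← cH] at cG
        nlinarith
      have hbij := hinj.bijective_of_nat_card_le hcard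
      intro c hc
      obtain ⟨⟨q, y⟩, hqy⟩ := hbij.2 ⟨c, hc⟩
      have h1 : q.out * (y.1 : G) * q.out⁻¹ = c := congrArg Subtype.val hqy
      refine ⟨q.out, ?_⟩
      rw [← h1]
      have h2 : q.out⁻¹ * (q.out * (y.1 : G) * q.out⁻¹) * q.out = (y.1 : G) := by group
      rw [h2]
      exact y.1.2
    intro x hx hx1 c hc
    by_contra hcN
    obtain ⟨g, hg⟩ := hcover c hcN
    rw [Subgroup.mem_centralizer_iff] at hc
    have hcx : x * c = c * x := hc x rfl
    have hx' : g⁻¹ * x * g ∈ M := by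
      have h1 := hMn.conj_mem x hx g⁻¹
      rwa [inv_inv] at h1
    have hx'1 : g⁻¹ * x * g ≠ 1 := by
      intro h
      apply hx1
      have h2 : x = g * (g⁻¹ * x * g) * g⁻¹ := by group
      rw [h2, h]
      group
    have hyN : g⁻¹ * c * g ∉ N := by
      intro h
      apply hcN
      have h1 := hN.conj_mem _ h g
      have h2 : g * (g⁻¹ * c * g) * g⁻¹ = c := by group
      rwa [h2] at h1
    have hcomm : (g⁻¹ * x * g) * (g⁻¹ * c * g) * (g⁻¹ * x * g)⁻¹ = g⁻¹ * c * g := by
      have h1 : (g⁻¹ * x * g) * (g⁻¹ * c * g) * (g⁻¹ * x * g)⁻¹ = g⁻¹ * (x * c) * x⁻¹ * g := by group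
      rw [h1, hcx]
      group
    by_cases hxH : g⁻¹ * x * g ∈ H
    · exact hx'1 (F2 _ hxH hx')
    · have h1 := hTI _ hxH
      have h2 : g⁻¹ * c * g ∈ H ⊓ H.map (MulAut.conj (g⁻¹ * x * g)).toMonoidHom :=
        Subgroup.mem_inf.2 ⟨hg, (hmap _ _).2 ⟨g⁻¹ * c * g, hg, hcomm⟩⟩
      exact hyN (h1 h2)

end Cfsg.Agent.S4113
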