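import Cfsg.Statements.S4344
import Mathlib
import Cfsg.Agent.S4086
import Cfsg.Agent.Helper7.SylowLemmas

set_option autoImplicit false
open Cfsg

namespace Cfsg.Agent.S4344

open Cfsg.Agent.Helper7 in
theorem result {S : Type*} [Group S] [Finite S]
    [IsSimpleGroup S] (hS : ¬ IsMulCommutative S) (p : ℕ) [Fact p.Prime] (hp : p ∣ Nat.card S)
    (M : Subgroup S) (hM : IsCoatom M) (C : Subgroup S) (hCM : C ≤ M) (hCn : (C.subgroupOf M).Normal)
    (hC : IsCyclic C) (P : Sylow p S) (hP : (P : Subgroup S) ≤ C) :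
    Nat.card (Sylow p S) = M.index := by
  haveI := hC
  -- a generator of P inside C
  haveI : IsCyclic ((P : Subgroup S).subgroupOf C) := inferInstance
  obtain ⟨g, hg⟩ := IsCyclic.exists_generator (α := (P : Subgroup S).subgroupOf C)
  have hgord : orderOf (g : C) = Nat.card (P : Subgroup S) := by
    rw [Subgroup.orderOf_coe, orderOf_eq_card_of_forall_mem_zpowers hg]
    exact Nat.card_congr (Subgroup.subgroupOfEquivOfLe hP).toEquiv
  have hgP : ((g : C) : S) ∈ (P : Subgroup S) := Subgroup.mem_subgroupOf.1 g.2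
  -- conjugation by elements of M preserves P
  have key : ∀ m ∈ M, ∀ x ∈ (P : Subgroup S), m * x * m⁻¹ ∈ (P : Subgroup S) := by
    intro m hm x hx
    have hxC : x ∈ C := hP hx
    have hyC : m * x * m⁻¹ ∈ C := by
      have h1 := hCn.conj_mem ⟨x, hCM hxC⟩ (Subgroup.mem_subgroupOf.2 hxC) ⟨m, hm⟩
      exact Subgroup.mem_subgroupOf.1 h1
    have hord : orderOf (⟨m * x * m⁻¹, hyC⟩ : C) ∣ orderOf (g : C) := by
      rw [hgord, Subgroup.orderOf_mk, orderOf_conj_eq]
      exact Subgroup.orderOf_dvd_natCard _ hx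
    have h2 := Cfsg.Agent.S4086.mem_zpowers_of_orderOf_dvd _ _ hord
    obtain ⟨k, hk⟩ := Subgroup.mem_zpowers_iff.1 h2
    have h3 : ((g : C) : S) ^ k = m * x * m⁻¹ := by
      have := congrArg Subtype.val hk
      simpa using this
    rw [← h3]
    exact (P : Subgroup S).zpow_mem hgP k
  have hMN : M ≤ Subgroup.normalizer ((P : Subgroup S) : Set S) := by
    intro m hm
    rw [Subgroup.mem_normalizer_iff]
    intro x
    constructor
    · intro hx
      exact key m hm x hx
    · intro hx
      have h1 := key m⁻¹ (M.inv_mem hm) _ hx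
      have h2 : m⁻¹ * (m * x * m⁻¹) * m⁻¹⁻¹ = x := by group
      rw [h2] at h1
      exact h1
  have hNtop : Subgroup.normalizer ((P : Subgroup S) : Set S) ≠ ⊤ := by
    intro htop
    have hnorm : (P : Subgroup S).Normal := Subgroup.normalizer_eq_top_iff.1 htop
    rcases hnorm.eq_bot_or_eq_top with h | h
    · exact P.ne_bot_of_dvd_card hp h
    · apply hS
      have hCtop : C = ⊤ := by
        rw [eq_top_iff, ← h]
        exact hP
      rw [isMulCommutative_iff]
      intro a b
      have hcomm : ∀ u v : C, u * v = v * u := by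
        intro u v
        obtain ⟨z, hz⟩ := IsCyclic.exists_generator (α := C)
        obtain ⟨i, rfl⟩ := Subgroup.mem_zpowers_iff.1 (hz u)
        obtain ⟨j, rfl⟩ := Subgroup.mem_zpowers_iff.1 (hz v)
        rw [← zpow_add, ← zpow_add, add_comm]
      have := hcomm ⟨a, hCtop ▸ Subgroup.mem_top a⟩ ⟨b, hCtop ▸ Subgroup.mem_top b⟩
      exact congrArg Subtype.val this
  have hNM : Subgroup.normalizer ((P : Subgroup S) : Set S) = M := by
    rcases hM.le_iff.1 hMN with h | h
    · exact absurd h hNtop
    · exact h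
  rw [P.card_eq_index_normalizer]
  exact congrArg Subgroup.index hNM

end Cfsg.Agent.S4344
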