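import Cfsg.Statements.S4347
import Mathlib
import Cfsg.Agent.Helper7.SylowLemmas

set_option autoImplicit false
open Cfsg

namespace Cfsg.Agent.S4347

open Cfsg.Agent.Helper7 in
theorem result {G : Type*} [Group G] [Finite G]
    (p : ℕ) [Fact p.Prime] :
    (¬ ∃ Q : Sylow p G, ∀ x : G, (∃ k : ℕ, orderOf x = p ^ k) → ∃ P : Sylow p G, P ≠ Q ∧ x ∈ P) ↔
      ∃ x : G, (∃ k : ℕ, orderOf x = p ^ k) ∧ ∃! P : Sylow p G, x ∈ P := by
  constructor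
  · intro h
    obtain ⟨Q⟩ : Nonempty (Sylow p G) := inferInstance
    have h' : ∃ x : G, (∃ k : ℕ, orderOf x = p ^ k) ∧ ∀ P : Sylow p G, x ∈ P → P = Q := by
      by_contra hcon
      apply h
      refine ⟨Q, fun x hx => ?_⟩
      by_contra hcon2
      apply hcon
      refine ⟨x, hx, fun P hxP => ?_⟩
      by_contra hne
      exact hcon2 ⟨P, hne, hxP⟩
    obtain ⟨x, ⟨k, hk⟩, hxQ⟩ := h'
    obtain ⟨P, hxP⟩ := exists_sylow_mem_of_orderOf_eq_prime_pow x k hk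
    have hPQ : P = Q := hxQ P hxP
    exact ⟨x, ⟨k, hk⟩, Q, hPQ ▸ hxP, hxQ⟩
  · rintro ⟨x, ⟨k, hk⟩, P₀, hxP₀, huniq⟩ ⟨Q, hQ⟩
    obtain ⟨g, hg⟩ := MulAction.exists_smul_eq G P₀ Q
    have hy : orderOf (g * x * g⁻¹) = p ^ k := by
      rw [orderOf_conj_eq, hk]
    obtain ⟨P, hPQ, hyP⟩ := hQ _ ⟨k, hy⟩
    have h1 : x ∈ g⁻¹ • P := by
      rw [mem_smul_sylow_iff]
      simpa using hyP
    have h2 : g⁻¹ • P = P₀ := huniq _ h1
    apply hPQ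
    rw [← hg, ← h2, smul_inv_smul]

end Cfsg.Agent.S4347
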