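import Cfsg.Statements.S4348
import Mathlib
import Cfsg.Agent.Helper7.SylowLemmas

set_option autoImplicit false
open Cfsg

namespace Cfsg.Agent.S4348

open Cfsg.Agent.Helper7 in
theorem pCore_le_sylow {G : Type*} [Group G] [Finite G] (p : ℕ) [Fact p.Prime] (Q : Sylow p G) :
    Cfsg.pCore p G ≤ Q := by
  unfold Cfsg.pCore
  apply sSup_le
  rintro N ⟨hN, hpN⟩
  haveI := hN
  exact normal_pGroup_le_sylow N hpN Q

open Cfsg.Agent.Helper7 in
theorem result {G : Type*} [Group G] [Finite G]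
    (p : ℕ) [Fact p.Prime] (P : Sylow p G)
    [hn : ((Cfsg.pCore p G).subgroupOf (P : Subgroup G)).Normal]
    (hc : IsCyclic ((P : Subgroup G) ⧸ (Cfsg.pCore p G).subgroupOf (P : Subgroup G))) :
    ∃ x : G, (∃ k : ℕ, orderOf x = p ^ k) ∧ ∃! Q : Sylow p G, x ∈ Q := by
  obtain ⟨g, hg⟩ := hc.exists_generator
  obtain ⟨x', rfl⟩ := QuotientGroup.mk_surjective g
  refine ⟨(x' : G), orderOf_eq_prime_pow_of_mem_sylow P _ x'.2, P, x'.2, ?_⟩
  intro Q hxQ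
  apply sylow_eq_of_le
  intro y hy
  obtain ⟨n, hn'⟩ := Subgroup.mem_zpowers_iff.1 (hg (QuotientGroup.mk ⟨y, hy⟩))
  have h1 : ((x' ^ n)⁻¹ * ⟨y, hy⟩ : (P : Subgroup G)) ∈
      (Cfsg.pCore p G).subgroupOf (P : Subgroup G) := by
    rw [← QuotientGroup.eq, QuotientGroup.mk_zpow]
    exact hn'
  rw [Subgroup.mem_subgroupOf] at h1
  have h2 : (((x' ^ n)⁻¹ * ⟨y, hy⟩ : (P : Subgroup G)) : G) ∈ (Q : Subgroup G) :=
    pCore_le_sylow p Q h1
  have h3 : (((x' ^ n)⁻¹ * ⟨y, hy⟩ : (P : Subgroup G)) : G) = ((x' : G) ^ n)⁻¹ * y := by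
    simp
  rw [h3] at h2
  have h4 : y = (x' : G) ^ n * (((x' : G) ^ n)⁻¹ * y) := by group
  rw [h4]
  exact (Q : Subgroup G).mul_mem ((Q : Subgroup G).zpow_mem hxQ n) h2

end Cfsg.Agent.S4348
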