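import Cfsg.Statements.S4585
import Mathlib
import Cfsg.Agent.Lead.PLcs

set_option autoImplicit false
open Cfsg

namespace Cfsg.Agent.S4585

/-- Let p be a prime and P a group of order p^4. Then P' has index p^2 in P if and only if P has maximal nilpotency class, that is, nilpotency class exactly 3. -/
theorem result {P : Type*} [Group P] [Finite P] (p : ℕ) [Fact p.Prime] (hP : Nat.card P = p ^ 4) :
    (commutator P).index = p ^ 2 ↔ Group.nilpotencyClass P = 3 := by
  classical
  have hpp : p.Prime := Fact.out
  have hQ : IsPGroup p P := IsPGroup.of_card hP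
  haveI : Group.IsNilpotent P := hQ.isNilpotent
  have hc1 : commutator P = (⊤ : Subgroup P).lowerCentralSeries 1 :=
    Subgroup.top_lowerCentralSeries_one.symm
  have hbot3 : (⊤ : Subgroup P).lowerCentralSeries 3 = ⊥ :=
    Lead.PLcs.lcs_eq_bot hQ 4 hP (by norm_num)
  have hle3 : Group.nilpotencyClass P ≤ 3 :=
    Subgroup.lowerCentralSeries_eq_bot_iff_nilpotencyClass_le.mp hbot3
  constructor
  · intro hidx
    have hne2 : (⊤ : Subgroup P).lowerCentralSeries 2 ≠ ⊥ := by
      intro h2
      have hcz : commutator P ≤ Subgroup.center P := by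
        have h3 : ⁅(⊤ : Subgroup P).lowerCentralSeries 1, (⊤ : Subgroup P)⁆ = ⊥ := by
          rw [← Subgroup.lowerCentralSeries_succ]; exact h2
        rw [Subgroup.commutator_eq_bot_iff_le_centralizer] at h3
        have h4 : Subgroup.centralizer ((⊤ : Subgroup P) : Set P) = Subgroup.center P := by
          rw [Subgroup.coe_top, Subgroup.centralizer_univ]
        rw [hc1, ← h4]; exact h3
      have hd : (Subgroup.center P).index ∣ p ^ 2 := by
        rw [← hidx]; exact Subgroup.index_dvd_of_le hcz
      obtain ⟨j, hj, hjj⟩ := (Nat.dvd_prime_pow hpp).mp hd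
      have hcc : Nat.card (commutator P) = p ^ 2 := by
        have hmul := Subgroup.card_mul_index (commutator P)
        rw [hidx, hP] at hmul
        have h5 : p ^ 4 = p ^ 2 * p ^ 2 := by ring
        rw [h5] at hmul
        exact Nat.eq_of_mul_eq_mul_right (pow_pos hpp.pos 2) hmul
      have hp2 : p ^ 2 ≠ p := by
        intro h
        have h6 : p ^ 2 = p ^ 1 := by rw [pow_one]; exact h
        have h7 := Nat.pow_right_injective hpp.two_le h6
        omega
      have hp21 : p ^ 2 ≠ 1 := by
        have h6 : 1 < p ^ 2 := Nat.one_lt_pow (by norm_num) hpp.one_lt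
        omega
      interval_cases j
      · rw [pow_zero] at hjj
        have htop := Subgroup.index_eq_one.mp hjj
        have hcb : commutator P = ⊥ := by
          rw [commutator_def, Subgroup.commutator_eq_bot_iff_le_centralizer, Subgroup.coe_top,
            Subgroup.centralizer_univ, htop] <;> exact le_rfl
        rw [hcb, Subgroup.card_bot] at hcc
        exact hp21 hcc.symm
      · rw [pow_one] at hjj
        exact Lead.PLcs.index_center_ne_prime p hpp hjj
      · have h7 := Lead.PLcs.card_comm_of_index_center hjj
        rw [hcc] at h7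
        exact hp2 h7
    have h8 : ¬ Group.nilpotencyClass P ≤ 2 := fun h =>
      hne2 (Subgroup.lowerCentralSeries_eq_bot_iff_nilpotencyClass_le.mpr h)
    omega
  · intro hcl
    have hne2 : (⊤ : Subgroup P).lowerCentralSeries (4 - 2) ≠ ⊥ := by
      intro h
      have h1 := Subgroup.lowerCentralSeries_eq_bot_iff_nilpotencyClass_le.mp h
      omega
    have hcard := Lead.PLcs.maxclass_card hQ 4 (by norm_num) hP hne2 1 le_rfl (by norm_num)
    rw [← hc1] at hcard
    have hmul := Subgroup.card_mul_index (commutator P)
    rw [hcard, hP] at hmul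
    have h5 : p ^ 4 = p ^ (4 - 1 - 1) * p ^ 2 := by
      show p ^ 4 = p ^ 2 * p ^ 2
      ring
    rw [h5] at hmul
    exact Nat.eq_of_mul_eq_mul_left (pow_pos hpp.pos _) hmul


end Cfsg.Agent.S4585
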