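import Cfsg.Statements.S4586
import Mathlib
import Cfsg.Agent.S0663
import Cfsg.Agent.S3918

set_option autoImplicit false
open Cfsg

namespace Cfsg.Agent.S4586

open scoped commutatorElement

theorem top_of_max {P : Type*} [Group P] [Finite P] {p : ℕ} (hpp : p.Prime) (N : Subgroup P)
    (hN : N.index = p) (x : P) (hx : x ∉ N) (S : Subgroup P) (hNS : N ≤ S) (hxS : x ∈ S) :
    S = ⊤ := by
  rcases S3918.max_of_index_prime hpp N S hN hNS with h | h
  · exact absurd (h ▸ hxS) hx
  · exact h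

theorem commSub {P : Type*} [Group P] (R : Subgroup P) [hR : R.Normal] (a : P) :
    ∃ C : Subgroup P, ∀ b, b ∈ C ↔ a * b * a⁻¹ * b⁻¹ ∈ R := by
  refine ⟨{ carrier := {b | a * b * a⁻¹ * b⁻¹ ∈ R}, mul_mem' := ?_, one_mem' := ?_,
            inv_mem' := ?_ }, fun b => Iff.rfl⟩
  · intro b c hb hc
    have h1 : a * (b * c) * a⁻¹ * (b * c)⁻¹ =
        (a * b * a⁻¹ * b⁻¹) * (b * (a * c * a⁻¹ * c⁻¹) * b⁻¹) := by group
    show a * (b * c) * a⁻¹ * (b * c)⁻¹ ∈ R
    rw [h1]
    exact R.mul_mem hb (hR.conj_mem _ hc b)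
  · show a * 1 * a⁻¹ * 1⁻¹ ∈ R
    have h1 : a * 1 * a⁻¹ * 1⁻¹ = 1 := by group
    rw [h1]; exact R.one_mem
  · intro b hb
    have h1 : a * b⁻¹ * a⁻¹ * b⁻¹⁻¹ = b⁻¹ * (a * b * a⁻¹ * b⁻¹)⁻¹ * b⁻¹⁻¹ := by group
    show a * b⁻¹ * a⁻¹ * b⁻¹⁻¹ ∈ R
    rw [h1]
    exact hR.conj_mem _ (R.inv_mem hb) b⁻¹

theorem key {P : Type*} [Group P] [Finite P] (p : ℕ) [Fact p.Prime] (N : Subgroup P)
    [hNn : N.Normal] (hN : N.index = p) (x : P) (hx : x ∉ N) :
    (commutator P).index * Nat.card (commutator N) =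
      p * Nat.card {n : N // x * n * x⁻¹ * (n : P)⁻¹ ∈ (commutator N).map N.subtype} := by
  classical
  have hpp : p.Prime := Fact.out
  have hfmem : ∀ n : N, x * n * x⁻¹ * (n : P)⁻¹ ∈ N := fun n =>
    N.mul_mem (hNn.conj_mem n n.2 x) (N.inv_mem n.2)
  let f : N → N := fun n => ⟨x * n * x⁻¹ * (n : P)⁻¹, hfmem n⟩
  have hfmul : ∀ n m : N, f (n * m) = f n * (n * f m * n⁻¹) := by
    intro n m
    apply Subtype.ext
    show x * ((n : P) * m) * x⁻¹ * ((n : P) * m)⁻¹ =
      (x * n * x⁻¹ * (n : P)⁻¹) * (n * (x * m * x⁻¹ * (m : P)⁻¹) * (n : P)⁻¹)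
    group
  let φ : N →* Abelianization N := MonoidHom.mk' (fun n => Abelianization.of (f n)) (by
    intro n m
    show Abelianization.of (f (n * m)) = Abelianization.of (f n) * Abelianization.of (f m)
    rw [hfmul, map_mul, map_mul, map_mul, map_inv, mul_comm (Abelianization.of n),
      mul_inv_cancel_right])
  have hφ : ∀ n : N, φ n = Abelianization.of (f n) := fun n => rfl
  have hofker : ∀ n : N, Abelianization.of n = 1 ↔ n ∈ commutator N := by
    intro n
    rw [← Abelianization.ker_of, MonoidHom.mem_ker]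
  have hker : ∀ n : N, n ∈ φ.ker ↔
      x * n * x⁻¹ * (n : P)⁻¹ ∈ (commutator N).map N.subtype := by
    intro n
    rw [MonoidHom.mem_ker, hφ, hofker]
    constructor
    · intro h
      exact Subgroup.mem_map.mpr ⟨f n, h, rfl⟩
    · intro h
      obtain ⟨y, hy, hyx⟩ := Subgroup.mem_map.mp h
      have h1 : y = f n := Subtype.ext hyx
      rw [← h1]; exact hy
  have hc : Nat.card {n : N // x * n * x⁻¹ * (n : P)⁻¹ ∈ (commutator N).map N.subtype} =
      Nat.card φ.ker :=
    Nat.card_congr (Equiv.subtypeEquivRight (fun n => (hker n).symm))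
  have hsurj : Function.Surjective (Abelianization.of : N →* Abelianization N) := by
    intro q
    obtain ⟨a, rfl⟩ := QuotientGroup.mk_surjective q
    exact ⟨a, rfl⟩
  have hPN : commutator P ≤ N := by
    rw [commutator_def, Subgroup.commutator_le]
    intro a _ b _
    rw [commutatorElement_def]
    exact S0663.comm_le_of_index_prime (p := p) ⊤ N le_top
      (Subgroup.normalizer_eq_top_iff.mpr (inferInstance : N.Normal)).ge
      (by rw [Subgroup.relIndex_top_right]; exact hN) a (Subgroup.mem_top a) b (Subgroup.mem_top b)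
  have hKP : ∀ k : N, k ∈ commutator N → (k : P) ∈ commutator P := by
    intro k hk
    have h1 : (commutator N).map N.subtype ≤ commutator P := by
      rw [commutator_def, commutator_def, Subgroup.map_commutator]
      exact Subgroup.commutator_mono le_top le_top
    exact h1 (Subgroup.mem_map_of_mem _ hk)
  have hRP : ∀ n : N, Abelianization.of n ∈ φ.range → (n : P) ∈ commutator P := by
    intro n hn
    obtain ⟨m, hm⟩ := MonoidHom.mem_range.mp hn
    rw [hφ] at hm
    have h2 : (f m)⁻¹ * n ∈ commutator N := by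
      rw [← hofker, map_mul, map_inv, hm, inv_mul_cancel]
    have h3 : (n : P) = (x * m * x⁻¹ * (m : P)⁻¹) * (((f m)⁻¹ * n : N) : P) := by
      show (n : P) = (x * m * x⁻¹ * (m : P)⁻¹) * ((x * m * x⁻¹ * (m : P)⁻¹)⁻¹ * n)
      rw [mul_inv_cancel_left]
    rw [h3]
    refine (commutator P).mul_mem ?_ (hKP _ h2)
    have h4 : x * m * x⁻¹ * (m : P)⁻¹ = ⁅x, (m : P)⁆ := (commutatorElement_def x (m : P)).symm
    rw [h4, commutator_def]
    exact Subgroup.commutator_mem_commutator (Subgroup.mem_top _) (Subgroup.mem_top _)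
  obtain ⟨R', hR'def⟩ : ∃ R' : Subgroup P,
      R' = (φ.range.comap Abelianization.of).map N.subtype := ⟨_, rfl⟩
  have hR'mem : ∀ g : P, g ∈ R' ↔ ∃ n : N, Abelianization.of n ∈ φ.range ∧ (n : P) = g := by
    intro g
    rw [hR'def, Subgroup.mem_map]
    constructor
    · rintro ⟨n, hn, rfl⟩
      exact ⟨n, Subgroup.mem_comap.mp hn, rfl⟩
    · rintro ⟨n, hn, rfl⟩
      exact ⟨n, Subgroup.mem_comap.mpr hn, rfl⟩
  have hR'N : ∀ (a : N) (g : P), g ∈ R' → (a : P) * g * (a : P)⁻¹ ∈ R' := by
    intro a g hg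
    obtain ⟨n, hn, rfl⟩ := (hR'mem g).mp hg
    refine (hR'mem _).mpr ⟨a * n * a⁻¹, ?_, rfl⟩
    rw [map_mul, map_mul, map_inv, mul_comm (Abelianization.of a), mul_inv_cancel_right]
    exact hn
  have hR'x : ∀ g ∈ R', x * g * x⁻¹ ∈ R' := by
    intro g hg
    obtain ⟨n, hn, rfl⟩ := (hR'mem g).mp hg
    refine (hR'mem _).mpr ⟨f n * n, ?_, ?_⟩
    · rw [map_mul]
      exact φ.range.mul_mem (MonoidHom.mem_range.mpr ⟨n, rfl⟩) hn
    · show x * n * x⁻¹ * (n : P)⁻¹ * n = x * n * x⁻¹
      rw [inv_mul_cancel_right]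
  have hnormtop : Subgroup.normalizer (R' : Set P) = ⊤ := by
    apply top_of_max hpp N hN x hx
    · intro a ha
      apply S3803.mem_normalizer_of_fwd
      intro g hg
      exact hR'N ⟨a, ha⟩ g hg
    · apply S3803.mem_normalizer_of_fwd
      exact hR'x
  haveI hR'n : R'.Normal := Subgroup.normalizer_eq_top_iff.mp hnormtop
  have hb : ∀ n : N, x * n * x⁻¹ * (n : P)⁻¹ ∈ R' := fun n =>
    (hR'mem _).mpr ⟨f n, MonoidHom.mem_range.mpr ⟨n, rfl⟩, rfl⟩
  have hc' : ∀ n m : N, (n : P) * m * (n : P)⁻¹ * (m : P)⁻¹ ∈ R' := by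
    intro n m
    refine (hR'mem _).mpr ⟨n * m * n⁻¹ * m⁻¹, ?_, rfl⟩
    have h1 : Abelianization.of (n * m * n⁻¹ * m⁻¹) = 1 := by
      rw [map_mul, map_mul, map_mul, map_inv, map_inv, mul_comm (Abelianization.of n),
        mul_inv_cancel_right, mul_inv_cancel]
    rw [h1]; exact φ.range.one_mem
  have hall : ∀ a b : P, a * b * a⁻¹ * b⁻¹ ∈ R' := by
    have hsym : ∀ a b : P, a * b * a⁻¹ * b⁻¹ ∈ R' → b * a * b⁻¹ * a⁻¹ ∈ R' := by
      intro a b h
      have h1 : b * a * b⁻¹ * a⁻¹ = (a * b * a⁻¹ * b⁻¹)⁻¹ := by group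
      rw [h1]; exact R'.inv_mem h
    have hx_all : ∀ b : P, x * b * x⁻¹ * b⁻¹ ∈ R' := by
      obtain ⟨C, hC⟩ := commSub R' x
      have hCtop : C = ⊤ := by
        apply top_of_max hpp N hN x hx
        · intro n hn
          exact (hC n).mpr (hb ⟨n, hn⟩)
        · rw [hC]
          have h1 : x * x * x⁻¹ * x⁻¹ = 1 := by group
          rw [h1]; exact R'.one_mem
      intro b
      exact (hC b).mp (by rw [hCtop]; exact Subgroup.mem_top b)
    have hn_all : ∀ (n : N) (b : P), (n : P) * b * (n : P)⁻¹ * b⁻¹ ∈ R' := by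
      intro n
      obtain ⟨C, hC⟩ := commSub R' (n : P)
      have hCtop : C = ⊤ := by
        apply top_of_max hpp N hN x hx
        · intro m hm
          exact (hC m).mpr (hc' n ⟨m, hm⟩)
        · exact (hC x).mpr (hsym _ _ (hx_all n))
      intro b
      exact (hC b).mp (by rw [hCtop]; exact Subgroup.mem_top b)
    intro a b
    obtain ⟨C, hC⟩ := commSub R' b
    have hCtop : C = ⊤ := by
      apply top_of_max hpp N hN x hx
      · intro n hn
        exact (hC n).mpr (hsym _ _ (hn_all ⟨n, hn⟩ b))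
      · exact (hC x).mpr (hsym _ _ (hx_all b))
    exact hsym _ _ ((hC a).mp (by rw [hCtop]; exact Subgroup.mem_top a))
  have hPR : ∀ n : N, (n : P) ∈ commutator P → Abelianization.of n ∈ φ.range := by
    intro n hn
    have h1 : commutator P ≤ R' := by
      rw [commutator_def, Subgroup.commutator_le]
      intro a _ b _
      rw [commutatorElement_def]
      exact hall a b
    obtain ⟨m, hm, hmn⟩ := (hR'mem _).mp (h1 hn)
    have h2 : m = n := Subtype.ext hmn
    rw [← h2]; exact hm
  have hkey : (commutator P).subgroupOf N = φ.range.comap Abelianization.of := by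
    ext n
    rw [Subgroup.mem_subgroupOf, Subgroup.mem_comap]
    exact ⟨hPR n, hRP n⟩
  have hidx1 : (commutator P).relIndex N * N.index = (commutator P).index :=
    Subgroup.relIndex_mul_index hPN
  have hidx2 : (commutator P).relIndex N = φ.range.index := by
    show ((commutator P).subgroupOf N).index = _
    rw [hkey]
    exact Subgroup.index_comap_of_surjective _ hsurj
  have h1 : Nat.card φ.ker * Nat.card φ.range = Nat.card N := by
    have h := Subgroup.card_mul_index φ.ker
    rwa [Subgroup.index_ker] at h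
  have h2 : Nat.card φ.range * φ.range.index = Nat.card (Abelianization N) :=
    Subgroup.card_mul_index φ.range
  have h3 : Nat.card N = Nat.card (Abelianization N) * Nat.card (commutator N) :=
    Subgroup.card_eq_card_quotient_mul_card_subgroup (commutator N)
  have hrpos : 0 < Nat.card φ.range := Nat.card_pos
  have h5 : Nat.card φ.range * (φ.range.index * Nat.card (commutator N)) =
      Nat.card φ.range * Nat.card φ.ker := by
    rw [← mul_assoc, h2, ← h3, ← h1, mul_comm]
  have h6 : φ.range.index * Nat.card (commutator N) = Nat.card φ.ker :=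
    Nat.eq_of_mul_eq_mul_left hrpos h5
  rw [hc, ← hidx1, hidx2, hN, ← h6]
  ring

/-- Let p be a prime, P a finite p-group and N a normal subgroup of P of index p. For x ∈ P write c(x) for the number of elements n of N whose commutator x n x⁻¹ n⁻¹ lies in the derived subgroup N' (so c(x)/#N' is the order of the centralizer of x acting on N/N'). Then [P : P'] = p² if and only if c(x) = p·#N' for every x ∈ P outside N, and also if and only if c(x) = p·#N' for some x ∈ P outside N. -/
theorem result {P : Type*} [Group P] [Finite P] (p : ℕ) [Fact p.Prime] (hP : IsPGroup p P) (N : Subgroup P) [N.Normal] (hN : N.index = p) :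
    ((commutator P).index = p ^ 2 ↔ ∀ x : P, x ∉ N →
        Nat.card {n : N // x * n * x⁻¹ * (n : P)⁻¹ ∈ (commutator N).map N.subtype} = p * Nat.card (commutator N)) ∧
    ((commutator P).index = p ^ 2 ↔ ∃ x : P, x ∉ N ∧
        Nat.card {n : N // x * n * x⁻¹ * (n : P)⁻¹ ∈ (commutator N).map N.subtype} = p * Nat.card (commutator N)) := by
  classical
  have hpp : p.Prime := Fact.out
  have hkpos : 0 < Nat.card (commutator N) := Nat.card_pos
  obtain ⟨x₀, hx₀⟩ : ∃ x : P, x ∉ N := by
    by_contra hall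
    push_neg at hall
    have h1 : N = ⊤ := (Subgroup.eq_top_iff' N).mpr hall
    rw [h1, Subgroup.index_top] at hN
    exact hpp.one_lt.ne hN
  have hiff : ∀ x : P, x ∉ N → ((commutator P).index = p ^ 2 ↔
      Nat.card {n : N // x * n * x⁻¹ * (n : P)⁻¹ ∈ (commutator N).map N.subtype} =
        p * Nat.card (commutator N)) := by
    intro x hx
    have h := key p N hN x hx
    constructor
    · intro h1
      rw [h1] at h
      exact Nat.eq_of_mul_eq_mul_left hpp.pos (h.symm.trans (by ring))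
    · intro h1
      rw [h1] at h
      exact Nat.eq_of_mul_eq_mul_left hkpos ((mul_comm _ _).trans (h.trans (by ring)))
  exact ⟨⟨fun h x hx => (hiff x hx).mp h, fun h => (hiff x₀ hx₀).mpr (h x₀ hx₀)⟩,
    ⟨fun h => ⟨x₀, hx₀, (hiff x₀ hx₀).mp h⟩, fun ⟨x, hx, h⟩ => (hiff x hx).mpr h⟩⟩


end Cfsg.Agent.S4586
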