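import Cfsg.Statements.S5299
import Mathlib
import Cfsg.Agent.Helper9.Sections9
import Cfsg.Agent.Helper9.SylowConj
open Cfsg.Agent.Helper9

set_option autoImplicit false
universe u
open Cfsg

namespace Cfsg.Agent.S5299

/-- Let F be a saturated fusion system over a finite p-group S, H a finite group and Q a p-subgroup of H. If Q is not involved in S (no section of S is isomorphic to Q), then F is H-free: H is involved in no model of the normalizer system of a fully normalized centric subgroup. -/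
theorem result {Ω : Type u} [Group Ω] {S : Subgroup Ω} [Finite S] (p : ℕ) [Fact p.Prime] (hS : IsPGroup p S)
    (F : Cfsg.FusionSystem S) (hF : F.IsSaturated p) (H : Type*) [Group H] [Finite H] (Q : Subgroup H) (hQ : IsPGroup p Q)
    (hfree : ¬ Cfsg.Involves (↥Q) (↥S)) : F.IsSectionFree p H := by
  intro Q0 hQ0 hQ0c N hN L _ ι hmodel hinv
  apply hfree
  obtain ⟨hfin, ⟨hιinj, -⟩, ⟨TL, hTL⟩, -⟩ := hmodel
  obtain ⟨K, f1, hf1⟩ := span_of_involves hinv
  obtain ⟨P, hP, hPQ⟩ := exists_pSubgroup_map_eq p f1 hf1 Q hQ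
  have hPL : IsPGroup p (P.map K.subtype) := hP.map _
  obtain ⟨g, hg⟩ := exists_conj_mem_sylow9 TL hPL
  have hconj : ∀ t : P, ∃ s : Cfsg.FusionSystem.normalizerIn S Q0, g * ((t : K) : L) * g⁻¹ = ι s := by
    intro t
    have h2 := hg ((t : K) : L) ⟨(t : K), t.2, rfl⟩
    have h3 : g * ((t : K) : L) * g⁻¹ ∈ ι.range := by
      rw [← hTL]
      exact h2
    obtain ⟨s, hs⟩ := h3
    exact ⟨s, hs.symm⟩
  let u : (P × Cfsg.FusionSystem.normalizerIn S Q0) →* L :=
    ((MulAut.conj g).toMonoidHom.comp (K.subtype.comp P.subtype)).comp (MonoidHom.fst _ _)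
  let v : (P × Cfsg.FusionSystem.normalizerIn S Q0) →* L := ι.comp (MonoidHom.snd _ _)
  have hN_le : Cfsg.FusionSystem.normalizerIn S Q0 ≤ S := inf_le_left
  let j5 : (MonoidHom.eqLocus u v) →* S :=
    (Subgroup.inclusion hN_le).comp ((MonoidHom.snd _ _).comp (MonoidHom.eqLocus u v).subtype)
  have hfP : ∀ t : P, f1 (t : K) ∈ Q := by
    intro t
    rw [← hPQ]
    exact ⟨_, t.2, rfl⟩
  let f0 : P →* Q := (f1.comp P.subtype).codRestrict Q hfP
  let f5 : (MonoidHom.eqLocus u v) →* Q :=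
    f0.comp ((MonoidHom.fst _ _).comp (MonoidHom.eqLocus u v).subtype)
  apply involves_of_span j5 f5
  · intro a b hab
    have h2 : a.1.2 = b.1.2 := Subgroup.inclusion_injective hN_le hab
    have ha : g * ((a.1.1 : K) : L) * g⁻¹ = ι a.1.2 := a.2
    have hb : g * ((b.1.1 : K) : L) * g⁻¹ = ι b.1.2 := b.2
    rw [h2, ← hb] at ha
    have h1 : ((a.1.1 : K) : L) = ((b.1.1 : K) : L) := by
      have := congrArg (fun c => g⁻¹ * c * g) ha
      simpa [mul_assoc] using this
    exact Subtype.ext (Prod.ext (Subtype.ext (Subtype.ext h1)) h2)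
  · intro q
    have hq : (q : H) ∈ P.map f1 := by
      rw [hPQ]
      exact q.2
    obtain ⟨t, ht, htq⟩ := hq
    obtain ⟨s, hs⟩ := hconj ⟨t, ht⟩
    exact ⟨⟨(⟨t, ht⟩, s), hs⟩, Subtype.ext htq⟩


end Cfsg.Agent.S5299
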