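import Cfsg.Statements.S5522
import Mathlib
import Cfsg.Agent.Helper9.M24Fix2
import Cfsg.Agent.Helper9.M24Hexad
import Cfsg.Agent.Helper9.M24Dodecad
open Cfsg.Agent.Helper9 Cfsg.Agent.Helper1.Golay
open scoped Pointwise

set_option autoImplicit false
open Cfsg

namespace Cfsg.Agent.S5522

/-- The Mathieu group M₁₁, realised as the stabiliser of one point of the dodecad of squares inside the stabiliser M₁₂ of that dodecad in M₂₄, acts on the twelve coordinate positions outside the dodecad of squares (its 3-transitive action of degree 12); in this action every element of prime order fixes a point, i.e. the action is elusive. -/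
theorem result (g : Equiv.Perm Cfsg.GolayPt) (hg : g ∈ Cfsg.Spor.M11) (hord : (orderOf g).Prime) :
    ∃ x : Cfsg.GolayPt, x ∉ Cfsg.Spor.squareDodecad ∧ g x = x := by
  classical
  obtain ⟨hgM, hgD, hg0⟩ := (mem_M11_iff g).mp hg
  have hD := squareDodecad_mem
  have hD12 : Cfsg.Spor.squareDodecad.card = 12 := hD.2
  by_contra hno
  push_neg at hno
  have hr : g ^ orderOf g = 1 := pow_orderOf_eq_one g
  have : Fact (orderOf g).Prime := ⟨hord⟩
  have hDinv : ∀ a, g a ∈ Cfsg.Spor.squareDodecad ↔ a ∈ Cfsg.Spor.squareDodecad :=
    mem_iff_of_smul_eq hgD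
  have hDcinv : ∀ a, g a ∈ Finset.univ \ Cfsg.Spor.squareDodecad ↔
      a ∈ Finset.univ \ Cfsg.Spor.squareDodecad := by
    intro a
    simp only [Finset.mem_sdiff, Finset.mem_univ, true_and]
    exact not_congr (hDinv a)
  have h1 := card_moved_dvd g (Finset.univ \ Cfsg.Spor.squareDodecad) hDcinv (orderOf g) hr
  have e1 : (Finset.univ \ Cfsg.Spor.squareDodecad).filter (fun a => g a ≠ a)
      = Finset.univ \ Cfsg.Spor.squareDodecad := by
    apply Finset.filter_true_of_mem
    intro a ha
    exact hno a (Finset.mem_sdiff.mp ha).2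
  rw [e1, Finset.card_sdiff_of_subset (Finset.subset_univ _), Finset.card_univ, card_golayPt,
    hD12] at h1
  have h2 := card_moved_dvd g Cfsg.Spor.squareDodecad hDinv (orderOf g) hr
  have hsum := Finset.card_filter_add_card_filter_not (s := Cfsg.Spor.squareDodecad)
    (fun a => g a = a)
  rw [hD12] at hsum
  have efix : Finset.univ.filter (fun a => g a = a)
      = Cfsg.Spor.squareDodecad.filter (fun a => g a = a) := by
    ext a
    simp only [Finset.mem_filter, Finset.mem_univ, true_and]
    constructor
    · intro ha
      refine ⟨?_, ha⟩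
      by_contra hna
      exact hno a hna ha
    · intro ha
      exact ha.2
  have hge : 1 ≤ (Cfsg.Spor.squareDodecad.filter (fun a => g a = a)).card :=
    Finset.card_pos.mpr ⟨some 0, Finset.mem_filter.mpr ⟨zero_mem_squareDodecad, hg0⟩⟩
  have hle : (Cfsg.Spor.squareDodecad.filter (fun a => g a = a)).card ≤ 4 := by
    by_contra hlt
    have h5 : 5 ≤ (Cfsg.Spor.squareDodecad.filter (fun a => g a = a)).card := by omega
    have htriv := m12_trivial_of_fix hD (g := ⟨g, hgM⟩)
      (MulAction.mem_stabilizer_iff.mpr hgD) _ (Finset.filter_subset _ _) h5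
      (fun p hp => (Finset.mem_filter.mp hp).2)
    have hg1 : g = 1 := congrArg Subtype.val htriv
    rw [hg1, orderOf_one] at hord
    exact Nat.not_prime_one hord
  have hle12 : orderOf g ≤ 12 := Nat.le_of_dvd (by norm_num) h1
  have h23 : orderOf g = 2 ∨ orderOf g = 3 := by
    have hp := hord
    generalize orderOf g = r at h1 hp hle12
    interval_cases r <;> first | omega | (exfalso; revert hp; decide) | (exfalso; revert h1; decide)
  have h2' : orderOf g ∣ (Cfsg.Spor.squareDodecad.filter (fun a => ¬ g a = a)).card := h2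
  rcases h23 with hr2 | hr3
  · rw [hr2] at hr h2'
    have hcases : (Cfsg.Spor.squareDodecad.filter (fun a => g a = a)).card = 2 ∨
        (Cfsg.Spor.squareDodecad.filter (fun a => g a = a)).card = 4 := by omega
    rcases hcases with hc | hc
    · exact no_two_fixed hgM hr (by rw [efix]; exact hc)
    · exact no_four_fixed hgM hr (by rw [efix]; exact hc)
  · rw [hr3] at hr h2'
    have hc : (Cfsg.Spor.squareDodecad.filter (fun a => g a = a)).card = 3 := by omega
    exact no_three_fixed hgM hr (by rw [efix]; exact hc)


end Cfsg.Agent.S5522
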