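import Cfsg.Statements.S5727
import Cfsg.Agent.Helper9.PermAction

set_option autoImplicit false
open Cfsg

namespace Cfsg.Agent.S5727

/-- If a finite group acts faithfully and transitively on a set with m·p elements, where p is a prime and 1 ≤ m ≤ p, then some element of order p fixes no point. -/
theorem result {G Ω : Type*} [Group G] [Finite G] [MulAction G Ω] [FaithfulSMul G Ω] [Fintype Ω] (htr : MulAction.IsPretransitive G Ω)
    (p m : ℕ) (hp : p.Prime) (hm : 1 ≤ m) (hmp : m ≤ p) (hΩ : Fintype.card Ω = m * p) :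
    ∃ g : G, orderOf g = p ∧ ∀ ω : Ω, g • ω ≠ ω := by
  have : Fact p.Prime := ⟨hp⟩
  rcases Nat.lt_or_ge m p with h | h
  · exact Cfsg.Agent.Helper9.exists_fpf_of_mul_prime p m hm h (by rw [Nat.card_eq_fintype_card, hΩ])
  · have hm' : m = p := le_antisymm hmp h
    subst hm'
    exact Cfsg.Agent.Helper9.exists_fpf_of_prime_pow m 2 (by norm_num)
      (by rw [Nat.card_eq_fintype_card, hΩ, pow_two])

end Cfsg.Agent.S5727
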