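import Cfsg.Statements.S5728
import Mathlib

set_option autoImplicit false
open Cfsg

namespace Cfsg.Agent.S5728

theorem conj_aff {F : Type*} [Field F] (g : Equiv.Perm F) (α : Fˣ) (β : F)
    (hg : ∀ x, g x = (α : F) * x + β) (u : Fˣ) (c : F) :
    ∃ x ∈ Cfsg.affineGroup F, ∀ y, (x * g * x⁻¹) y = (α : F) * y + ((u : F) * β + (1 - (α : F)) * c) := by
  let x : Equiv.Perm F :=
    { toFun := fun y => (u : F) * y + c
      invFun := fun y => ((u⁻¹ : Fˣ) : F) * (y - c)
      left_inv := fun y => by simp
      right_inv := fun y => by simp }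
  refine ⟨x, ⟨u, c, fun y => rfl⟩, fun y => ?_⟩
  have hu : (u : F) * ((u⁻¹ : Fˣ) : F) = 1 := Units.mul_inv u
  show x (g (x.symm y)) = _
  rw [hg]
  show (u : F) * ((α : F) * (((u⁻¹ : Fˣ) : F) * (y - c)) + β) + c = _
  linear_combination ((α : F) * (y - c)) * hu

theorem pow_aff {F : Type*} [Field F] (g : Equiv.Perm F) (α β : F)
    (hg : ∀ x, g x = α * x + β) (n : ℕ) (y : F) : (g ^ n) y - (g ^ n) 0 = α ^ n * y := by
  induction n with
  | zero => simp
  | succ n ih =>
    rw [pow_succ', Equiv.Perm.mul_apply, Equiv.Perm.mul_apply, hg, hg ((g ^ n) 0)]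
    linear_combination α * ih

theorem arith (p s : ℕ) (hp : 1 ≤ p) (hs : p = 2 ^ s - 1) : p ^ 2 - 1 = (p - 1) * 2 ^ s := by
  have h2 : 2 ^ s = p + 1 := by
    have := Nat.one_le_two_pow (n := s)
    omega
  rw [h2]
  have h3 : p ^ 2 = (p - 1) * (p + 1) + 1 := by
    obtain ⟨k, rfl⟩ : ∃ k, p = k + 1 := ⟨p - 1, by omega⟩
    simp only [Nat.add_sub_cancel]
    ring
  exact Nat.sub_eq_of_eq_add h3

/-- An elusive transitive action. Let p = 2^s − 1 be a prime and let F be the field with p² elements. Inside the group of affine maps x ↦ a·x + b of F (a ≠ 0), consider the subgroup of maps with both coefficients in the prime field. Then every element of prime order of the affine group is conjugate, within the affine group, to an element of that subgroup; equivalently, in the transitive action of the affine group on the cosets of that subgroup (of degree p(p + 1)) every element of prime order fixes a point. -/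
theorem result (p s : ℕ) [Fact p.Prime] (hs : p = 2 ^ s - 1)
    (g : Equiv.Perm (GaloisField p 2)) (hg : g ∈ Cfsg.affineGroup (GaloisField p 2)) (hord : (orderOf g).Prime) :
    ∃ x ∈ Cfsg.affineGroup (GaloisField p 2), ∃ a b : ZMod p, a ≠ 0 ∧
      ∀ y : GaloisField p 2, (x * g * x⁻¹) y = algebraMap (ZMod p) (GaloisField p 2) a * y + algebraMap (ZMod p) (GaloisField p 2) b := by
  have hp : p.Prime := Fact.out
  obtain ⟨α, β, hαβ⟩ := hg
  by_cases h1 : (α : GaloisField p 2) = 1
  · by_cases hβ : β = 0
    · obtain ⟨x, hx, hxy⟩ := conj_aff g α β hαβ 1 0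
      refine ⟨x, hx, 1, 0, one_ne_zero, fun y => ?_⟩
      rw [hxy y, h1, hβ]
      simp
    · obtain ⟨x, hx, hxy⟩ := conj_aff g α β hαβ (Units.mk0 β hβ)⁻¹ 0
      refine ⟨x, hx, 1, 1, one_ne_zero, fun y => ?_⟩
      rw [hxy y, h1]
      simp [hβ]
  · -- α ≠ 1: α lies in the prime field
    have hpow : ∀ n : ℕ, ∀ y : GaloisField p 2, (g ^ n) y - (g ^ n) 0 = (α : GaloisField p 2) ^ n * y :=
      fun n y => pow_aff g α β hαβ n y
    have hr1 : (α : GaloisField p 2) ^ orderOf g = 1 := by
      have := hpow (orderOf g) 1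
      rw [pow_orderOf_eq_one] at this
      simpa using this.symm
    have hαr : α ^ orderOf g = 1 := by
      apply Units.ext
      rw [Units.val_pow_eq_pow_val, hr1, Units.val_one]
    have hα1 : α ≠ 1 := fun h => h1 (by rw [h, Units.val_one])
    haveI : Fact (orderOf g).Prime := ⟨hord⟩
    have hoα : orderOf α = orderOf g := orderOf_eq_prime hαr hα1
    have hdvd : orderOf g ∣ p ^ 2 - 1 := by
      have h := orderOf_dvd_natCard α
      rw [Nat.card_units, GaloisField.card p 2 (by norm_num), hoα] at h
      exact h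
    rw [arith p s hp.one_lt.le hs] at hdvd
    have hmem : ∃ n : ℤ, (n : GaloisField p 2) = (α : GaloisField p 2) := by
      rcases (Nat.Prime.dvd_mul hord).mp hdvd with h | h
      · have hp1 : (α : GaloisField p 2) ^ (p - 1) = 1 := by
          have : α ^ (p - 1) = 1 := by
            rw [← hoα] at h
            exact orderOf_dvd_iff_pow_eq_one.mp h
          rw [← Units.val_pow_eq_pow_val, this, Units.val_one]
        have h' := pow_succ (α : GaloisField p 2) (p - 1)
        rw [Nat.sub_add_cancel hp.one_lt.le, hp1, one_mul] at h'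
        exact (mem_bot_iff_intCast p (GaloisField p 2)).mp
          ((Subfield.mem_bot_iff_pow_eq_self (GaloisField p 2) p).mpr h')
      · have h2 : orderOf g = 2 :=
          (Nat.prime_dvd_prime_iff_eq hord Nat.prime_two).mp (hord.dvd_of_dvd_pow h)
        rw [h2] at hr1
        have : ((α : GaloisField p 2) - 1) * ((α : GaloisField p 2) + 1) = 0 := by
          linear_combination hr1
        rcases mul_eq_zero.mp this with h3 | h3
        · exact absurd (sub_eq_zero.mp h3) h1
        · refine ⟨-1, ?_⟩
          rw [Int.cast_neg, Int.cast_one]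
          linear_combination -h3
    obtain ⟨n, hn⟩ := hmem
    have h1α : (1 - (α : GaloisField p 2)) ≠ 0 := sub_ne_zero.mpr (Ne.symm h1)
    obtain ⟨x, hx, hxy⟩ := conj_aff g α β hαβ 1 (-β * (1 - (α : GaloisField p 2))⁻¹)
    refine ⟨x, hx, (n : ZMod p), 0, ?_, fun y => ?_⟩
    · intro h0
      have : (α : GaloisField p 2) = 0 := by
        rw [← hn, ← map_intCast (algebraMap (ZMod p) (GaloisField p 2)) n, h0, map_zero]
      exact α.ne_zero this
    · rw [hxy y, map_zero, add_zero, map_intCast, hn]
      have : (1 - (α : GaloisField p 2)) * (-β * (1 - (α : GaloisField p 2))⁻¹) = -β := by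
        field_simp
      rw [this]
      simp


end Cfsg.Agent.S5728
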